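import Mathlib
import Cfsg.Prelude.Def_RootSubgroups
set_option autoImplicit false

/-!
Rank one groups in the sense of Timmesfeld: basic facts about `Cfsg.IsRankOnePair`, the set of
unipotent subgroups, and the action of `A ⊔ B` on it.
-/

namespace CfsgLib.RootGroups

open Cfsg (conjBy unipotentSubgroups)

variable {G : Type*} [Group G]

/-! ### Conjugates of subgroups -/

theorem mem_conjBy {A : Subgroup G} {g x : G} : x ∈ conjBy A g ↔ g⁻¹ * x * g ∈ A := by
  constructor
  · rintro ⟨a, ha, rfl⟩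
    simpa [mul_assoc] using ha
  · intro h
    exact ⟨g⁻¹ * x * g, h, by simp [mul_assoc]⟩

theorem conj_mem_conjBy {A : Subgroup G} {g x : G} (hx : x ∈ A) : g * x * g⁻¹ ∈ conjBy A g := by
  rw [mem_conjBy]; simpa [mul_assoc] using hx

theorem conjBy_conjBy (A : Subgroup G) (g h : G) : conjBy (conjBy A g) h = conjBy A (h * g) := by
  ext x; simp only [mem_conjBy, mul_inv_rev, mul_assoc]

theorem conjBy_one (A : Subgroup G) : conjBy A 1 = A := by
  ext x; simp [mem_conjBy]

theorem conjBy_inv_conjBy (A : Subgroup G) (g : G) : conjBy (conjBy A g) g⁻¹ = A := by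
  rw [conjBy_conjBy, inv_mul_cancel, conjBy_one]

theorem conjBy_conjBy_inv (A : Subgroup G) (g : G) : conjBy (conjBy A g⁻¹) g = A := by
  rw [conjBy_conjBy, mul_inv_cancel, conjBy_one]

theorem conjBy_eq_iff {A C : Subgroup G} {g : G} : conjBy A g = C ↔ A = conjBy C g⁻¹ := by
  constructor
  · rintro rfl; rw [conjBy_inv_conjBy]
  · rintro rfl; rw [conjBy_conjBy_inv]

theorem conjBy_inj {A C : Subgroup G} {g : G} : conjBy A g = conjBy C g ↔ A = C := by
  rw [conjBy_eq_iff, conjBy_inv_conjBy]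

theorem conjBy_eq_self {A : Subgroup G} {g : G} (hg : g ∈ A) : conjBy A g = A := by
  ext x
  rw [mem_conjBy]
  constructor
  · intro h
    have := A.mul_mem (A.mul_mem hg h) (A.inv_mem hg)
    simpa [mul_assoc] using this
  · intro h
    exact A.mul_mem (A.mul_mem (A.inv_mem hg) h) hg

theorem conjBy_mono {A C : Subgroup G} (g : G) (h : A ≤ C) : conjBy A g ≤ conjBy C g :=
  Subgroup.map_mono h

theorem conjBy_le_of_mem {A Y : Subgroup G} (h : A ≤ Y) {g : G} (hg : g ∈ Y) : conjBy A g ≤ Y :=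
  (conjBy_mono g h).trans (le_of_eq (conjBy_eq_self hg))

theorem mem_normalizer_iff_conjBy {A : Subgroup G} {g : G} :
    g ∈ Subgroup.normalizer (A : Set G) ↔ conjBy A g = A := by
  rw [Subgroup.mem_normalizer_iff]
  constructor
  · intro h
    ext x
    rw [mem_conjBy, h (g⁻¹ * x * g)]
    simp [mul_assoc]
  · intro h x
    constructor
    · intro hx
      rw [← h]; exact conj_mem_conjBy hx
    · intro hx
      rw [← h, mem_conjBy] at hx
      simpa [mul_assoc] using hx

theorem conjBy_eq_self_of_commute {A : Subgroup G} {g : G} (h : ∀ a ∈ A, g * a = a * g) :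
    conjBy A g = A := by
  ext x
  rw [mem_conjBy]
  constructor
  · intro hx
    have := h _ hx
    have h2 : g⁻¹ * x * g = x := by
      have h3 : g⁻¹ * x * g = g * (g⁻¹ * x * g) * g⁻¹ := by rw [this]; group
      rw [h3]; group
    rwa [h2] at hx
  · intro hx
    have : g⁻¹ * x * g = x := by rw [mul_assoc, ← h x hx]; group
    rwa [this]

theorem conjBy_sup (A C : Subgroup G) (g : G) : conjBy (A ⊔ C) g = conjBy A g ⊔ conjBy C g :=
  Subgroup.map_sup A C _

theorem conjBy_commutator (A C : Subgroup G) (g : G) :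
    conjBy ⁅A, C⁆ g = ⁅conjBy A g, conjBy C g⁆ :=
  Subgroup.map_commutator A C _

theorem conjBy_bot (g : G) : conjBy (⊥ : Subgroup G) g = ⊥ := Subgroup.map_bot _

theorem isNilpotent_conjBy {A : Subgroup G} (h : Group.IsNilpotent A) (g : G) :
    Group.IsNilpotent (conjBy A g) := by
  haveI := h
  exact Group.nilpotent_of_mulEquiv
    (A.equivMapOfInjective (MulAut.conj g).toMonoidHom (MulAut.conj g).injective)

theorem isRankOnePair_conjBy {A B : Subgroup G} (h : Cfsg.IsRankOnePair A B) (g : G) :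
    Cfsg.IsRankOnePair (conjBy A g) (conjBy B g) := by
  have key : ∀ {P Q : Subgroup G}, Cfsg.RankOneCondition P Q →
      Cfsg.RankOneCondition (conjBy P g) (conjBy Q g) := by
    intro P Q hPQ x hx hx1
    obtain ⟨b, hb, hb1, heq⟩ := hPQ (g⁻¹ * x * g) (mem_conjBy.mp hx)
      (by intro h0; apply hx1; simpa [mul_assoc] using congrArg (fun y => g * y * g⁻¹) h0)
    refine ⟨g * b * g⁻¹, conj_mem_conjBy hb, ?_, ?_⟩
    · intro h0; exact hb1 (by simpa [mul_assoc] using congrArg (fun y => g⁻¹ * y * g) h0)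
    · rw [conjBy_conjBy, conjBy_conjBy]
      have e1 : (g * b * g⁻¹)⁻¹ * g = g * b⁻¹ := by group
      have e2 : x⁻¹ * g = g * (g⁻¹ * x * g)⁻¹ := by group
      rw [e1, e2, ← conjBy_conjBy, ← conjBy_conjBy, heq]
  exact ⟨fun e => h.ne (conjBy_inj.mp e), isNilpotent_conjBy h.nilpotent_left g,
    isNilpotent_conjBy h.nilpotent_right g, key h.cond_left, key h.cond_right⟩

/-! ### Rank one pairs -/

variable {A B : Subgroup G}

theorem rankOne_conj_ne (h : Cfsg.IsRankOnePair A B) {a : G} (ha : a ∈ A) (ha1 : a ≠ 1) :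
    conjBy B a ≠ B := by
  intro he
  obtain ⟨b, hb, -, heq⟩ := h.cond_left a ha ha1
  rw [(conjBy_eq_iff.mp he).symm] at heq
  have := congrArg (fun S => conjBy S b) heq
  simp only [conjBy_conjBy_inv, conjBy_eq_self hb] at this
  exact h.ne this

theorem rankOne_eq_one_of_normalize (h : Cfsg.IsRankOnePair A B) {a : G} (ha : a ∈ A)
    (he : conjBy B a = B) : a = 1 := by
  by_contra ha1; exact rankOne_conj_ne h ha ha1 he

theorem rankOne_inf_normalizer (h : Cfsg.IsRankOnePair A B) :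
    A ⊓ Subgroup.normalizer (B : Set G) = ⊥ := by
  rw [Subgroup.eq_bot_iff_forall]
  intro x hx
  exact rankOne_eq_one_of_normalize h hx.1 (mem_normalizer_iff_conjBy.mp hx.2)

theorem rankOne_left_ne_bot (h : Cfsg.IsRankOnePair A B) : A ≠ ⊥ := by
  intro hA
  apply h.ne
  rw [hA, eq_comm, Subgroup.eq_bot_iff_forall]
  intro b hb
  by_contra hb1
  obtain ⟨a, ha, ha1, -⟩ := h.cond_right b hb hb1
  rw [hA, Subgroup.mem_bot] at ha
  exact ha1 ha

theorem exists_ne_one_mem {A : Subgroup G} (h : A ≠ ⊥) : ∃ a ∈ A, a ≠ 1 := by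
  by_contra hc
  push Not at hc
  exact h (A.eq_bot_iff_forall.mpr hc)

theorem rankOne_disjoint (h : Cfsg.IsRankOnePair A B) : A ⊓ B = ⊥ := by
  rw [Subgroup.eq_bot_iff_forall]
  intro x hx
  exact rankOne_eq_one_of_normalize h hx.1 (conjBy_eq_self hx.2)

theorem rankOne_noncomm (h : Cfsg.IsRankOnePair A B) {a : G} (ha : a ∈ A)
    (hc : ∀ b ∈ B, a * b = b * a) : a = 1 :=
  rankOne_eq_one_of_normalize h ha (conjBy_eq_self_of_commute hc)

theorem rankOne_commutator_ne_bot (h : Cfsg.IsRankOnePair A B) : ⁅A, B⁆ ≠ ⊥ := by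
  intro hc
  obtain ⟨a, ha, ha1⟩ := exists_ne_one_mem (rankOne_left_ne_bot h)
  refine ha1 (rankOne_noncomm h ha ?_)
  intro b hb
  have := Subgroup.commutator_mem_commutator ha hb
  rw [hc, Subgroup.mem_bot] at this
  exact commutatorElement_eq_one_iff_mul_comm.mp this

theorem rankOne_partner_unique (h : Cfsg.IsRankOnePair A B) {b b' : G} (hb : b ∈ B) (hb' : b' ∈ B)
    (he : conjBy A b⁻¹ = conjBy A b'⁻¹) : b = b' := by
  have h2 := congrArg (fun S => conjBy S b') he
  simp only [conjBy_conjBy, mul_inv_cancel, conjBy_one] at h2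
  have := rankOne_eq_one_of_normalize (Cfsg.RankOnePair_symm h) (B.mul_mem hb' (B.inv_mem hb)) h2
  exact (mul_inv_eq_one.mp this).symm

/-! ### The unipotent subgroups -/

theorem self_mem_unipotent (A B : Subgroup G) : A ∈ unipotentSubgroups A B :=
  ⟨1, (A ⊔ B).one_mem, (conjBy_one A).symm⟩

theorem conjBy_mem_unipotent {C : Subgroup G} (hC : C ∈ unipotentSubgroups A B) {x : G}
    (hx : x ∈ A ⊔ B) : conjBy C x ∈ unipotentSubgroups A B := by
  obtain ⟨y, hy, rfl⟩ := hC
  exact ⟨x * y, mul_mem hx hy, conjBy_conjBy A y x⟩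

theorem unipotent_le {C : Subgroup G} (hC : C ∈ unipotentSubgroups A B) : C ≤ A ⊔ B := by
  obtain ⟨y, hy, rfl⟩ := hC
  exact conjBy_le_of_mem le_sup_left hy

theorem right_mem_unipotent (h : Cfsg.IsRankOnePair A B) : B ∈ unipotentSubgroups A B := by
  obtain ⟨a, ha, ha1⟩ := exists_ne_one_mem (rankOne_left_ne_bot h)
  obtain ⟨b, hb, -, heq⟩ := h.cond_left a ha ha1
  refine ⟨a * b⁻¹, mul_mem (Subgroup.mem_sup_left ha)
    (Subgroup.mem_sup_right (B.inv_mem hb)), ?_⟩
  rw [← conjBy_conjBy, heq, conjBy_conjBy_inv]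

theorem unipotent_symm (h : Cfsg.IsRankOnePair A B) :
    unipotentSubgroups B A = unipotentSubgroups A B := by
  have key : ∀ {P Q : Subgroup G}, Cfsg.IsRankOnePair P Q →
      ∀ C ∈ unipotentSubgroups Q P, C ∈ unipotentSubgroups P Q := by
    rintro P Q hPQ C ⟨x, hx, rfl⟩
    exact conjBy_mem_unipotent (right_mem_unipotent hPQ) (sup_comm Q P ▸ hx)
  ext C
  exact ⟨key h C, key (Cfsg.RankOnePair_symm h) C⟩

theorem mem_unipotent_iff (h : Cfsg.IsRankOnePair A B) {C : Subgroup G} :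
    C ∈ unipotentSubgroups A B ↔ C = A ∨ ∃ a ∈ A, C = conjBy B a := by
  constructor
  · rintro ⟨x, hx, rfl⟩
    have main : ∀ x ∈ A ⊔ B, ∀ D : Subgroup G, (D = A ∨ ∃ a ∈ A, D = conjBy B a) →
        (conjBy D x = A ∨ ∃ a ∈ A, conjBy D x = conjBy B a) := by
      intro x hx
      rw [Subgroup.sup_eq_closure] at hx
      have stepA : ∀ a₀ ∈ A, ∀ D : Subgroup G, (D = A ∨ ∃ a ∈ A, D = conjBy B a) →
          (conjBy D a₀ = A ∨ ∃ a ∈ A, conjBy D a₀ = conjBy B a) := by
        rintro a₀ ha₀ D (rfl | ⟨a, ha, rfl⟩)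
        · exact Or.inl (conjBy_eq_self ha₀)
        · exact Or.inr ⟨a₀ * a, mul_mem ha₀ ha, conjBy_conjBy B a a₀⟩
      have stepB₀ : ∀ b ∈ B, (conjBy A b = A ∨ ∃ a ∈ A, conjBy A b = conjBy B a) := by
        intro b hb
        by_cases hb1 : b = 1
        · exact Or.inl (by rw [hb1, conjBy_one])
        · obtain ⟨a, ha, -, heq⟩ := h.cond_right b⁻¹ (B.inv_mem hb) (inv_ne_one.mpr hb1)
          rw [inv_inv] at heq
          exact Or.inr ⟨a⁻¹, A.inv_mem ha, heq.symm⟩
      have stepB : ∀ b ∈ B, ∀ D : Subgroup G, (D = A ∨ ∃ a ∈ A, D = conjBy B a) →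
          (conjBy D b = A ∨ ∃ a ∈ A, conjBy D b = conjBy B a) := by
        rintro b hb D (rfl | ⟨a, ha, rfl⟩)
        · exact stepB₀ b hb
        · by_cases ha1 : a = 1
          · refine Or.inr ⟨1, A.one_mem, ?_⟩
            rw [ha1, conjBy_one, conjBy_eq_self hb]
          · obtain ⟨c, hc, -, heq⟩ := h.cond_left a⁻¹ (A.inv_mem ha) (inv_ne_one.mpr ha1)
            rw [inv_inv] at heq
            rw [← heq, conjBy_conjBy]
            exact stepB₀ _ (B.mul_mem hb (B.inv_mem hc))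
      induction hx using Subgroup.closure_induction'' with
      | mem y hy =>
        rcases hy with hy | hy
        · exact stepA y hy
        · exact stepB y hy
      | one => intro D hD; rwa [conjBy_one]
      | mul y _ z _ ihy ihz =>
        intro D hD
        rw [← conjBy_conjBy]
        exact ihy _ (ihz D hD)
      | inv_mem y hy =>
        rcases hy with hy | hy
        · exact stepA _ (A.inv_mem hy)
        · exact stepB _ (B.inv_mem hy)
    exact main x hx A (Or.inl rfl)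
  · rintro (rfl | ⟨a, ha, rfl⟩)
    · exact self_mem_unipotent _ _
    · exact conjBy_mem_unipotent (right_mem_unipotent h) (Subgroup.mem_sup_left ha)

theorem unipotent_base (h : Cfsg.IsRankOnePair A B) {C : Subgroup G}
    (hC : C ∈ unipotentSubgroups A B) (hCA : C ≠ A) : ∃ a ∈ A, C = conjBy B a :=
  ((mem_unipotent_iff h).mp hC).resolve_left hCA

/-- A nonidentity element of `A` fixes no other unipotent subgroup. -/
theorem eq_left_of_fixed (h : Cfsg.IsRankOnePair A B) {C : Subgroup G}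
    (hC : C ∈ unipotentSubgroups A B) (hAc : ∀ x ∈ A, ∀ y ∈ A, x * y = y * x)
    {a : G} (ha : a ∈ A) (ha1 : a ≠ 1) (hf : conjBy C a = C) : C = A := by
  by_contra hCA
  obtain ⟨c, hc, rfl⟩ := unipotent_base h hC hCA
  rw [conjBy_conjBy, hAc a ha c hc, ← conjBy_conjBy, conjBy_inj] at hf
  exact rankOne_conj_ne h ha ha1 hf

/-- Regularity of `A` on the other unipotent subgroups. -/
theorem unipotent_regular (h : Cfsg.IsRankOnePair A B) {C D : Subgroup G}
    (hC : C ∈ unipotentSubgroups A B) (hD : D ∈ unipotentSubgroups A B) (hCA : C ≠ A)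
    (hDA : D ≠ A) : ∃! a : G, a ∈ A ∧ conjBy C a = D := by
  obtain ⟨c, hc, rfl⟩ := unipotent_base h hC hCA
  obtain ⟨d, hd, rfl⟩ := unipotent_base h hD hDA
  refine ⟨d * c⁻¹, ⟨mul_mem hd (A.inv_mem hc), ?_⟩, ?_⟩
  · rw [conjBy_conjBy, inv_mul_cancel_right]
  · rintro a ⟨ha, he⟩
    rw [conjBy_conjBy, conjBy_eq_iff, conjBy_conjBy, eq_comm] at he
    have := rankOne_eq_one_of_normalize h (A.mul_mem (A.inv_mem (A.mul_mem ha hc)) hd) he
    rw [inv_mul_eq_one] at this
    rw [← this, mul_inv_cancel_right]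

theorem unipotent_two_transitive (h : Cfsg.IsRankOnePair A B) {C₁ C₂ : Subgroup G}
    (hC₁ : C₁ ∈ unipotentSubgroups A B) (hC₂ : C₂ ∈ unipotentSubgroups A B) (hne : C₁ ≠ C₂) :
    ∃ x ∈ A ⊔ B, conjBy A x = C₁ ∧ conjBy B x = C₂ := by
  obtain ⟨y, hy, rfl⟩ := hC₁
  have hC₂' : conjBy C₂ y⁻¹ ∈ unipotentSubgroups A B := conjBy_mem_unipotent hC₂ (inv_mem hy)
  have hne' : conjBy C₂ y⁻¹ ≠ A := fun e => hne (conjBy_eq_iff.mpr e.symm)
  obtain ⟨a, ha, he⟩ := unipotent_base h hC₂' hne'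
  refine ⟨y * a, mul_mem hy (Subgroup.mem_sup_left ha), ?_, ?_⟩
  · rw [← conjBy_conjBy, conjBy_eq_self ha]
  · rw [← conjBy_conjBy, ← he, conjBy_conjBy_inv]

theorem isRankOnePair_of_mem_unipotent (h : Cfsg.IsRankOnePair A B) {C D : Subgroup G}
    (hC : C ∈ unipotentSubgroups A B) (hD : D ∈ unipotentSubgroups A B) (hne : C ≠ D) :
    Cfsg.IsRankOnePair C D ∧ C ⊔ D = A ⊔ B := by
  obtain ⟨x, hx, rfl, rfl⟩ := unipotent_two_transitive h hC hD hne
  exact ⟨isRankOnePair_conjBy h x, by rw [← conjBy_sup, conjBy_eq_self hx]⟩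

theorem unipotentSubgroups_eq_of_mem (h : Cfsg.IsRankOnePair A B) {C D : Subgroup G}
    (hC : C ∈ unipotentSubgroups A B) (hD : D ∈ unipotentSubgroups A B) (hne : C ≠ D) :
    unipotentSubgroups C D = unipotentSubgroups A B := by
  have e : C ⊔ D = A ⊔ B := (isRankOnePair_of_mem_unipotent h hC hD hne).2
  obtain ⟨x, hx, rfl⟩ := hC
  ext E
  simp only [unipotentSubgroups, e, Set.mem_setOf_eq, conjBy_conjBy]
  constructor
  · rintro ⟨y, hy, rfl⟩
    exact ⟨y * x, mul_mem hy hx, rfl⟩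
  · rintro ⟨y, hy, rfl⟩
    exact ⟨y * x⁻¹, mul_mem hy (inv_mem hx), by rw [inv_mul_cancel_right]⟩

theorem unipotent_commutative (hA : IsMulCommutative A) {C : Subgroup G}
    (hC : C ∈ unipotentSubgroups A B) : ∀ x ∈ C, ∀ y ∈ C, x * y = y * x := by
  obtain ⟨g, -, rfl⟩ := hC
  rintro _ ⟨u, hu, rfl⟩ _ ⟨v, hv, rfl⟩
  have := congrArg Subtype.val (hA.is_comm.comm (⟨u, hu⟩ : A) ⟨v, hv⟩)
  simp only [Subgroup.coe_mul] at this
  rw [← map_mul, ← map_mul, this]

/-- A nonidentity element of a unipotent subgroup fixes only that one. -/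
theorem eq_of_fixed (h : Cfsg.IsRankOnePair A B) (hA : IsMulCommutative A) {C D : Subgroup G}
    (hC : C ∈ unipotentSubgroups A B) (hD : D ∈ unipotentSubgroups A B)
    {c : G} (hc : c ∈ C) (hc1 : c ≠ 1) (hf : conjBy D c = D) : D = C := by
  by_contra hne
  have hp := isRankOnePair_of_mem_unipotent h hC hD (Ne.symm hne)
  exact hne (eq_left_of_fixed hp.1
    (by rw [unipotentSubgroups_eq_of_mem h hC hD (Ne.symm hne)]; exact hD)
    (unipotent_commutative hA hC) hc hc1 hf)

/-- Distinct unipotent subgroups meet trivially. -/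
theorem eq_of_mem_of_mem (h : Cfsg.IsRankOnePair A B) (hA : IsMulCommutative A) {C D : Subgroup G}
    (hC : C ∈ unipotentSubgroups A B) (hD : D ∈ unipotentSubgroups A B)
    {c : G} (hc : c ∈ C) (hcD : c ∈ D) (hc1 : c ≠ 1) : D = C :=
  eq_of_fixed h hA hC hD hc hc1 (conjBy_eq_self hcD)

/-- An element fixing every unipotent subgroup centralizes `A`. -/
theorem commute_left_of_fix_all (h : Cfsg.IsRankOnePair A B) {x : G}
    (hx : ∀ C ∈ unipotentSubgroups A B, conjBy C x = C) {a : G} (ha : a ∈ A) : x * a = a * x := by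
  have hA := hx A (self_mem_unipotent _ _)
  have hB := hx B (right_mem_unipotent h)
  have hu : x * a * x⁻¹ * a⁻¹ ∈ A :=
    mul_mem (by rw [← hA]; exact conj_mem_conjBy ha) (A.inv_mem ha)
  have hf : conjBy B (x * a * x⁻¹ * a⁻¹) = B := by
    have h1 := hx _ ((mem_unipotent_iff h).mpr (Or.inr ⟨a⁻¹, A.inv_mem ha, rfl⟩))
    have h2 : conjBy (conjBy B a⁻¹) x⁻¹ = conjBy B a⁻¹ := (conjBy_eq_iff.mp h1).symm
    calc conjBy B (x * a * x⁻¹ * a⁻¹)
        = conjBy (conjBy (conjBy (conjBy B a⁻¹) x⁻¹) a) x := by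
          simp only [conjBy_conjBy, mul_assoc]
      _ = B := by rw [h2, conjBy_conjBy_inv, hB]
  have := rankOne_eq_one_of_normalize h hu hf
  rw [mul_inv_eq_one, mul_inv_eq_iff_eq_mul] at this
  exact this

theorem commute_sup_of_commute {x : G} (hA : ∀ a ∈ A, x * a = a * x) (hB : ∀ b ∈ B, x * b = b * x)
    {y : G} (hy : y ∈ A ⊔ B) : x * y = y * x := by
  have hle : A ⊔ B ≤ Subgroup.centralizer ({x} : Set G) := by
    refine sup_le ?_ ?_ <;> intro z hz <;> rw [Subgroup.mem_centralizer_singleton_iff]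
    · exact (hA z hz).symm
    · exact (hB z hz).symm
  exact (Subgroup.mem_centralizer_singleton_iff.mp (hle hy)).symm

/-- An element fixing every unipotent subgroup centralizes the rank one group. -/
theorem commute_of_fix_all (h : Cfsg.IsRankOnePair A B) {x : G}
    (hx : ∀ C ∈ unipotentSubgroups A B, conjBy C x = C) {y : G} (hy : y ∈ A ⊔ B) :
    x * y = y * x :=
  commute_sup_of_commute (fun _ ha => commute_left_of_fix_all h hx ha)
    (fun _ hb => commute_left_of_fix_all (Cfsg.RankOnePair_symm h)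
      (by rw [unipotent_symm h]; exact hx) hb) hy

/-- An element normalizing `B` and centralizing `A` centralizes the rank one group. -/
theorem commute_of_commute_left (h : Cfsg.IsRankOnePair A B) {x : G}
    (hA : ∀ a ∈ A, x * a = a * x) (hB : conjBy B x = B) {y : G} (hy : y ∈ A ⊔ B) :
    x * y = y * x := by
  refine commute_of_fix_all h ?_ hy
  intro C hC
  rcases (mem_unipotent_iff h).mp hC with rfl | ⟨a, ha, rfl⟩
  · exact conjBy_eq_self_of_commute hA
  · rw [conjBy_conjBy, hA a ha, ← conjBy_conjBy, hB]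

/-- A subgroup of `G` normalized by `A ⊔ B` either moves `A` to all other unipotent subgroups
(so covers `A ⊔ B` together with `A`), or centralizes `A ⊔ B`. -/
theorem normal_dichotomy (h : Cfsg.IsRankOnePair A B) {N : Subgroup G}
    (hN : ∀ y ∈ A ⊔ B, conjBy N y = N) (hle : N ≤ A ⊔ B) :
    A ⊔ B ≤ N ⊔ A ∨ ∀ n ∈ N, ∀ y ∈ A ⊔ B, n * y = y * n := by
  by_cases hfix : ∀ n ∈ N, conjBy A n = A
  · refine Or.inr fun n hn y hy => commute_of_fix_all h ?_ hy
    rintro C ⟨g, hg, rfl⟩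
    have hn' : g⁻¹ * n * g ∈ N := by
      have := hN g⁻¹ (inv_mem hg)
      rw [← this]
      simpa [mul_assoc] using conj_mem_conjBy (g := g⁻¹) hn
    calc conjBy (conjBy A g) n = conjBy (conjBy A (g⁻¹ * n * g)) g := by
          simp only [conjBy_conjBy, ← mul_assoc, mul_inv_cancel, one_mul]
      _ = conjBy A g := by rw [hfix _ hn']
  · push Not at hfix
    obtain ⟨n, hn, hne⟩ := hfix
    refine Or.inl ?_
    have hC := conjBy_mem_unipotent (self_mem_unipotent A B) (hle hn)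
    rw [← (isRankOnePair_of_mem_unipotent h (self_mem_unipotent A B) hC (Ne.symm hne)).2]
    refine sup_le le_sup_right ?_
    rintro _ ⟨a, ha, rfl⟩
    exact mul_mem (mul_mem (Subgroup.mem_sup_left hn) (Subgroup.mem_sup_right ha))
      (inv_mem (Subgroup.mem_sup_left hn))

end CfsgLib.RootGroups
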