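import Cfsg.Agent.Lib.RootGroups.SimpleExtension
import Cfsg.Agent.Lib.PSL2.Dickson
import Cfsg.Agent.Lib.PSL2.MaxDihedral
import Cfsg.Agent.Lib.Laws.Embed

/-!
`SL₂(k(α))` is generated by its two standard root groups over `k` and `k α`: the finite case, read
off Dickson's list of the subgroups of `PGL₂`.
-/

set_option autoImplicit false

namespace CfsgLib.RootGroups.SimpleExt

open Matrix CfsgLib.PermSmall.Moebius
open scoped commutatorElement

variable {k F : Type*} [Field k] [Field F] [Algebra k F]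

/-- `SL₂` to `PGL₂`. -/
abbrev toP : SpecialLinearGroup (Fin 2) F →* ProjGenLinGroup (Fin 2) F :=
  ProjGenLinGroup.mk.comp SpecialLinearGroup.toGL

theorem toP_eq_one {g : SpecialLinearGroup (Fin 2) F} (h : toP g = 1) :
    g.1 0 1 = 0 ∧ g.1 1 0 = 0 ∧ g.1 0 0 = g.1 1 1 := by
  obtain ⟨u, hu⟩ := ProjGenLinGroup.mk_eq_mk_iff.1 (h.trans (map_one ProjGenLinGroup.mk).symm)
  have hM := congrArg (fun M : GL (Fin 2) F => (M : Matrix (Fin 2) (Fin 2) F)) hu
  have e : ∀ i j : Fin 2, g.1 i j * (u : F) = (1 : Matrix (Fin 2) (Fin 2) F) i j := fun i j => by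
    have := congrArg (fun M : Matrix (Fin 2) (Fin 2) F => M i j) hM
    simpa [GeneralLinearGroup.coe_scalar, Matrix.scalar_apply] using this
  have hu0 : (u : F) ≠ 0 := u.ne_zero
  refine ⟨?_, ?_, mul_right_cancel₀ hu0 ?_⟩
  · exact (mul_eq_zero.1 ((e 0 1).trans (by simp))).resolve_right hu0
  · exact (mul_eq_zero.1 ((e 1 0).trans (by simp))).resolve_right hu0
  · rw [e 0 0, e 1 1]; simp

theorem toP_ker_central {g : SpecialLinearGroup (Fin 2) F} (h : toP g = 1)
    (x : SpecialLinearGroup (Fin 2) F) : g * x = x * g := by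
  obtain ⟨h01, h10, h00⟩ := toP_eq_one h
  refine sl_ext ?_ ?_ ?_ ?_ <;> simp [mul_00, mul_01, mul_10, mul_11, h01, h10, h00] <;> ring

theorem U_pow (x : F) (n : ℕ) : U x ^ n = U ((n : F) * x) := by
  induction n with
  | zero => simp [U_zero]
  | succ n ih => rw [pow_succ, ih, ← U_add]; push_cast; rw [add_mul, one_mul]

theorem top_of_gen_mem (pb : PowerBasis k F) (hα : pb.gen ≠ 0) {a : k}
    (ha : algebraMap k F a = pb.gen) : gens k pb.gen = ⊤ := by
  refine gens_eq_top_of_upper hα fun y => ?_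
  have hle : low k pb.gen pb.dim ≤ radical k pb.gen := by
    refine Submodule.span_le.mpr ?_
    rintro _ ⟨i, -, rfl⟩
    show pb.gen ^ i ∈ radical k pb.gen
    have := Submodule.smul_mem (radical k pb.gen) (a ^ i) one_mem_radical
    rwa [← Algebra.algebraMap_eq_smul_one, map_pow, ha] at this
  exact hle (low_top pb ▸ Submodule.mem_top)

theorem tr_sq_mem_of_definedOver [DecidableEq F] {S : Subfield F}
    {H : Subgroup (ProjGenLinGroup (Fin 2) F)}
    (hS : CfsgLib.PSL2.DefinedOver ((CfsgLib.PSL2.pglPerm F).comp H.subtype) S)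
    {g : SpecialLinearGroup (Fin 2) F} (hg : toP g ∈ H) : (g.1 0 0 + g.1 1 1) ^ 2 ∈ S := by
  obtain ⟨κ, ⟨B, rfl⟩, hA⟩ := hS
  obtain ⟨A, hA⟩ := hA ⟨_, hg⟩
  have he : glHom F (SpecialLinearGroup.toGL g) = glHom F (B * A.map S.subtype * B⁻¹) := by
    rw [map_mul, map_mul, map_inv, ← hA]
    ext z
    show _ = CfsgLib.PSL2.pglPerm F (ProjGenLinGroup.mk (SpecialLinearGroup.toGL g)) z
    rw [CfsgLib.PSL2.pglPerm_mk]
    rfl
  have hk : (SpecialLinearGroup.toGL g)⁻¹ * (B * A.map S.subtype * B⁻¹) ∈ (glHom F).ker := by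
    rw [MonoidHom.mem_ker, map_mul, map_inv, ← he, inv_mul_cancel]
  rw [glHom_ker, GeneralLinearGroup.center_eq_range_scalar] at hk
  obtain ⟨u, hu⟩ := hk
  rw [eq_inv_mul_iff_mul_eq] at hu
  have hM := congrArg Units.val hu
  simp only [Units.val_mul, GeneralLinearGroup.coe_scalar] at hM
  have hdet := congrArg Matrix.det hM
  have htr := congrArg Matrix.trace hM
  rw [Matrix.det_units_conj, Matrix.det_mul] at hdet
  rw [Matrix.trace_units_conj] at htr
  have hd1 : (u : F) ^ 2 = ((A.map S.subtype : GL (Fin 2) F) : Matrix (Fin 2) (Fin 2) F).det := by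
    rw [← hdet, show ((SpecialLinearGroup.toGL g : GL (Fin 2) F) : Matrix (Fin 2) (Fin 2) F).det = 1
      from g.2, one_mul]
    simp [Matrix.scalar_apply, sq]
  have ht1 : (g.1 0 0 + g.1 1 1) * (u : F) =
      ((A.map S.subtype : GL (Fin 2) F) : Matrix (Fin 2) (Fin 2) F).trace := by
    rw [← htr, Matrix.trace_fin_two]
    simp [Matrix.scalar_apply, add_mul]
  have hmem : ∀ i j, ((A.map S.subtype : GL (Fin 2) F) : Matrix (Fin 2) (Fin 2) F) i j ∈ S :=
    fun i j => ((A : Matrix (Fin 2) (Fin 2) S) i j).2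
  have h1 : (u : F) ^ 2 ∈ S := by
    rw [hd1, det_fin_two]
    exact sub_mem (mul_mem (hmem 0 0) (hmem 1 1)) (mul_mem (hmem 0 1) (hmem 1 0))
  have h2 : (g.1 0 0 + g.1 1 1) * (u : F) ∈ S := by
    rw [ht1, Matrix.trace_fin_two]
    exact add_mem (hmem 0 0) (hmem 1 1)
  have h3 := mul_mem (pow_mem h2 2) (inv_mem h1)
  rwa [mul_pow, mul_assoc, mul_inv_cancel₀ (pow_ne_zero 2 u.ne_zero), mul_one] at h3

theorem orders_alt_five : ∀ a : alternatingGroup (Fin 5), a ^ 2 = 1 ∨ a ^ 3 = 1 ∨ a ^ 5 = 1 := by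
  decide +kernel

theorem top_of_finite [Finite k] (pb : PowerBasis k F) (h2 : (2 : k) ≠ 0) (h3 : Nat.card k ≠ 3)
    (hα : pb.gen ≠ 0) : gens k pb.gen = ⊤ := by
  classical
  set α := pb.gen with hαdef
  have := pb.finite
  have : Finite F := Module.finite_of_finite k
  let := Fintype.ofFinite F
  let := Fintype.ofFinite k
  obtain ⟨p, hp⟩ := CharP.exists k
  obtain ⟨n, hpp, hn⟩ := FiniteField.card k p
  have : Fact p.Prime := ⟨hpp⟩
  have : CharP F p := charP_of_injective_algebraMap (algebraMap k F).injective p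
  have hp2 : p ≠ 2 := by
    rintro rfl
    exact h2 (by exact_mod_cast CharP.cast_eq_zero k 2)
  have hq : Nat.card k = p ^ (n : ℕ) := by rw [Nat.card_eq_fintype_card, hn]
  have hpodd : p % 2 = 1 := hpp.eq_two_or_odd.resolve_left hp2
  have h2F : (2 : F) ≠ 0 := by
    have := (algebraMap k F).injective.ne h2
    rwa [map_zero, map_ofNat] at this
  have hq1 : 1 < Nat.card k := Finite.one_lt_card
  have hqodd : Nat.Coprime (Nat.card k) 2 := by
    rw [hq]; exact Nat.Coprime.pow_left _ ((Nat.coprime_primes hpp Nat.prime_two).2 hp2)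
  set H := (gens k α).map (toP : SpecialLinearGroup (Fin 2) F →* _) with hHdef
  have hin : ∀ g ∈ gens k α, toP g ∈ H := fun g hg => Subgroup.mem_map_of_mem _ hg
  have hU1 : U (1 : F) ∈ gens k α := by simpa using U_mem (k := k) (α := α) 1
  have hL1 : L α ∈ gens k α := by simpa using L_mem (k := k) (α := α) 1
  let u : H := ⟨toP (U 1), hin _ hU1⟩
  have hu1 : u ≠ 1 := fun e => one_ne_zero (α := F)
    (by simpa using (toP_eq_one (congrArg Subtype.val e)).1)
  have hup : u ^ p = 1 := by
    apply Subtype.ext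
    show (toP (U (1 : F))) ^ p = 1
    rw [← map_pow, U_pow, CharP.cast_eq_zero, zero_mul, U_zero, map_one]
  have hemb : Nat.card k ∣ Nat.card H := by
    let ψ : Multiplicative k →* H := MonoidHom.mk'
      (fun c => ⟨toP (U (algebraMap k F c.toAdd)), hin _ (U_mem _)⟩) fun c d => by
        apply Subtype.ext
        show toP (U _) = toP _ * toP _
        rw [← map_mul, ← U_add, toAdd_mul, map_add]
    have hψ : Function.Injective ψ := by
      rw [injective_iff_map_eq_one]
      intro c hc
      have := (toP_eq_one (congrArg Subtype.val hc)).1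
      simp only [U_01, map_eq_zero] at this
      exact Multiplicative.toAdd.injective this
    have := Subgroup.card_dvd_of_injective ψ hψ
    rwa [Nat.card_congr Multiplicative.toAdd] at this
  rcases CfsgLib.PSL2.dickson p H.subtype H.subtype_injective with
    ⟨x, hx⟩ | hT | ⟨C, hC2, hC, -⟩ | ⟨⟨e⟩⟩ | ⟨⟨e⟩⟩ | ⟨⟨e⟩⟩ | ⟨S, hS, hiso⟩
  · exfalso
    cases x using OnePoint.rec with
    | infty =>
      have := hx ⟨_, hin _ hL1⟩
      simp only [Subgroup.coe_subtype, MonoidHom.coe_comp, Function.comp_apply,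
        CfsgLib.PSL2.pglPerm_mk, OnePoint.smul_infty_eq_self_iff] at this
      exact hα (by simpa using this)
    | coe y =>
      have := hx u
      simp only [u, Subgroup.coe_subtype, MonoidHom.coe_comp, Function.comp_apply,
        CfsgLib.PSL2.pglPerm_mk, OnePoint.smul_some_eq_ite] at this
      simp at this
  · exact absurd (hT.2.1 u hup) hu1
  · exfalso
    have hmem : u ^ 2 ∈ C := Subgroup.sq_mem_of_index_two hC2 u
    have : u = (u ^ 2) ^ ((p + 1) / 2) := by
      rw [← pow_mul, show 2 * ((p + 1) / 2) = p + 1 by omega, pow_succ, hup, one_mul]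
    have huC : u ∈ C := this ▸ pow_mem hmem _
    exact hu1 (congrArg Subtype.val (hC.2.1 ⟨u, huC⟩ (Subtype.ext hup)))
  · exfalso
    rw [Nat.card_congr e.toEquiv, CfsgLib.PSL2.card_alt_four] at hemb
    have h := (hqodd.pow_right 2).dvd_of_dvd_mul_left (show Nat.card k ∣ 2 ^ 2 * 3 from hemb)
    rcases (Nat.dvd_prime Nat.prime_three).1 h with h | h <;> omega
  · exfalso
    rw [Nat.card_congr e.toEquiv, Nat.card_perm, Nat.card_fin] at hemb
    have h := (hqodd.pow_right 3).dvd_of_dvd_mul_left (show Nat.card k ∣ 2 ^ 3 * 3 from hemb)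
    rcases (Nat.dvd_prime Nat.prime_three).1 h with h | h <;> omega
  · rw [Nat.card_congr e.toEquiv, CfsgLib.PSL2.card_alt_five] at hemb
    have h15 := (hqodd.pow_right 2).dvd_of_dvd_mul_left (show Nat.card k ∣ 2 ^ 2 * 15 from hemb)
    have hne15 : Nat.card k ≠ 15 := by
      intro h
      rw [hq] at h
      have e3 := (Nat.prime_dvd_prime_iff_eq Nat.prime_three hpp).1
        (Nat.prime_three.dvd_of_dvd_pow (n := (n : ℕ)) (by rw [h]; norm_num))
      have e5 := (Nat.prime_dvd_prime_iff_eq Nat.prime_five hpp).1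
        (Nat.prime_five.dvd_of_dvd_pow (n := (n : ℕ)) (by rw [h]; norm_num))
      omega
    have hk5 : Nat.card k = 5 := by
      have hle := Nat.le_of_dvd (by norm_num) h15
      obtain ⟨m, hm⟩ : ∃ m, Nat.card k = m := ⟨_, rfl⟩
      rw [hm] at h15 hne15 hle hq1 h3 ⊢
      interval_cases m <;> omega
    have hp5 : p = 5 := by
      rw [hq] at hk5
      exact (Nat.prime_dvd_prime_iff_eq hpp Nat.prime_five).1 (hk5 ▸ dvd_pow_self p n.ne_zero)
    have h5 : (5 : F) = 0 := by
      have := CharP.cast_eq_zero F p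
      rw [hp5] at this
      exact_mod_cast this
    set g := U (1 : F) * L α with hgdef
    have hg : g ∈ gens k α := mul_mem hU1 hL1
    have hpow : ∀ m : ℕ, (⟨toP g, hin _ hg⟩ : H) ^ m = 1 → (g ^ m).1 0 1 = 0 := fun m hm => by
      refine (toP_eq_one ?_).1
      rw [map_pow]
      exact congrArg Subtype.val hm
    set t : F := 2 + α with ht
    have e2 : (g ^ 2).1 0 1 = t := by
      simp [pow_succ, g, mul_00, mul_01, mul_10, mul_11, ht]; ring
    have e3 : (g ^ 3).1 0 1 = t ^ 2 - 1 := by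
      simp [pow_succ, g, mul_00, mul_01, mul_10, mul_11, ht]; ring
    have e5 : (g ^ 5).1 0 1 = t ^ 4 - 3 * t ^ 2 + 1 := by
      simp [pow_succ, g, mul_00, mul_01, mul_10, mul_11, ht]; ring
    have hord := orders_alt_five (e ⟨toP g, hin _ hg⟩)
    simp only [← map_pow, MulEquiv.map_eq_one_iff] at hord
    have hrange : ∃ b : k, algebraMap k F b = α := by
      rcases hord with h | h | h
      · have := (hpow 2 h)
        rw [e2] at this
        exact ⟨-2, by rw [map_neg, map_ofNat]; linear_combination -this⟩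
      · have := (hpow 3 h)
        rw [e3] at this
        rcases mul_eq_zero.1 (show (t - 1) * (t + 1) = 0 by linear_combination this) with h | h
        · exact ⟨-1, by rw [map_neg, map_one]; linear_combination -h⟩
        · exact ⟨-3, by rw [map_neg, map_ofNat]; linear_combination -h⟩
      · have := (hpow 5 h)
        rw [e5] at this
        have := pow_eq_zero_iff (n := 2) (by norm_num) |>.1
          (show (t ^ 2 - 4) ^ 2 = 0 by linear_combination this + (3 - t ^ 2) * h5)
        rcases mul_eq_zero.1 (show (t - 2) * (t + 2) = 0 by linear_combination this) with h | h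
        · exact ⟨0, by rw [map_zero]; linear_combination -h⟩
        · exact ⟨-4, by rw [map_neg, map_ofNat]; linear_combination -h⟩
    obtain ⟨b, hb⟩ := hrange
    exact top_of_gen_mem pb hα hb
  · have hsq : ∀ c : k, (2 + algebraMap k F c * α) ^ 2 ∈ S := fun c => by
      have h := tr_sq_mem_of_definedOver hS (hin _ (mul_mem hU1 (L_mem (k := k) (α := α) c)))
      convert h using 2
      simp [mul_00, mul_11]; ring
    have h8 : (8 : F) ≠ 0 := by
      rw [show (8 : F) = 2 ^ 3 by norm_num]; exact pow_ne_zero 3 h2F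
    have h8S : (8 : F)⁻¹ ∈ S := inv_mem (natCast_mem S 8)
    have hc : ∀ c : k, algebraMap k F c * α ∈ S := fun c => by
      have := mul_mem h8S (sub_mem (hsq c) (hsq (-c)))
      convert this using 1
      rw [eq_inv_mul_iff_mul_eq₀ h8, map_neg]
      ring
    have hαS : α ∈ S := by simpa using hc 1
    have hkS : ∀ c : k, algebraMap k F c ∈ S := fun c => by
      have := mul_mem (hc c) (inv_mem hαS)
      rwa [mul_assoc, mul_inv_cancel₀ hα, mul_one] at this
    have hStop : S = ⊤ := by
      refine eq_top_iff.2 fun y _ => ?_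
      have hy : y ∈ low k pb.gen pb.dim := low_top pb ▸ Submodule.mem_top
      obtain ⟨c, rfl⟩ := mem_low_iff.1 hy
      exact sum_mem fun i _ => by
        rw [Algebra.smul_def]; exact mul_mem (hkS _) (pow_mem hαS _)
    have hcardS : Fintype.card S = Fintype.card F := by
      subst hStop
      exact Fintype.card_congr ⟨fun a => a.1, fun a => ⟨a, trivial⟩, fun _ => rfl, fun _ => rfl⟩
    have hpsl : Nat.card (ProjectiveSpecialLinearGroup (Fin 2) S) =
        Nat.card (ProjectiveSpecialLinearGroup (Fin 2) F) := by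
      have h1 := CfsgLib.PSL2.card_psl (F := S)
      rw [hcardS, ← CfsgLib.PSL2.card_psl (F := F)] at h1
      exact Nat.eq_of_mul_eq_mul_left (Nat.gcd_pos_of_pos_left _ two_pos) h1
    have hge : Nat.card (ProjectiveSpecialLinearGroup (Fin 2) F) ≤ Nat.card H := by
      rcases hiso with ⟨⟨e⟩⟩ | ⟨⟨e⟩⟩
      · rw [Nat.card_congr e.toEquiv, hpsl]
      · rw [Nat.card_congr e.toEquiv, ← hpsl]; exact CfsgLib.PSL2.card_psl_le_pgl
    have hHim : H = CfsgLib.PSL2.pslImage F := by
      refine Subgroup.eq_of_le_of_card_ge ?_ ?_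
      · rintro _ ⟨g, -, rfl⟩; exact ⟨g, rfl⟩
      · rwa [← Nat.card_congr CfsgLib.PSL2.pslEquiv.toEquiv]
    have hcomm : commutator (SpecialLinearGroup (Fin 2) F) ≤ gens k α := by
      rw [commutator_def, Subgroup.commutator_le]
      intro x _ y _
      have lift : ∀ g : SpecialLinearGroup (Fin 2) F,
          ∃ h ∈ gens k α, ∀ z, (h⁻¹ * g) * z = z * (h⁻¹ * g) := fun g => by
        have : toP g ∈ H := hHim ▸ ⟨g, rfl⟩
        obtain ⟨h, hh, he⟩ := this
        exact ⟨h, hh, toP_ker_central (by rw [map_mul, map_inv, he, inv_mul_cancel])⟩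
      obtain ⟨a, ha, hza⟩ := lift x
      obtain ⟨b, hb, hzb⟩ := lift y
      have hx : x = a * (a⁻¹ * x) := by group
      have hy : y = b * (b⁻¹ * y) := by group
      generalize a⁻¹ * x = z at hza hx
      generalize b⁻¹ * y = w at hzb hy
      subst hx hy
      have : ⁅a * z, b * w⁆ = ⁅a, b⁆ := by
        rw [commutatorElement_def, commutatorElement_def]
        calc a * z * (b * w) * (a * z)⁻¹ * (b * w)⁻¹
            = a * (z * (b * w)) * z⁻¹ * a⁻¹ * w⁻¹ * b⁻¹ := by group
          _ = a * b * (w * a⁻¹) * w⁻¹ * b⁻¹ := by rw [hza (b * w)]; group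
          _ = a * b * a⁻¹ * b⁻¹ := by rw [hzb a⁻¹]; group
      rw [this]
      exact mul_mem (mul_mem (mul_mem ha hb) (inv_mem ha)) (inv_mem hb)
    have hF4 : 4 ≤ Fintype.card F := by
      have h1 : Nat.card k ≤ Fintype.card F := by
        rw [← Nat.card_eq_fintype_card]
        exact Nat.card_le_card_of_injective _ (algebraMap k F).injective
      have hne2 : Nat.card k ≠ 2 := fun e => by rw [e] at hqodd; norm_num at hqodd
      omega
    rw [CfsgLib.Laws.sl_two_perfect hF4] at hcomm
    exact top_le_iff.1 hcomm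

end CfsgLib.RootGroups.SimpleExt
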