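import Mathlib
import Cfsg.Prelude.Def_RootSubgroups
import Cfsg.Agent.Lib.RootGroups.RankOne
set_option autoImplicit false

/-!
Sets of abstract root subgroups: elementary properties of `Cfsg.IsRootSubgroupSet`.
"`A` is not isolated" is expressed as `∃ B ∈ S, Cfsg.IsRankOnePair A B`.
-/

namespace CfsgLib.RootGroups

open Cfsg (conjBy unipotentSubgroups)
open scoped commutatorElement

variable {G : Type*} [Group G] {S : Set (Subgroup G)}

theorem commute_of_commutator_eq_bot {A B : Subgroup G} (h : ⁅A, B⁆ = ⊥) {a b : G} (ha : a ∈ A)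
    (hb : b ∈ B) : a * b = b * a :=
  commutatorElement_eq_one_iff_mul_comm.mp
    (Subgroup.eq_bot_iff_forall _ |>.mp h _ (Subgroup.commutator_mem_commutator ha hb))

theorem commutator_eq_bot_of_commute {A B : Subgroup G} (h : ∀ a ∈ A, ∀ b ∈ B, a * b = b * a) :
    ⁅A, B⁆ = ⊥ :=
  le_bot_iff.mp (Subgroup.commutator_le.mpr fun a ha b hb =>
    Subgroup.mem_bot.mpr (commutatorElement_eq_one_iff_mul_comm.mpr (h a ha b hb)))

theorem root_comm (hS : Cfsg.IsRootSubgroupSet S) {A : Subgroup G} (hA : A ∈ S) {x y : G}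
    (hx : x ∈ A) (hy : y ∈ A) : x * y = y * x :=
  congrArg Subtype.val ((hS.commutative A hA).is_comm.comm (⟨x, hx⟩ : A) ⟨y, hy⟩)

theorem unipotent_mem_root (hS : Cfsg.IsRootSubgroupSet S) {A B C : Subgroup G} (hA : A ∈ S)
    (hC : C ∈ unipotentSubgroups A B) : C ∈ S := by
  obtain ⟨g, -, rfl⟩ := hC
  exact hS.conj_mem A hA g

/-! ### The commutator case -/

theorem rootCase_symm {A B : Subgroup G} (h : Cfsg.RootCommutatorCase S A B) :
    Cfsg.RootCommutatorCase S B A := by
  obtain ⟨h1, h2, h3, h4⟩ := h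
  have key : ∀ (x : G) (T : Subgroup G),
      Subgroup.closure ((fun t : G => x * t * x⁻¹ * t⁻¹) '' (T : Set G)) =
      Subgroup.closure ((fun t : G => t * x * t⁻¹ * x⁻¹) '' (T : Set G)) := by
    intro x T
    rw [← Subgroup.closure_inv, Set.image_inv_eq_inv.symm, Set.image_image]
    congr 1
    refine Set.image_congr fun t _ => ?_
    group
  rw [Cfsg.RootCommutatorCase, Subgroup.commutator_comm B A, sup_comm B A]
  exact ⟨h1, h2, fun b hb hb1 => (key b A).trans (h4 b hb hb1),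
    fun a ha ha1 => (key a B).symm.trans (h3 a ha ha1)⟩

theorem rootCase_commute_left {A B : Subgroup G} (h : Cfsg.RootCommutatorCase S A B) {c a : G}
    (hc : c ∈ ⁅A, B⁆) (ha : a ∈ A) : c * a = a * c :=
  h.2.1 c hc a (Subgroup.mem_sup_left ha)

theorem rootCase_commute_right {A B : Subgroup G} (h : Cfsg.RootCommutatorCase S A B) {c b : G}
    (hc : c ∈ ⁅A, B⁆) (hb : b ∈ B) : c * b = b * c :=
  h.2.1 c hc b (Subgroup.mem_sup_right hb)

theorem rootCase_comm_mul_right {A B : Subgroup G} (h : Cfsg.RootCommutatorCase S A B) {a b b' : G}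
    (ha : a ∈ A) (hb : b ∈ B) (hb' : b' ∈ B) : ⁅a, b * b'⁆ = ⁅a, b⁆ * ⁅a, b'⁆ := by
  have hc := rootCase_commute_right h (Subgroup.commutator_mem_commutator ha hb') hb
  have e : ⁅a, b * b'⁆ = ⁅a, b⁆ * (b * ⁅a, b'⁆ * b⁻¹) := by
    simp only [commutatorElement_def]; group
  rw [e, ← hc, mul_inv_cancel_right]

theorem rootCase_comm_mul_left {A B : Subgroup G} (h : Cfsg.RootCommutatorCase S A B) {a a' b : G}
    (ha : a ∈ A) (ha' : a' ∈ A) (hb : b ∈ B) : ⁅a * a', b⁆ = ⁅a', b⁆ * ⁅a, b⁆ := by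
  have hc := rootCase_commute_left h (Subgroup.commutator_mem_commutator ha' hb) ha
  have e : ⁅a * a', b⁆ = (a * ⁅a', b⁆ * a⁻¹) * ⁅a, b⁆ := by
    simp only [commutatorElement_def]; group
  rw [e, ← hc, mul_inv_cancel_right]

/-- `b ↦ ⁅a, b⁆` as a homomorphism on `B`. -/
def rootCaseHom {A B : Subgroup G} (h : Cfsg.RootCommutatorCase S A B) {a : G} (ha : a ∈ A) :
    B →* G where
  toFun b := ⁅a, (b : G)⁆
  map_one' := by simp
  map_mul' b b' := rootCase_comm_mul_right h ha b.2 b'.2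

theorem rootCase_exists_comm {A B : Subgroup G} (h : Cfsg.RootCommutatorCase S A B) {a c : G}
    (ha : a ∈ A) (ha1 : a ≠ 1) (hc : c ∈ ⁅A, B⁆) : ∃ b ∈ B, ⁅a, b⁆ = c := by
  rw [← h.2.2.1 a ha ha1] at hc
  have hle : Subgroup.closure ((fun b : G => a * b * a⁻¹ * b⁻¹) '' (B : Set G)) ≤
      (rootCaseHom h ha).range :=
    (Subgroup.closure_le _).mpr fun x ⟨b, hb, hx⟩ => ⟨⟨b, hb⟩, by
      rw [← hx]; exact commutatorElement_def a b⟩
  obtain ⟨b, hb⟩ := hle hc
  exact ⟨b.1, b.2, hb⟩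

theorem rootCase_exists_comm_left {A B : Subgroup G} (h : Cfsg.RootCommutatorCase S A B) {b c : G}
    (hb : b ∈ B) (hb1 : b ≠ 1) (hc : c ∈ ⁅A, B⁆) : ∃ a ∈ A, ⁅a, b⁆ = c := by
  obtain ⟨a, ha, he⟩ := rootCase_exists_comm (rootCase_symm h) hb hb1
    (c := c⁻¹) (Subgroup.commutator_comm A B ▸ inv_mem hc)
  exact ⟨a, ha, by rw [← commutatorElement_inv, he, inv_inv]⟩

theorem rootCase_exists_ne (hS : Cfsg.IsRootSubgroupSet S) {A B : Subgroup G}
    (h : Cfsg.RootCommutatorCase S A B) {a : G} (ha : a ∈ A) (ha1 : a ≠ 1) :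
    ∃ b ∈ B, ⁅a, b⁆ ≠ 1 := by
  obtain ⟨c, hc, hc1⟩ := exists_ne_one_mem (hS.ne_bot _ h.1)
  obtain ⟨b, hb, he⟩ := rootCase_exists_comm h ha ha1 hc
  exact ⟨b, hb, he ▸ hc1⟩

theorem rootCase_not_centralize (hS : Cfsg.IsRootSubgroupSet S) {A B : Subgroup G}
    (h : Cfsg.RootCommutatorCase S A B) {a : G} (ha : a ∈ A) (hc : ∀ b ∈ B, a * b = b * a) :
    a = 1 := by
  by_contra ha1
  obtain ⟨b, hb, hne⟩ := rootCase_exists_ne hS h ha ha1
  exact hne (commutatorElement_eq_one_iff_mul_comm.mpr (hc b hb))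

/-! ### Rank one pairs inside a root set -/

section Pair

variable {A B : Subgroup G}

theorem root_eq_of_fixed (hS : Cfsg.IsRootSubgroupSet S) (hA : A ∈ S) (h : Cfsg.IsRankOnePair A B)
    {C D : Subgroup G} (hC : C ∈ unipotentSubgroups A B) (hD : D ∈ unipotentSubgroups A B)
    {c : G} (hc : c ∈ C) (hc1 : c ≠ 1) (hf : conjBy D c = D) : D = C :=
  eq_of_fixed h (hS.commutative A hA) hC hD hc hc1 hf

/-- A member of `S` inside a rank one group `A ⊔ B` is a unipotent subgroup or is central there. -/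
theorem root_mem_sup_cases (hS : Cfsg.IsRootSubgroupSet S) (hA : A ∈ S)
    (h : Cfsg.IsRankOnePair A B) {E : Subgroup G} (hE : E ∈ S) (hle : E ≤ A ⊔ B) :
    E ∈ unipotentSubgroups A B ∨ ∀ e ∈ E, ∀ y ∈ A ⊔ B, e * y = y * e := by
  by_contra hcon
  push Not at hcon
  obtain ⟨hnot, e₀, he₀, y₀, hy₀, hne⟩ := hcon
  apply hne
  -- every unipotent subgroup commutes with `E`
  have key : ∀ U ∈ unipotentSubgroups A B, ⁅E, U⁆ = ⊥ := by
    intro U hU
    rcases hS.pair E hE U (unipotent_mem_root hS hA hU) with h1 | h1 | h1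
    · exact h1
    · exfalso
      obtain ⟨e, he, he1⟩ := exists_ne_one_mem (hS.ne_bot E hE)
      obtain ⟨u, hu, -, heq⟩ := h1.cond_left e he he1
      apply hnot
      rw [conjBy_eq_iff.mp heq, inv_inv]
      exact conjBy_mem_unipotent (conjBy_mem_unipotent hU (inv_mem (hle he))) (unipotent_le hU hu)
    · exfalso
      obtain ⟨w, hw, hw1⟩ := exists_ne_one_mem (hS.ne_bot _ h1.1)
      by_cases hfix : ∀ e ∈ E, conjBy U e = U
      · have hWU : ⁅E, U⁆ ≤ U := Subgroup.commutator_le.mpr fun e he u hu => by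
          rw [commutatorElement_def]
          refine mul_mem ?_ (inv_mem hu)
          have := conj_mem_conjBy (g := e) hu
          rwa [hfix e he] at this
        exact hw1 (rootCase_not_centralize hS (rootCase_symm h1) (hWU hw)
          fun e he => rootCase_commute_left h1 hw he)
      · push Not at hfix
        obtain ⟨e, he, heU⟩ := hfix
        have hWY : ⁅E, U⁆ ≤ A ⊔ B := Subgroup.commutator_le.mpr fun e' he' u hu => by
          rw [commutatorElement_def]
          exact mul_mem (mul_mem (mul_mem (hle he') (unipotent_le hU hu)) (inv_mem (hle he')))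
            (inv_mem (unipotent_le hU hu))
        have hV : conjBy U e ∈ unipotentSubgroups A B := conjBy_mem_unipotent hU (hle he)
        obtain ⟨hp, hsup⟩ := isRankOnePair_of_mem_unipotent h hU hV (Ne.symm heU)
        have hcentral : ∀ x ∈ ⁅E, U⁆, ∀ y ∈ A ⊔ B, x * y = y * x := by
          intro x hx y hy
          rw [← hsup] at hy
          refine commute_of_commute_left hp (fun u hu => rootCase_commute_right h1 hx hu) ?_ hy
          rw [conjBy_conjBy, rootCase_commute_left h1 hx he, ← conjBy_conjBy,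
            conjBy_eq_self_of_commute (fun u hu => rootCase_commute_right h1 hx hu)]
        obtain ⟨u, hu, hu1⟩ := exists_ne_one_mem (hS.ne_bot _ (unipotent_mem_root hS hA hU))
        have hz : ⁅e, u⁆ ∈ ⁅E, U⁆ := Subgroup.commutator_mem_commutator he hu
        have hmem : e * u * e⁻¹ ∈ conjBy U e := conj_mem_conjBy hu
        have heq : e * u * e⁻¹ = ⁅e, u⁆ * u := by rw [commutatorElement_def]; group
        have hne1 : e * u * e⁻¹ ≠ 1 := by simpa [mul_inv_eq_one] using hu1
        refine heU (root_eq_of_fixed hS hA h hV hU hmem hne1 ?_).symm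
        rw [heq, ← conjBy_conjBy, conjBy_eq_self hu,
          conjBy_eq_self_of_commute (fun v hv => hcentral _ hz v (unipotent_le hU hv))]
  exact commute_sup_of_commute
    (fun a ha => commute_of_commutator_eq_bot (key A (self_mem_unipotent A B)) he₀ ha)
    (fun b hb => commute_of_commutator_eq_bot (key B (right_mem_unipotent h)) he₀ hb) hy₀

/-- Timmesfeld: a central translate of a root element of a rank one group is not a root element. -/
theorem root_translate_eq (hS : Cfsg.IsRootSubgroupSet S) (hA : A ∈ S) (hB : B ∈ S)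
    (h : Cfsg.IsRankOnePair A B) {z a : G} (hz : ∀ y ∈ A ⊔ B, z * y = y * z) (ha : a ∈ A)
    (ha1 : a ≠ 1) {E : Subgroup G} (hE : E ∈ S) (hza : z * a ∈ E) : E = A ∧ z = 1 := by
  have hact : ∀ C : Subgroup G, C ≤ A ⊔ B → conjBy C (z * a) = conjBy C a := by
    intro C hC
    rw [← conjBy_conjBy]
    exact conjBy_eq_self_of_commute fun x hx =>
      hz x ((conjBy_le_of_mem hC (Subgroup.mem_sup_left ha)) hx)
  have he1 : z * a ≠ 1 := by
    intro he
    apply ha1 (rankOne_noncomm h ha fun b hb => ?_)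
    have hcz := hz b (Subgroup.mem_sup_right hb)
    have ha' : a = z⁻¹ := eq_inv_of_mul_eq_one_right he
    rw [ha']
    calc z⁻¹ * b = z⁻¹ * (b * z) * z⁻¹ := by group
      _ = b * z⁻¹ := by rw [← hcz]; group
  have hEA : E ∈ unipotentSubgroups A B → E = A ∧ z = 1 := by
    intro hEΩ
    have hEq : E = A := by
      refine (root_eq_of_fixed hS hA h hEΩ (self_mem_unipotent A B) hza he1 ?_).symm
      rw [hact A le_sup_left, conjBy_eq_self ha]
    refine ⟨hEq, rankOne_noncomm h ?_ fun b hb => hz b (Subgroup.mem_sup_right hb)⟩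
    have := mul_mem (hEq ▸ hza) (inv_mem ha)
    rwa [mul_inv_cancel_right] at this
  rcases hS.pair E hE B hB with h1 | h1 | h1
  · exfalso
    refine rankOne_conj_ne h ha ha1 ?_
    rw [← hact B le_sup_right]
    exact conjBy_eq_self_of_commute fun b hb => commute_of_commutator_eq_bot h1 hza hb
  · obtain ⟨b, hb, -, heq⟩ := h1.cond_left _ hza he1
    refine hEA ?_
    rw [conjBy_eq_iff.mp heq, inv_inv]
    refine conjBy_mem_unipotent ?_ (Subgroup.mem_sup_right hb)
    have hza' : conjBy B (z * a)⁻¹ = conjBy B a⁻¹ := by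
      rw [mul_inv_rev, ← conjBy_conjBy,
        conjBy_eq_self_of_commute (A := B) (g := z⁻¹)]
      intro x hx
      have hzx := hz x (Subgroup.mem_sup_right hx)
      calc z⁻¹ * x = z⁻¹ * (x * z) * z⁻¹ := by group
        _ = x * z⁻¹ := by rw [← hzx]; group
    rw [hza']
    exact conjBy_mem_unipotent (right_mem_unipotent h) (inv_mem (Subgroup.mem_sup_left ha))
  · exfalso
    have hWY : ⁅E, B⁆ ≤ A ⊔ B := by
      rw [← h1.2.2.1 _ hza he1, Subgroup.closure_le]
      rintro _ ⟨b, hb, rfl⟩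
      have e : z * a * b * (z * a)⁻¹ * b⁻¹ = (z * (a * b * a⁻¹) * z⁻¹) * b⁻¹ := by group
      have hab : a * b * a⁻¹ ∈ A ⊔ B := mul_mem (mul_mem (Subgroup.mem_sup_left ha)
        (Subgroup.mem_sup_right hb)) (inv_mem (Subgroup.mem_sup_left ha))
      show z * a * b * (z * a)⁻¹ * b⁻¹ ∈ A ⊔ B
      rw [e, hz _ hab, mul_inv_cancel_right]
      exact mul_mem hab (inv_mem (Subgroup.mem_sup_right hb))
    have hWmem : ∀ {x}, x ∈ ⁅E, B⁆ → ∀ b ∈ B, x * b = b * x := fun hx _ hb =>
      rootCase_commute_right h1 hx hb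
    rcases root_mem_sup_cases hS hA h h1.1 hWY with h2 | h2
    · obtain ⟨w, hw, hw1⟩ := exists_ne_one_mem (hS.ne_bot _ h1.1)
      have hWB : B = ⁅E, B⁆ := root_eq_of_fixed hS hA h h2 (right_mem_unipotent h) hw hw1
        (conjBy_eq_self_of_commute fun b hb => hWmem hw b hb)
      have hwB : w ∈ B := hWB ▸ hw
      exact hw1 (rootCase_not_centralize hS (rootCase_symm h1) hwB
        fun e he => rootCase_commute_left h1 hw he)
    · obtain ⟨b, hb, hb1⟩ := exists_ne_one_mem (hS.ne_bot B hB)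
      have hV : conjBy B a ∈ unipotentSubgroups A B :=
        conjBy_mem_unipotent (right_mem_unipotent h) (Subgroup.mem_sup_left ha)
      have hmem : a * b * a⁻¹ ∈ conjBy B a := conj_mem_conjBy hb
      have hne1 : a * b * a⁻¹ ≠ 1 := by simpa [mul_inv_eq_one] using hb1
      refine rankOne_conj_ne h ha ha1 (root_eq_of_fixed hS hA h hV (right_mem_unipotent h)
        hmem hne1 ?_).symm
      have hw : ⁅z * a, b⁆ ∈ ⁅E, B⁆ := Subgroup.commutator_mem_commutator hza hb
      have hza2 : z * (a * b * a⁻¹) = (a * b * a⁻¹) * z :=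
        hz _ (mul_mem (mul_mem (Subgroup.mem_sup_left ha)
          (Subgroup.mem_sup_right hb)) (inv_mem (Subgroup.mem_sup_left ha)))
      have heq : a * b * a⁻¹ = ⁅z * a, b⁆ * b := by
        calc a * b * a⁻¹ = (z * (a * b * a⁻¹)) * z⁻¹ := by rw [hza2]; group
          _ = ⁅z * a, b⁆ * b := by rw [commutatorElement_def]; group
      rw [heq, ← conjBy_conjBy, conjBy_eq_self hb]
      exact conjBy_eq_self_of_commute fun v hv => h2 _ hw v (Subgroup.mem_sup_right hv)

/-- An element centralizing `A` and one nonidentity element of `B` centralizes `A ⊔ B`. -/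
theorem root_centralizes_sup (hS : Cfsg.IsRootSubgroupSet S) (hA : A ∈ S) (hB : B ∈ S)
    (h : Cfsg.IsRankOnePair A B) {z b : G} (hzA : ∀ a ∈ A, z * a = a * z) (hb : b ∈ B)
    (hb1 : b ≠ 1) (hzb : z * b = b * z) : ∀ y ∈ A ⊔ B, z * y = y * z := by
  intro y hy
  refine commute_of_commute_left h hzA ?_ hy
  have hmem : b ∈ conjBy B z := by
    rw [mem_conjBy, mul_assoc, ← hzb]; simpa using hb
  exact (root_translate_eq hS hB hA (Cfsg.RankOnePair_symm h) (z := 1) (by intro y _; simp) hb hb1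
    (hS.conj_mem B hB z) (by simpa using hmem)).1

end Pair

/-- Timmesfeld (II.2.2): a non-isolated member meets every other member trivially. -/
theorem root_eq_of_mem_mem (hS : Cfsg.IsRootSubgroupSet S) {A B : Subgroup G} (hA : A ∈ S)
    (hn : ∃ A' ∈ S, Cfsg.IsRankOnePair A A') (hB : B ∈ S) {a : G} (ha : a ∈ A) (haB : a ∈ B)
    (ha1 : a ≠ 1) : B = A := by
  obtain ⟨A', hA', h⟩ := hn
  exact (root_translate_eq hS hA hA' h (z := 1) (by intro y _; simp) ha ha1 hB
    (by simpa using haB)).1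

theorem root_inf_eq_bot (hS : Cfsg.IsRootSubgroupSet S) {A B : Subgroup G} (hA : A ∈ S)
    (hn : ∃ A' ∈ S, Cfsg.IsRankOnePair A A') (hB : B ∈ S) (hne : B ≠ A) : A ⊓ B = ⊥ := by
  rw [Subgroup.eq_bot_iff_forall]
  intro x hx
  by_contra hx1
  exact hne (root_eq_of_mem_mem hS hA hn hB hx.1 hx.2 hx1)

theorem nonIso_conjBy (hS : Cfsg.IsRootSubgroupSet S) {A : Subgroup G}
    (hn : ∃ A' ∈ S, Cfsg.IsRankOnePair A A') (g : G) :
    ∃ A' ∈ S, Cfsg.IsRankOnePair (conjBy A g) A' :=
  let ⟨A', hA', h⟩ := hn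
  ⟨conjBy A' g, hS.conj_mem A' hA' g, isRankOnePair_conjBy h g⟩

theorem not_isIsolatedIn_iff {A : Subgroup G} (hA : A ∈ S) :
    ¬ Cfsg.IsIsolatedIn (Cfsg.FAdj S) S A ↔ ∃ A' ∈ S, Cfsg.IsRankOnePair A A' := by
  constructor
  · intro h
    by_contra hc
    refine h ⟨hA, fun B => ⟨fun hAB => hc ⟨B, hAB.2.1, hAB.2.2⟩,
      fun hBA => hc ⟨B, hBA.1, Cfsg.RankOnePair_symm hBA.2.2⟩⟩⟩
  · rintro ⟨B, hB, h⟩ hI
    exact (hI.2 B).1 ⟨hA, hB, h⟩

theorem conjBy_eq_of_commute_mem (hS : Cfsg.IsRootSubgroupSet S) {A : Subgroup G} (hA : A ∈ S)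
    (hn : ∃ A' ∈ S, Cfsg.IsRankOnePair A A') {a g : G} (ha : a ∈ A) (ha1 : a ≠ 1)
    (hg : g * a = a * g) : conjBy A g = A :=
  root_eq_of_mem_mem hS hA hn (hS.conj_mem A hA g) ha
    (by rw [mem_conjBy, mul_assoc, ← hg]; simpa using ha) ha1

theorem not_rankOne_of_commute {A B : Subgroup G} (h : ⁅A, B⁆ = ⊥) : ¬ Cfsg.IsRankOnePair A B :=
  fun hp => rankOne_commutator_ne_bot hp h

/-- If `⁅A, B⁆ ∈ S` then the pair is in the commutator case. -/
theorem rootCase_of_mem (hS : Cfsg.IsRootSubgroupSet S) {A B : Subgroup G} (hA : A ∈ S)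
    (hB : B ∈ S) (hC : ⁅A, B⁆ ∈ S) : Cfsg.RootCommutatorCase S A B := by
  rcases hS.pair A hA B hB with h | h | h
  · exact absurd h (hS.ne_bot _ hC)
  · exfalso
    have hle : ⁅A, B⁆ ≤ A ⊔ B := Subgroup.commutator_le.mpr fun a ha b hb => by
      rw [commutatorElement_def]
      exact mul_mem (mul_mem (mul_mem (Subgroup.mem_sup_left ha) (Subgroup.mem_sup_right hb))
        (inv_mem (Subgroup.mem_sup_left ha))) (inv_mem (Subgroup.mem_sup_right hb))
    obtain ⟨a, ha, ha1⟩ := exists_ne_one_mem (hS.ne_bot A hA)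
    obtain ⟨b, hb, hb1⟩ := exists_ne_one_mem (hS.ne_bot B hB)
    rcases root_mem_sup_cases hS hA h hC hle with h1 | h1
    · have hnA : ∀ g, g ∈ A ∨ g ∈ B → conjBy ⁅A, B⁆ g = ⁅A, B⁆ := by
        intro g hg
        have hn : g ∈ Subgroup.normalizer ((⁅A, B⁆ : Subgroup G) : Set G) := by
          rcases hg with hg | hg
          · exact Subgroup.normalizer_commutator_ge_left A B hg
          · exact Subgroup.normalizer_commutator_ge_right A B hg
        exact mem_normalizer_iff_conjBy.mp hn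
      have e1 := root_eq_of_fixed hS hA h (self_mem_unipotent A B) h1 ha ha1 (hnA a (Or.inl ha))
      have e2 := root_eq_of_fixed hS hA h (right_mem_unipotent h) h1 hb hb1 (hnA b (Or.inr hb))
      exact h.ne (e1.symm.trans e2)
    · refine rankOne_conj_ne h ha ha1 (root_eq_of_fixed hS hA h
        (conjBy_mem_unipotent (right_mem_unipotent h) (Subgroup.mem_sup_left ha))
        (right_mem_unipotent h) (conj_mem_conjBy (g := a) hb)
        (by simpa [mul_inv_eq_one] using hb1) ?_).symm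
      have heq : a * b * a⁻¹ = ⁅a, b⁆ * b := by rw [commutatorElement_def]; group
      rw [heq, ← conjBy_conjBy, conjBy_eq_self hb]
      exact conjBy_eq_self_of_commute fun v hv =>
        h1 _ (Subgroup.commutator_mem_commutator ha hb) v (Subgroup.mem_sup_right hv)
  · exact h

end CfsgLib.RootGroups
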