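import Mathlib
import Cfsg.Prelude.Def_RootSubgroups
import Cfsg.Agent.Lib.RootGroups.RankOne
import Cfsg.Agent.Lib.RootGroups.RootSets
set_option autoImplicit false

/-!
Lines of abstract root subgroups: the partition of `A ⊔ ⁅A, B⁆`, the "swap" lemma and projections
of lines on members.
-/

namespace CfsgLib.RootGroups

open Cfsg (conjBy unipotentSubgroups)
open scoped commutatorElement

variable {G : Type*} [Group G] {S : Set (Subgroup G)}

/-- The product set of two elementwise commuting subgroups is their join. -/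
theorem mem_sup_of_commuting {A C : Subgroup G} (h : ∀ a ∈ A, ∀ c ∈ C, a * c = c * a) {x : G} :
    x ∈ A ⊔ C ↔ ∃ a ∈ A, ∃ c ∈ C, a * c = x := by
  constructor
  · intro hx
    let P : Subgroup G :=
      { carrier := {x | ∃ a ∈ A, ∃ c ∈ C, a * c = x}
        one_mem' := ⟨1, A.one_mem, 1, C.one_mem, one_mul 1⟩
        mul_mem' := by
          rintro _ _ ⟨a, ha, c, hc, rfl⟩ ⟨a', ha', c', hc', rfl⟩
          exact ⟨a * a', A.mul_mem ha ha', c * c', C.mul_mem hc hc',
            (Commute.mul_mul_mul_comm (show Commute c a' from (h a' ha' c hc).symm) a c').symm⟩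
        inv_mem' := by
          rintro _ ⟨a, ha, c, hc, rfl⟩
          refine ⟨a⁻¹, A.inv_mem ha, c⁻¹, C.inv_mem hc, ?_⟩
          rw [mul_inv_rev]
          exact h _ (A.inv_mem ha) _ (C.inv_mem hc) }
    have hle : A ⊔ C ≤ P := sup_le (fun a ha => ⟨a, ha, 1, C.one_mem, mul_one a⟩)
      (fun c hc => ⟨1, A.one_mem, c, hc, one_mul c⟩)
    exact hle hx
  · rintro ⟨a, ha, c, hc, rfl⟩
    exact mul_mem (Subgroup.mem_sup_left ha) (Subgroup.mem_sup_right hc)

section Line

variable {A B : Subgroup G}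

theorem line_comm_left (h : Cfsg.RootCommutatorCase S A B) :
    ∀ a ∈ A, ∀ c ∈ ⁅A, B⁆, a * c = c * a :=
  fun _ ha _ hc => (rootCase_commute_left h hc ha).symm

theorem line_injective (hS : Cfsg.IsRootSubgroupSet S) (hA : A ∈ S)
    (hn : ∃ A' ∈ S, Cfsg.IsRankOnePair A A') (h : Cfsg.RootCommutatorCase S A B) {a b : G}
    (ha : a ∈ A) (ha1 : a ≠ 1) (hb : b ∈ B) (hab : ⁅a, b⁆ = 1) : b = 1 := by
  by_contra hb1
  have hfix : conjBy A b = A := conjBy_eq_of_commute_mem hS hA hn ha ha1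
    (commutatorElement_eq_one_iff_mul_comm.mp hab).symm
  have hCA : ⁅A, B⁆ ≤ A := by
    intro c hc
    obtain ⟨x, hx, rfl⟩ := rootCase_exists_comm_left h hb hb1 hc
    rw [commutatorElement_def, show x * b * x⁻¹ * b⁻¹ = x * (b * x⁻¹ * b⁻¹) by group]
    have h1 := conj_mem_conjBy (g := b) (inv_mem hx)
    rw [hfix] at h1
    exact mul_mem hx h1
  obtain ⟨c, hc, hc1⟩ := exists_ne_one_mem (hS.ne_bot _ h.1)
  have hEq : ⁅A, B⁆ = A := root_eq_of_mem_mem hS hA hn h.1 (hCA hc) hc hc1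
  exact ha1 (rootCase_not_centralize hS h ha fun x hx =>
    rootCase_commute_right h (hEq.symm ▸ ha) hx)

theorem line_ne (hS : Cfsg.IsRootSubgroupSet S) (hA : A ∈ S)
    (h : Cfsg.RootCommutatorCase S A B) : ⁅A, B⁆ ≠ A := by
  intro hEq
  obtain ⟨a, ha, ha1⟩ := exists_ne_one_mem (hS.ne_bot A hA)
  exact ha1 (rootCase_not_centralize hS h ha fun x hx =>
    rootCase_commute_right h (hEq.symm ▸ ha) hx)

theorem line_conj (h : Cfsg.RootCommutatorCase S A B) {a b : G} (ha : a ∈ A) (hb : b ∈ B) :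
    b * a * b⁻¹ = a * ⁅a, b⁆⁻¹ := by
  have hc := rootCase_commute_left h (inv_mem (Subgroup.commutator_mem_commutator ha hb)) ha
  rw [← hc, commutatorElement_def]; group

theorem line_conj_le (h : Cfsg.RootCommutatorCase S A B) {b : G} (hb : b ∈ B) :
    conjBy A b ≤ A ⊔ ⁅A, B⁆ := by
  rintro _ ⟨a, ha, rfl⟩
  show b * a * b⁻¹ ∈ A ⊔ ⁅A, B⁆
  rw [line_conj h ha hb]
  exact mul_mem (Subgroup.mem_sup_left ha)
    (Subgroup.mem_sup_right (inv_mem (Subgroup.commutator_mem_commutator ha hb)))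

theorem line_cover (h : Cfsg.RootCommutatorCase S A B) {a c : G} (ha : a ∈ A) (ha1 : a ≠ 1)
    (hc : c ∈ ⁅A, B⁆) : ∃ b ∈ B, a * c ∈ conjBy A b := by
  obtain ⟨b, hb, he⟩ := rootCase_exists_comm h ha ha1 (inv_mem hc)
  refine ⟨b, hb, ?_⟩
  have := conj_mem_conjBy (g := b) ha
  rwa [line_conj h ha hb, he, inv_inv] at this

/-- No nonidentity element of `⁅A, B⁆` commutes with a nonidentity element of an opposite of `A`. -/
theorem line_comm_opposite (hS : Cfsg.IsRootSubgroupSet S) (hA : A ∈ S) {A' : Subgroup G}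
    (hA' : A' ∈ S) (hp : Cfsg.IsRankOnePair A A') (h : Cfsg.RootCommutatorCase S A B) {c a' : G}
    (hc : c ∈ ⁅A, B⁆) (ha' : a' ∈ A') (ha'1 : a' ≠ 1) (hca : c * a' = a' * c) : c = 1 := by
  by_contra hc1
  have hn : ∃ X ∈ S, Cfsg.IsRankOnePair A X := ⟨A', hA', hp⟩
  have hfix : conjBy A' c = A' :=
    conjBy_eq_of_commute_mem hS hA' ⟨A, hA, Cfsg.RankOnePair_symm hp⟩ ha' ha'1 hca
  obtain ⟨a, ha, ha1⟩ := exists_ne_one_mem (hS.ne_bot A hA)
  obtain ⟨b, hb, hm⟩ := line_cover h ha ha1 hc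
  have hA2 : conjBy A b ∈ S := hS.conj_mem A hA b
  have hac : a * c ≠ 1 := by
    intro he
    refine hc1 ?_
    have hcA : c ∈ A := by
      rw [← inv_eq_of_mul_eq_one_right he]; exact inv_mem ha
    by_contra hc1'
    exact line_ne hS hA h (root_eq_of_mem_mem hS hA hn h.1 hcA hc hc1')
  rcases hS.pair _ hA2 A' hA' with h1 | h1 | h1
  · have h2 := commute_of_commutator_eq_bot h1 hm ha'
    rw [mul_assoc, hca, ← mul_assoc, ← mul_assoc] at h2
    have hfix' : conjBy A' a = A' := conjBy_eq_of_commute_mem hS hA'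
      ⟨A, hA, Cfsg.RankOnePair_symm hp⟩ ha' ha'1 (mul_right_cancel h2)
    exact rankOne_conj_ne hp ha ha1 hfix'
  · obtain ⟨b₂, hb₂, -, heq⟩ := h1.cond_left _ hm hac
    have hA2Ω : conjBy A b ∈ unipotentSubgroups A A' := by
      rw [conjBy_eq_iff.mp heq, inv_inv]
      refine conjBy_mem_unipotent ?_ (Subgroup.mem_sup_right hb₂)
      rw [line_comm_left h a ha c hc, mul_inv_rev, ← conjBy_conjBy,
        (conjBy_eq_iff.mp hfix).symm]
      exact conjBy_mem_unipotent (right_mem_unipotent hp) (inv_mem (Subgroup.mem_sup_left ha))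
    have hEq : A = conjBy A b := by
      refine root_eq_of_fixed hS hA hp hA2Ω (self_mem_unipotent A A') hm hac ?_
      exact conjBy_eq_self_of_commute fun x hx => by
        rw [mul_assoc, ← line_comm_left h x hx c hc, ← mul_assoc, root_comm hS hA ha hx, mul_assoc]
    have hcA : c ∈ A := by
      have h3 := mul_mem (inv_mem ha) (hEq.symm ▸ hm : a * c ∈ A)
      rwa [inv_mul_cancel_left] at h3
    exact line_ne hS hA h (root_eq_of_mem_mem hS hA hn h.1 hcA hc hc1)
  · have hy : ⁅a, a'⁆ ∈ ⁅conjBy A b, A'⁆ := by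
      have h2 := Subgroup.commutator_mem_commutator hm ha'
      have he : ⁅a * c, a'⁆ = ⁅a, a'⁆ := by
        calc ⁅a * c, a'⁆ = a * (c * a') * c⁻¹ * a⁻¹ * a'⁻¹ := by
              simp only [commutatorElement_def]; group
          _ = ⁅a, a'⁆ := by rw [hca]; simp only [commutatorElement_def]; group
      rwa [he] at h2
    refine rankOne_conj_ne hp ha ha1 (root_eq_of_fixed hS hA hp
      (right_mem_unipotent hp) (conjBy_mem_unipotent (right_mem_unipotent hp)
        (Subgroup.mem_sup_left ha)) ha' ha'1 ?_)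
    refine conjBy_eq_of_commute_mem hS (hS.conj_mem A' hA' a)
      (nonIso_conjBy hS ⟨A, hA, Cfsg.RankOnePair_symm hp⟩ a) (conj_mem_conjBy ha')
      (by simpa [mul_inv_eq_one] using ha'1) ?_
    have hca' := rootCase_commute_right h1 hy ha'
    have he : a * a' * a⁻¹ = ⁅a, a'⁆ * a' := by rw [commutatorElement_def]; group
    rw [he, ← mul_assoc, ← hca']

theorem line_member_le (hS : Cfsg.IsRootSubgroupSet S) (hA : A ∈ S)
    (hn : ∃ A' ∈ S, Cfsg.IsRankOnePair A A') (h : Cfsg.RootCommutatorCase S A B) {E : Subgroup G}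
    (hE : E ∈ S) (hle : E ≤ ⁅A, B⁆) : E = ⁅A, B⁆ := by
  obtain ⟨A', hA', hp⟩ := hn
  obtain ⟨a', ha', ha'1⟩ := exists_ne_one_mem (hS.ne_bot A' hA')
  obtain ⟨e, he, he1⟩ := exists_ne_one_mem (hS.ne_bot E hE)
  have key : ∀ {x}, x ∈ ⁅A, B⁆ → x * a' = a' * x → x = 1 := fun hx =>
    line_comm_opposite hS hA hA' hp h hx ha' ha'1
  rcases hS.pair E hE A' hA' with h1 | h1 | h1
  · exact absurd (key (hle he) (commute_of_commutator_eq_bot h1 he ha')) he1
  · exact (root_eq_of_mem_mem hS hE ⟨A', hA', h1⟩ h.1 he (hle he) he1).symm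
  · rcases hS.pair _ h.1 A' hA' with h2 | h2 | h2
    · exact absurd (key (hle he) (commute_of_commutator_eq_bot h2 (hle he) ha')) he1
    · exact root_eq_of_mem_mem hS h.1 ⟨A', hA', h2⟩ hE (hle he) he he1
    · refine le_antisymm hle fun c hc => ?_
      have hc' : ⁅c, a'⁆ ∈ ⁅E, A'⁆ := by
        rw [← h1.2.2.1 e he he1, h2.2.2.1 e (hle he) he1]
        exact Subgroup.commutator_mem_commutator hc ha'
      obtain ⟨x, hx, hxe⟩ := rootCase_exists_comm_left h1 ha' ha'1 hc'
      have hcx : x⁻¹ * c = 1 := by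
        refine key (mul_mem (inv_mem (hle hx)) hc) ?_
        simp only [commutatorElement_def] at hxe
        have h3 : x * a' * x⁻¹ = c * a' * c⁻¹ := mul_right_cancel hxe
        calc x⁻¹ * c * a' = x⁻¹ * (c * a' * c⁻¹) * c := by group
          _ = a' * (x⁻¹ * c) := by rw [← h3]; group
      rw [inv_mul_eq_one] at hcx
      exact hcx ▸ hx

theorem line_members (hS : Cfsg.IsRootSubgroupSet S) (hA : A ∈ S)
    (hn : ∃ A' ∈ S, Cfsg.IsRankOnePair A A') (h : Cfsg.RootCommutatorCase S A B) :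
    Cfsg.membersIn S (A ⊔ ⁅A, B⁆) =
      (fun b : G => conjBy A b) '' (B : Set G) ∪ {⁅A, B⁆} := by
  ext E
  constructor
  · rintro ⟨hE, hle⟩
    by_cases hEC : E ≤ ⁅A, B⁆
    · exact Or.inr (line_member_le hS hA hn h hE hEC)
    · obtain ⟨e, he, heC⟩ := SetLike.not_le_iff_exists.mp hEC
      obtain ⟨a, ha, c, hc, hac⟩ := (mem_sup_of_commuting (line_comm_left h)).mp (hle he)
      have ha1 : a ≠ 1 := fun h0 => heC (by rw [← hac, h0, one_mul]; exact hc)
      obtain ⟨b, hb, hm⟩ := line_cover h ha ha1 hc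
      rw [hac] at hm
      exact Or.inl ⟨b, hb, (root_eq_of_mem_mem hS (hS.conj_mem A hA b) (nonIso_conjBy hS hn b) hE
        hm he (fun h0 => heC (h0 ▸ one_mem _))).symm⟩
  · rintro (⟨b, hb, rfl⟩ | hEq)
    · exact ⟨hS.conj_mem A hA b, line_conj_le h hb⟩
    · rw [Set.mem_singleton_iff] at hEq
      rw [hEq]
      exact ⟨h.1, le_sup_right⟩

theorem line_partition (hS : Cfsg.IsRootSubgroupSet S) (hA : A ∈ S)
    (hn : ∃ A' ∈ S, Cfsg.IsRankOnePair A A') (h : Cfsg.RootCommutatorCase S A B) :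
    Cfsg.IsSubgroupPartition (A ⊔ ⁅A, B⁆) (Cfsg.membersIn S (A ⊔ ⁅A, B⁆)) := by
  refine ⟨fun C hC => hC.2, fun x hx hx1 => ?_, fun C hC D hD hne => ?_⟩
  · rw [line_members hS hA hn h]
    obtain ⟨a, ha, c, hc, rfl⟩ := (mem_sup_of_commuting (line_comm_left h)).mp hx
    by_cases ha1 : a = 1
    · exact ⟨_, Or.inr rfl, by rw [ha1, one_mul]; exact hc⟩
    · obtain ⟨b, hb, hm⟩ := line_cover h ha ha1 hc
      exact ⟨_, Or.inl ⟨b, hb, rfl⟩, hm⟩
  · rw [line_members hS hA hn h] at hC hD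
    rcases hC with ⟨b, hb, rfl⟩ | hC
    · refine root_inf_eq_bot hS (hS.conj_mem A hA b) (nonIso_conjBy hS hn b) ?_ (Ne.symm hne)
      rcases hD with ⟨b', -, rfl⟩ | hD
      · exact hS.conj_mem A hA b'
      · rw [Set.mem_singleton_iff] at hD; exact hD ▸ h.1
    · rcases hD with ⟨b', hb', rfl⟩ | hD
      · rw [Set.mem_singleton_iff] at hC
        subst hC
        rw [inf_comm]
        exact root_inf_eq_bot hS (hS.conj_mem A hA b') (nonIso_conjBy hS hn b') h.1 hne
      · rw [Set.mem_singleton_iff] at hC hD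
        exact absurd (hC.trans hD.symm) hne

theorem line_linePartner (hS : Cfsg.IsRootSubgroupSet S) (hA : A ∈ S)
    (hn : ∃ A' ∈ S, Cfsg.IsRankOnePair A A') (h : Cfsg.RootCommutatorCase S A B) :
    A ∈ Cfsg.linePartners S ⁅A, B⁆ ∧ ⁅A, B⁆ ∈ Cfsg.linePartners S A := by
  have hbot : ⁅A, ⁅A, B⁆⁆ = ⊥ := commutator_eq_bot_of_commute (line_comm_left h)
  refine ⟨⟨⟨hA, (line_ne hS hA h).symm, ?_⟩, ?_⟩, ⟨⟨h.1, line_ne hS hA h, hbot⟩,
    line_partition hS hA hn h⟩⟩
  · rw [Subgroup.commutator_comm]; exact hbot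
  · rw [sup_comm]; exact line_partition hS hA hn h

/-- The isomorphism `b ↦ a⁻¹ b⁻¹ a b` from `B` onto `⁅A, B⁆`. -/
theorem line_iso (hS : Cfsg.IsRootSubgroupSet S) (hA : A ∈ S)
    (hn : ∃ A' ∈ S, Cfsg.IsRankOnePair A A') (h : Cfsg.RootCommutatorCase S A B) (hB : B ∈ S)
    {a : G} (ha : a ∈ A) (ha1 : a ≠ 1) :
    ∃ φ : ↥B ≃* ↥⁅A, B⁆, ∀ b : ↥B, (φ b : G) = a⁻¹ * (b : G)⁻¹ * a * b := by
  have e : ∀ b : G, ⁅a⁻¹, b⁻¹⁆ = a⁻¹ * b⁻¹ * a * b := fun b => by
    rw [commutatorElement_def, inv_inv, inv_inv]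
  let φ₀ : B →* ↥⁅A, B⁆ :=
    { toFun := fun b => ⟨⁅a⁻¹, (b : G)⁻¹⁆,
        Subgroup.commutator_mem_commutator (inv_mem ha) (inv_mem b.2)⟩
      map_one' := by simp
      map_mul' := fun b b' => by
        refine Subtype.ext ?_
        show ⁅a⁻¹, ((b : G) * b')⁻¹⁆ = ⁅a⁻¹, (b : G)⁻¹⁆ * ⁅a⁻¹, (b' : G)⁻¹⁆
        rw [root_comm hS hB b.2 b'.2, mul_inv_rev,
          rootCase_comm_mul_right h (inv_mem ha) (inv_mem b.2) (inv_mem b'.2)] }
  have hinj : Function.Injective φ₀ := by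
    rw [← MonoidHom.ker_eq_bot_iff, Subgroup.eq_bot_iff_forall]
    intro b hb
    have hb' : ⁅a⁻¹, (b : G)⁻¹⁆ = 1 := congrArg Subtype.val hb
    exact Subtype.ext (inv_eq_one.mp
      (line_injective hS hA hn h (inv_mem ha) (inv_ne_one.mpr ha1) (inv_mem b.2) hb'))
  have hsurj : Function.Surjective φ₀ := by
    rintro ⟨c, hc⟩
    obtain ⟨b, hb, he⟩ := rootCase_exists_comm h (inv_mem ha) (inv_ne_one.mpr ha1) hc
    exact ⟨⟨b⁻¹, inv_mem hb⟩, Subtype.ext (by show ⁅a⁻¹, b⁻¹⁻¹⁆ = c; rw [inv_inv, he])⟩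
  exact ⟨MulEquiv.ofBijective φ₀ ⟨hinj, hsurj⟩, fun b => e b⟩

end Line

/-- The "swap" lemma: if `(A, A')` is a rank one pair, `F` commutes with `A`, forms a commutator
pair with `A'` and `f * a` is a root element for some nonidentity `f ∈ F`, `a ∈ A`, then
`⁅⁅F, A'⁆, A⁆ = F`. -/
theorem swap_line (hS : Cfsg.IsRootSubgroupSet S) {A A' F : Subgroup G} (hA : A ∈ S)
    (hA' : A' ∈ S) (hp : Cfsg.IsRankOnePair A A') (hF : F ∈ S)
    (hnF : ∃ X ∈ S, Cfsg.IsRankOnePair F X) (hFA : ⁅A, F⁆ = ⊥)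
    (hFA' : Cfsg.RootCommutatorCase S F A') {f a : G} (hf : f ∈ F) (hf1 : f ≠ 1) (ha : a ∈ A)
    (ha1 : a ≠ 1) {E : Subgroup G} (hE : E ∈ S) (hfa : f * a ∈ E) :
    Cfsg.RootCommutatorCase S ⁅F, A'⁆ A ∧ ⁅⁅F, A'⁆, A⁆ = F := by
  have hnA : ∃ X ∈ S, Cfsg.IsRankOnePair A X := ⟨A', hA', hp⟩
  have hnA' : ∃ X ∈ S, Cfsg.IsRankOnePair A' X := ⟨A, hA, Cfsg.RankOnePair_symm hp⟩
  have hFAc : ∀ x ∈ F, ∀ y ∈ A, x * y = y * x := fun x hx y hy =>
    (commute_of_commutator_eq_bot hFA hy hx).symm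
  rcases hS.pair _ hFA'.1 A hA with h1 | h1 | h1
  · exfalso
    obtain ⟨a', ha', hne⟩ := rootCase_exists_ne hS hFA' hf hf1
    have ha'1 : a' ≠ 1 := fun h0 => hne (by rw [h0]; simp)
    have hc : ⁅f, a'⁆ ∈ ⁅F, A'⁆ := Subgroup.commutator_mem_commutator hf ha'
    have hcent : ∀ y ∈ A ⊔ A', ⁅f, a'⁆ * y = y * ⁅f, a'⁆ := fun y hy =>
      commute_sup_of_commute (fun x hx => commute_of_commutator_eq_bot h1 hc hx)
        (fun x hx => rootCase_commute_right hFA' hc hx) hy
    refine hne (root_translate_eq hS hA' hA (Cfsg.RankOnePair_symm hp)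
      (by rw [sup_comm]; exact hcent) ha' ha'1 (hS.conj_mem A' hA' f) ?_).2
    have := conj_mem_conjBy (g := f) ha'
    rwa [commutatorElement_def, inv_mul_cancel_right]
  · exfalso
    refine hf1 (root_translate_eq hS hA hFA'.1 (Cfsg.RankOnePair_symm h1) ?_ ha ha1 hE hfa).2
    intro y hy
    exact commute_sup_of_commute (fun x hx => hFAc f hf x hx)
      (fun x hx => (rootCase_commute_left hFA' hx hf).symm) hy
  · refine ⟨h1, ?_⟩
    set C := ⁅F, A'⁆ with hC
    set W := ⁅C, A⁆ with hW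
    have h1' : Cfsg.RootCommutatorCase S A C := rootCase_symm h1
    have hWAC : ⁅A, C⁆ = W := Subgroup.commutator_comm A C
    have hWF : ∀ w ∈ W, ∀ x ∈ F, w * x = x * w := by
      have hle : C ⊔ A ≤ Subgroup.centralizer (F : Set G) :=
        sup_le (fun c hc => Subgroup.mem_centralizer_iff.mpr fun x hx =>
            (rootCase_commute_left hFA' hc hx).symm)
          (fun y hy => Subgroup.mem_centralizer_iff.mpr fun x hx => hFAc x hx y hy)
      have hWle : W ≤ C ⊔ A := Subgroup.commutator_le.mpr fun c hc y hy => by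
        rw [commutatorElement_def]
        exact mul_mem (mul_mem (mul_mem (Subgroup.mem_sup_left hc) (Subgroup.mem_sup_right hy))
          (inv_mem (Subgroup.mem_sup_left hc))) (inv_mem (Subgroup.mem_sup_right hy))
      intro w hw x hx
      exact (Subgroup.mem_centralizer_iff.mp (hle (hWle hw)) x hx).symm
    have hWA : ∀ w ∈ W, ∀ x ∈ A, w * x = x * w := fun w hw x hx =>
      rootCase_commute_right h1 hw hx
    have hWC : ∀ w ∈ W, ∀ x ∈ C, w * x = x * w := fun w hw x hx =>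
      rootCase_commute_left h1 hw hx
    have hroot : ∀ w ∈ W, ∃ c₀ ∈ C, a * w ∈ conjBy A c₀ := fun w hw =>
      line_cover h1' ha ha1 (hWAC.symm ▸ hw)
    -- no nonidentity element of `W` centralizes `A'`
    have hWA' : ∀ w ∈ W, (∀ x ∈ A', w * x = x * w) → w = 1 := by
      intro w hw hc
      obtain ⟨c₀, hc₀, hm⟩ := hroot w hw
      refine (root_translate_eq hS hA hA' hp
        (fun y hy => commute_sup_of_commute (hWA w hw) hc hy) ha ha1 (hS.conj_mem A hA c₀) ?_).2
      rwa [hWA w hw a ha]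
    rcases hS.pair W h1.1 A' hA' with h2 | h2 | h2
    · exfalso
      obtain ⟨w, hw, hw1⟩ := exists_ne_one_mem (hS.ne_bot W h1.1)
      exact hw1 (hWA' w hw fun x hx => commute_of_commutator_eq_bot h2 hw hx)
    · exfalso
      obtain ⟨c, hc, hc1⟩ := exists_ne_one_mem (hS.ne_bot C hFA'.1)
      have hw : ⁅a, c⁆ ∈ W := hWAC ▸ Subgroup.commutator_mem_commutator ha hc
      have hw1 : ⁅a, c⁆ ≠ 1 := fun h0 => hc1 (line_injective hS hA hnA h1' ha ha1 hc h0)
      refine hc1 (root_translate_eq hS h1.1 hA' h2 ?_ hw hw1 (hS.conj_mem C hFA'.1 a) ?_).2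
      · intro y hy
        exact commute_sup_of_commute (fun x hx => (hWC x hx c hc).symm)
          (fun x hx => rootCase_commute_right hFA' hc hx) hy
      · rw [← hWC _ hw c hc, commutatorElement_def, inv_mul_cancel_right]
        exact conj_mem_conjBy hc
    · have hCC2 : C ≤ ⁅W, A'⁆ := by
        intro c hc
        obtain ⟨b, hb, -, heq⟩ := hp.cond_left a⁻¹ (inv_mem ha) (inv_ne_one.mpr ha1)
        rw [inv_inv] at heq
        have hFb : conjBy F b⁻¹⁻¹ ≤ F ⊔ C := by
          rw [inv_inv]; exact line_conj_le hFA' hb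
        have hFC : ∀ x ∈ F, ∀ y ∈ C, x * y = y * x := fun x hx y hy =>
          (rootCase_commute_left hFA' hy hx).symm
        have hcomm : ⁅F ⊔ C, A⁆ ≤ W := Subgroup.commutator_le.mpr fun u hu x hx => by
          obtain ⟨f', hf', c', hc', rfl⟩ := (mem_sup_of_commuting hFC).mp hu
          have e : ⁅f' * c', x⁆ = (f' * ⁅c', x⁆ * f'⁻¹) * ⁅f', x⁆ := by
            simp only [commutatorElement_def]; group
          have hw := Subgroup.commutator_mem_commutator hc' hx
          rw [e, commutatorElement_eq_one_iff_mul_comm.mpr (hFAc f' hf' x hx), mul_one,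
            ← hWF _ hw f' hf', mul_inv_cancel_right]
          exact hw
        have hle : conjBy C a ≤ conjBy W b⁻¹ := by
          have hFa : conjBy F a = F :=
            conjBy_eq_self_of_commute fun x hx => (hFAc x hx a ha).symm
          rw [hC, conjBy_commutator, hFa, ← heq]
          have := conjBy_mono b⁻¹ ((Subgroup.commutator_mono hFb le_rfl).trans hcomm)
          rwa [conjBy_commutator, conjBy_conjBy, inv_inv, inv_mul_cancel, conjBy_one] at this
        set w := ⁅a, c⁆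
        have hw : w ∈ W := hWAC ▸ Subgroup.commutator_mem_commutator ha hc
        have hy := hle (conj_mem_conjBy (g := a) hc)
        set w' := b * (a * c * a⁻¹) * b⁻¹
        have hw' : w' ∈ W := by
          have := mem_conjBy.mp hy
          rwa [inv_inv] at this
        have hc2 : ⁅b⁻¹, w'⁆ ∈ ⁅W, A'⁆ :=
          Subgroup.commutator_comm A' W ▸ Subgroup.commutator_mem_commutator (inv_mem hb) hw'
        have heq2 : w * c = ⁅b⁻¹, w'⁆ * w' := by
          simp only [w, w', commutatorElement_def]; group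
        have hcc : ⁅b⁻¹, w'⁆ * w⁻¹ = w⁻¹ * ⁅b⁻¹, w'⁆ := rootCase_commute_left h2 hc2 (inv_mem hw)
        have hcv : c = ⁅b⁻¹, w'⁆ * (w⁻¹ * w') := by
          calc c = w⁻¹ * (w * c) := by group
            _ = ⁅b⁻¹, w'⁆ * (w⁻¹ * w') := by rw [heq2, ← mul_assoc, ← hcc, mul_assoc]
        have hone : w⁻¹ * w' = 1 := by
          refine hWA' _ (mul_mem (inv_mem hw) hw') fun x hx => ?_
          have he : w⁻¹ * w' = ⁅b⁻¹, w'⁆⁻¹ * c := by rw [hcv]; group
          rw [he]
          exact ((show Commute ⁅b⁻¹, w'⁆ x from rootCase_commute_right h2 hc2 hx).inv_left.mul_left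
            (show Commute c x from rootCase_commute_right hFA' hc hx)).eq
        rw [hcv, hone, mul_one]
        exact hc2
      obtain ⟨a', ha', ha'1⟩ := exists_ne_one_mem (hS.ne_bot A' hA')
      obtain ⟨w, hw, hwe⟩ := rootCase_exists_comm_left h2 ha' ha'1
        (hCC2 (Subgroup.commutator_mem_commutator hf ha'))
      simp only [commutatorElement_def] at hwe
      have hwf : w⁻¹ * f * a' = a' * (w⁻¹ * f) := by
        have h3 : w * a' * w⁻¹ = f * a' * f⁻¹ := mul_right_cancel hwe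
        calc w⁻¹ * f * a' = w⁻¹ * (f * a' * f⁻¹) * f := by group
          _ = a' * (w⁻¹ * f) := by rw [← h3]; group
      have hzA : ∀ x ∈ A, w⁻¹ * f * x = x * (w⁻¹ * f) := fun x hx =>
        ((show Commute w x from hWA w hw x hx).inv_left.mul_left
          (show Commute f x from hFAc f hf x hx)).eq
      have hz := root_centralizes_sup hS hA hA' hp hzA ha' ha'1 hwf
      obtain ⟨c₀, hc₀, hm⟩ := hroot w hw
      have hA'c : conjBy A' c₀ = A' :=
        conjBy_eq_self_of_commute fun x hx => rootCase_commute_right hFA' hc₀ hx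
      have hp2 : Cfsg.IsRankOnePair (conjBy A c₀) A' := by
        have := isRankOnePair_conjBy hp c₀; rwa [hA'c] at this
      have hzc : w⁻¹ * f * c₀ = c₀ * (w⁻¹ * f) :=
        ((show Commute w c₀ from hWC w hw c₀ hc₀).inv_left.mul_left
          (show Commute f c₀ from (rootCase_commute_left hFA' hc₀ hf).symm)).eq
      have hmne : a * w ≠ 1 := by
        intro h0
        have hwA : w ∈ A := by
          rw [← inv_eq_of_mul_eq_one_right h0]; exact inv_mem ha
        have hline := line_ne hS hA h1'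
        rw [hWAC] at hline
        by_cases hw1 : w = 1
        · exact ha1 (by simpa [hw1] using h0)
        · exact hline (root_eq_of_mem_mem hS hA hnA h1.1 hwA hw hw1)
      obtain ⟨-, hz1⟩ := root_translate_eq hS (hS.conj_mem A hA c₀) hA' hp2 (z := w⁻¹ * f)
        (fun y hy => commute_sup_of_commute (fun x hx => by
            obtain ⟨u, hu, rfl⟩ := hx
            exact ((show Commute (w⁻¹ * f) c₀ from hzc).mul_right
              (hzA u hu)).mul_right (show Commute (w⁻¹ * f) c₀ from hzc).inv_right)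
          (fun x hx => hz x (Subgroup.mem_sup_right hx)) hy)
        hm hmne hE (by
          have : w⁻¹ * f * (a * w) = f * a := by
            have c1 : Commute w a := hWA w hw a ha
            have c2 : Commute w f := hWF w hw f hf
            rw [← (c1.mul_right (Commute.refl w)).eq |> fun _ => c1.eq, ← mul_assoc,
              mul_assoc w⁻¹ f w, ← c2.eq, inv_mul_cancel_left]
          rwa [this])
      rw [inv_mul_eq_one] at hz1
      exact root_eq_of_mem_mem hS hF hnF h1.1 hf (hz1 ▸ hw) hf1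

theorem line_commute {A E : Subgroup G} (hS : Cfsg.IsRootSubgroupSet S) (hA : A ∈ S)
    (h : ⁅A, E⁆ = ⊥) : ∀ x ∈ A ⊔ E, ∀ a ∈ A, x * a = a * x := by
  intro x hx a ha
  exact (commute_sup_of_commute (fun y hy => root_comm hS hA ha hy)
    (fun y hy => commute_of_commutator_eq_bot h ha hy) hx).symm

/-- Projection of a line on an opposite: every line through `A` has a member in the commutator
case with an opposite `B` of `A`. -/
theorem exists_projection (hS : Cfsg.IsRootSubgroupSet S)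
    (hall : ∀ X ∈ S, ∃ Y ∈ S, Cfsg.IsRankOnePair X Y) {A B E : Subgroup G} (hA : A ∈ S)
    (hB : B ∈ S) (hp : Cfsg.IsRankOnePair A B) (hE : E ∈ Cfsg.linePartners S A) :
    ∃ F ∈ S, Cfsg.RootCommutatorCase S F B ∧ Cfsg.RootCommutatorCase S ⁅F, B⁆ A ∧
      ⁅⁅F, B⁆, A⁆ = F ∧ A ⊔ F = A ⊔ E := by
  obtain ⟨⟨hES, hEA, hcomm⟩, hpart⟩ := hE
  have hnA : ∃ Y ∈ S, Cfsg.IsRankOnePair A Y := ⟨B, hB, hp⟩
  have hdisj : A ⊓ E = ⊥ := root_inf_eq_bot hS hA hnA hES hEA
  obtain ⟨a, ha, ha1⟩ := exists_ne_one_mem (hS.ne_bot A hA)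
  -- a member `F` of the line which is not opposite to `B`, with witnesses
  obtain ⟨F, hF, hFle, hnot, f, hf, hf1, a', ha', ha'1, E', hE', hfa, e, he, he1, heF⟩ :
      ∃ F ∈ S, F ≤ A ⊔ E ∧ ¬ Cfsg.IsRankOnePair F B ∧
        ∃ f ∈ F, f ≠ 1 ∧ ∃ a' ∈ A, a' ≠ 1 ∧ ∃ E' ∈ S, f * a' ∈ E' ∧
          ∃ e ∈ E, e ≠ 1 ∧ e ∈ A ⊔ F := by
    by_cases hEB : Cfsg.IsRankOnePair E B
    · obtain ⟨b, hb, hb1, heq⟩ := hp.cond_left a⁻¹ (inv_mem ha) (inv_ne_one.mpr ha1)
      rw [inv_inv] at heq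
      obtain ⟨e, he, he1, heq2⟩ := hEB.cond_right b hb hb1
      have hf1 : e * a ≠ 1 := by
        intro h0
        have hea : e ∈ A := by rw [eq_inv_of_mul_eq_one_left h0]; exact inv_mem ha
        exact he1 ((Subgroup.eq_bot_iff_forall _).mp hdisj e ⟨hea, he⟩)
      obtain ⟨F, ⟨hF, hFle⟩, hfF⟩ := hpart.2.1 (e * a)
        (mul_mem (Subgroup.mem_sup_right he) (Subgroup.mem_sup_left ha)) hf1
      refine ⟨F, hF, hFle, fun hFB => ?_, e * a, hfF, hf1, a⁻¹, inv_mem ha, inv_ne_one.mpr ha1,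
        E, hES, by rwa [mul_inv_cancel_right], e, he, he1, ?_⟩
      · have hbot : ⁅conjBy B (e * a), B⁆ = ⊥ := by
          have h0 : ⁅conjBy A b⁻¹, conjBy E b⁻¹⁆ = ⊥ := by
            rw [← conjBy_commutator, hcomm, conjBy_bot]
          rw [heq, ← heq2] at h0
          have h1 : conjBy ⁅conjBy B a, conjBy B e⁻¹⁆ e = ⊥ := by rw [h0, conjBy_bot]
          rwa [conjBy_commutator, conjBy_conjBy, conjBy_conjBy, mul_inv_cancel, conjBy_one] at h1
        have hBΩ : conjBy B (e * a) ∈ unipotentSubgroups F B :=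
          conjBy_mem_unipotent (right_mem_unipotent hFB) (Subgroup.mem_sup_left hfF)
        obtain ⟨b', hb', hb'1⟩ := exists_ne_one_mem (hS.ne_bot B hB)
        have := root_eq_of_fixed hS hF hFB (right_mem_unipotent hFB) hBΩ hb' hb'1
          (conjBy_eq_self_of_commute fun x hx =>
            (commute_of_commutator_eq_bot hbot hx hb').symm)
        exact hf1 (rankOne_eq_one_of_normalize hFB hfF this)
      · have := mul_mem (Subgroup.mem_sup_right (S := A) hfF)
          (Subgroup.mem_sup_left (inv_mem ha))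
        rwa [mul_inv_cancel_right] at this
    · obtain ⟨e, he, he1⟩ := exists_ne_one_mem (hS.ne_bot E hES)
      have hea : e * a ≠ 1 := by
        intro h0
        have hea : e ∈ A := by rw [eq_inv_of_mul_eq_one_left h0]; exact inv_mem ha
        exact he1 ((Subgroup.eq_bot_iff_forall _).mp hdisj e ⟨hea, he⟩)
      obtain ⟨F', ⟨hF', -⟩, hfF'⟩ := hpart.2.1 (e * a)
        (mul_mem (Subgroup.mem_sup_right he) (Subgroup.mem_sup_left ha)) hea
      exact ⟨E, hES, le_sup_right, hEB, e, he, he1, a, ha, ha1, F', hF', hfF', e, he, he1,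
        Subgroup.mem_sup_right he⟩
  have hFA : ⁅A, F⁆ = ⊥ := commutator_eq_bot_of_commute fun x hx y hy =>
    (line_commute hS hA hcomm y (hFle hy) x hx).symm
  have hFA' : ∀ x ∈ A, f * x = x * f := fun x hx =>
    (commute_of_commutator_eq_bot hFA hx hf).symm
  rcases hS.pair F hF B hB with h1 | h1 | h1
  · exact absurd (root_translate_eq hS hA hB hp (fun y hy => commute_sup_of_commute hFA'
      (fun x hx => commute_of_commutator_eq_bot h1 hf hx) hy) ha' ha'1 hE' hfa).2 hf1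
  · exact absurd h1 hnot
  · obtain ⟨hr, heq⟩ := swap_line hS hA hB hp hF (hall F hF) hFA h1 hf hf1 ha' ha'1 hE' hfa
    refine ⟨F, hF, h1, hr, heq, le_antisymm (sup_le le_sup_left hFle) (sup_le le_sup_left ?_)⟩
    have hA_C : ⁅A, ⁅F, B⁆⁆ = F := (Subgroup.commutator_comm _ _).trans heq
    have hP := line_partition hS hA hnA (rootCase_symm hr)
    rw [hA_C] at hP
    obtain ⟨T, ⟨hT, hTle⟩, heT⟩ := hP.2.1 e heF he1
    exact root_eq_of_mem_mem hS hES (hall E hES) hT he heT he1 ▸ hTle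

end CfsgLib.RootGroups
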