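import Mathlib
import Cfsg.Prelude.Def_RootSubgroups
import Cfsg.Agent.Lib.RootGroups.RankOne
import Cfsg.Agent.Lib.RootGroups.RootSets
import Cfsg.Agent.Lib.RootGroups.Lines
set_option autoImplicit false

/-!
Timmesfeld: if `⁅A, B⁆ = C` and `⁅D, C⁆ = A` then `(B, D)` is a rank one pair acting on `A ⊔ C`.
-/

namespace CfsgLib.RootGroups

open Cfsg (conjBy unipotentSubgroups)
open scoped commutatorElement

variable {G : Type*} [Group G] {S : Set (Subgroup G)} {A B C D : Subgroup G}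

theorem rootCase_inf_eq_bot (hS : Cfsg.IsRootSubgroupSet S)
    (h : Cfsg.RootCommutatorCase S A B) : A ⊓ ⁅A, B⁆ = ⊥ := by
  rw [Subgroup.eq_bot_iff_forall]
  intro x hx
  exact rootCase_not_centralize hS h hx.1 fun b hb => rootCase_commute_right h hx.2 hb

/-- Inside `A ⊔ ⁅A, B⁆` the centralizer of `B` is `⁅A, B⁆`. -/
theorem rootCase_fixed_mem (hS : Cfsg.IsRootSubgroupSet S) (h : Cfsg.RootCommutatorCase S A B)
    {x : G} (hx : x ∈ A ⊔ ⁅A, B⁆) (hc : ∀ b ∈ B, x * b = b * x) : x ∈ ⁅A, B⁆ := by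
  obtain ⟨a, ha, c, hc', rfl⟩ := (mem_sup_of_commuting (line_comm_left h)).mp hx
  have : a = 1 := rootCase_not_centralize hS h ha fun b hb => by
    have h1 := hc b hb
    rw [mul_assoc, rootCase_commute_right h hc' hb, ← mul_assoc, ← mul_assoc] at h1
    exact mul_right_cancel h1
  rwa [this, one_mul]

/-- Basic computation of the action of `⁅b, d⁆` on `C = ⁅A, B⁆`. -/
theorem opposite_comm_action (hS : Cfsg.IsRootSubgroupSet S) (h : Cfsg.RootCommutatorCase S A B)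
    (hC : ⁅A, B⁆ = C) (h' : Cfsg.RootCommutatorCase S D C) (hA : ⁅D, C⁆ = A)
    (hw : Cfsg.RootCommutatorCase S B D) {b d c : G} (hb : b ∈ B) (hd : d ∈ D) (hc : c ∈ C) :
    ⁅b, d⁆ * c * ⁅b, d⁆⁻¹ = ⁅b, ⁅d, c⁆⁆ * c ∧ ⁅d, ⁅b, ⁅d, c⁆⁆⁆ = 1 := by
  set u := ⁅d, c⁆ with hu_def
  have hu : u ∈ A := hA ▸ Subgroup.commutator_mem_commutator hd hc
  set v := ⁅b, u⁆ with hv_def
  have hv : v ∈ C := by
    rw [← hC, Subgroup.commutator_comm]
    exact Subgroup.commutator_mem_commutator hb hu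
  set x := ⁅d, v⁆ with hx_def
  have hx : x ∈ A := hA ▸ Subgroup.commutator_mem_commutator hd hv
  set y := ⁅b, x⁆ with hy_def
  have hy : y ∈ C := by
    rw [← hC, Subgroup.commutator_comm]
    exact Subgroup.commutator_mem_commutator hb hx
  have cBC : ∀ p ∈ B, ∀ q ∈ C, Commute p q := fun p hp q hq =>
    (rootCase_commute_right h (hC.symm ▸ hq) hp).symm
  have cDA : ∀ p ∈ D, ∀ q ∈ A, Commute p q := fun p hp q hq =>
    (rootCase_commute_left h' (hA.symm ▸ hq) hp).symm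
  -- the five conjugations
  have s1 : d⁻¹ * c * d = u⁻¹ * c := by
    have e : d * c * d⁻¹ = u * c := by rw [hu_def, commutatorElement_def]; group
    have hcd : Commute d u := cDA d hd u hu
    calc d⁻¹ * c * d = d⁻¹ * (u⁻¹ * (d * c * d⁻¹)) * d := by rw [e, inv_mul_cancel_left]
      _ = (d⁻¹ * u⁻¹ * d) * c := by group
      _ = u⁻¹ * c := by rw [hcd.inv_inv.eq, inv_mul_cancel_right]
  have s2 : b⁻¹ * u⁻¹ * b = v * u⁻¹ := by
    have e : b * u * b⁻¹ = v * u := by rw [hv_def, commutatorElement_def]; group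
    have hbv : Commute b v := cBC b hb v hv
    calc b⁻¹ * u⁻¹ * b = b⁻¹ * ((b * u⁻¹ * b⁻¹) * v) * b := by
          rw [show b * u⁻¹ * b⁻¹ = (b * u * b⁻¹)⁻¹ by group, e]; group
      _ = u⁻¹ * (b⁻¹ * v * b) := by group
      _ = u⁻¹ * v := by rw [mul_assoc b⁻¹ v b, ← hbv.eq, inv_mul_cancel_left]
      _ = v * u⁻¹ := by
          have huv : Commute u v := line_comm_left h u hu v (hC.symm ▸ hv)
          exact huv.inv_left.eq
  have main : ⁅b, d⁆ * c * ⁅b, d⁆⁻¹ = y * x * v * c := by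
    calc ⁅b, d⁆ * c * ⁅b, d⁆⁻¹
        = b * (d * (b⁻¹ * (d⁻¹ * c * d) * b) * d⁻¹) * b⁻¹ := by
          rw [commutatorElement_def]; group
      _ = b * (d * ((b⁻¹ * u⁻¹ * b) * (b⁻¹ * c * b)) * d⁻¹) * b⁻¹ := by rw [s1]; group
      _ = b * (d * (v * u⁻¹ * c) * d⁻¹) * b⁻¹ := by
          rw [s2, mul_assoc b⁻¹ c b, ← (cBC b hb c hc).eq, inv_mul_cancel_left]
      _ = b * ((d * v * d⁻¹) * (d * u⁻¹ * d⁻¹) * (d * c * d⁻¹)) * b⁻¹ := by group
      _ = b * ((x * v) * u⁻¹ * (u * c)) * b⁻¹ := by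
          rw [(cDA d hd u hu).inv_right.eq, mul_inv_cancel_right]
          simp only [hx_def, hu_def, commutatorElement_def]; group
      _ = (b * x * b⁻¹) * (b * v * b⁻¹) * (b * c * b⁻¹) := by group
      _ = (y * x) * v * c := by
          rw [(cBC b hb v hv).eq, (cBC b hb c hc).eq, mul_inv_cancel_right, mul_inv_cancel_right]
          simp only [hy_def, commutatorElement_def]; group
  have hwmem : ⁅b, d⁆ ∈ ⁅B, D⁆ := Subgroup.commutator_mem_commutator hb hd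
  have hx1 : x = 1 := by
    refine rootCase_not_centralize hS h hx fun p hp => ?_
    have c1 : Commute ⁅b, d⁆ p := rootCase_commute_left hw hwmem hp
    have c2 : Commute (⁅b, d⁆ * c * ⁅b, d⁆⁻¹) p :=
      (c1.mul_left (cBC p hp c hc).symm).mul_left c1.inv_left
    rw [main] at c2
    have ex : x = y⁻¹ * (y * x * v * c) * c⁻¹ * v⁻¹ := by group
    rw [ex]
    exact ((((cBC p hp y hy).symm.inv_left.mul_left c2).mul_left
      (cBC p hp c hc).symm.inv_left).mul_left (cBC p hp v hv).symm.inv_left).eq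
  refine ⟨?_, hx1⟩
  have hy1 : y = 1 := by rw [hy_def, hx1, commutatorElement_one_right]
  rw [main, hy1, hx1, one_mul, one_mul]

theorem opposite_not_commutator (hS : Cfsg.IsRootSubgroupSet S) (hAS : A ∈ S)
    (h : Cfsg.RootCommutatorCase S A B)
    (hC : ⁅A, B⁆ = C) (h' : Cfsg.RootCommutatorCase S D C) (hA : ⁅D, C⁆ = A) :
    ¬ Cfsg.RootCommutatorCase S B D := by
  intro hw
  have hC' : ⁅B, A⁆ = C := (Subgroup.commutator_comm _ _).trans hC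
  have hA' : ⁅C, D⁆ = A := (Subgroup.commutator_comm _ _).trans hA
  have hsw := rootCase_symm hw
  have actC := fun {b d c : G} (hb : b ∈ B) (hd : d ∈ D) (hc : c ∈ C) =>
    opposite_comm_action hS h hC h' hA hw hb hd hc
  have actA := fun {d b a : G} (hd : d ∈ D) (hb : b ∈ B) (ha : a ∈ A) =>
    opposite_comm_action hS (rootCase_symm h') hA' (rootCase_symm h) hC' hsw hd hb ha
  have hAmem : ∀ {d c : G}, d ∈ D → c ∈ C → ⁅d, c⁆ ∈ A := fun hd hc =>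
    hA ▸ Subgroup.commutator_mem_commutator hd hc
  have hCmem : ∀ {b a : G}, b ∈ B → a ∈ A → ⁅b, a⁆ ∈ C := fun hb ha =>
    hC' ▸ Subgroup.commutator_mem_commutator hb ha
  have hsA := rootCase_symm h
  have cBC : ∀ p ∈ B, ∀ q ∈ C, Commute p q := fun p hp q hq =>
    (rootCase_commute_right h (hC.symm ▸ hq) hp).symm
  have cAC : ∀ p ∈ A, ∀ q ∈ C, Commute p q := fun p hp q hq =>
    line_comm_left h p hp q (hC.symm ▸ hq)
  have conjB : ∀ p a : G, p * a * p⁻¹ = ⁅p, a⁆ * a := fun p a => by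
    rw [commutatorElement_def]; group
  -- anticommutation
  have anti : ∀ {b b' d a : G}, b ∈ B → b' ∈ B → d ∈ D → a ∈ A →
      ⁅b', ⁅d, ⁅b, a⁆⁆⁆ = ⁅b, ⁅d, ⁅b', a⁆⁆⁆⁻¹ := by
    intro b b' d a hb hb' hd ha
    have hw' : ⁅b, d⁆ ∈ ⁅B, D⁆ := Subgroup.commutator_mem_commutator hb hd
    have cwb : Commute ⁅b, d⁆ b' := rootCase_commute_left hw hw' hb'
    obtain ⟨e1, -⟩ := actA hd hb ha
    rw [← commutatorElement_inv b d, inv_inv] at e1
    set c := ⁅b', a⁆ with hc_def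
    have hc : c ∈ C := hCmem hb' ha
    obtain ⟨e2, e3⟩ := actC hb hd hc
    set v := ⁅b, ⁅d, c⁆⁆ with hv_def
    have hv : v ∈ C := hCmem hb (hAmem hd hc)
    obtain ⟨e4, -⟩ := actC hb hd hv
    rw [e3, commutatorElement_one_right, one_mul] at e4
    set u := ⁅d, ⁅b, a⁆⁆ with hu_def
    have hu : u ∈ A := hAmem hd (hCmem hb ha)
    have e5 : ⁅b, d⁆⁻¹ * c * ⁅b, d⁆ = v⁻¹ * c := by
      have hwv : Commute ⁅b, d⁆ v := mul_inv_eq_iff_eq_mul.mp e4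
      calc ⁅b, d⁆⁻¹ * c * ⁅b, d⁆
          = ⁅b, d⁆⁻¹ * (v⁻¹ * (⁅b, d⁆ * c * ⁅b, d⁆⁻¹)) * ⁅b, d⁆ := by rw [e2, inv_mul_cancel_left]
        _ = (⁅b, d⁆⁻¹ * v⁻¹ * ⁅b, d⁆) * c := by group
        _ = v⁻¹ * c := by rw [hwv.inv_inv.eq, inv_mul_cancel_right]
    have h1 : ⁅b, d⁆⁻¹ * (b' * a * b'⁻¹) * ⁅b, d⁆ = b' * (⁅b, d⁆⁻¹ * a * ⁅b, d⁆) * b'⁻¹ := by
      calc ⁅b, d⁆⁻¹ * (b' * a * b'⁻¹) * ⁅b, d⁆
          = (⁅b, d⁆⁻¹ * b') * a * (b'⁻¹ * ⁅b, d⁆) := by group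
        _ = (b' * ⁅b, d⁆⁻¹) * a * (⁅b, d⁆ * b'⁻¹) := by
            rw [cwb.inv_left.eq, ← cwb.inv_right.eq]
        _ = _ := by group
    have hlhs : ⁅b, d⁆⁻¹ * (b' * a * b'⁻¹) * ⁅b, d⁆ = (v⁻¹ * c) * (u * a) := by
      rw [conjB b' a, ← hc_def, ← e5, ← e1]; group
    have hrhs : b' * (⁅b, d⁆⁻¹ * a * ⁅b, d⁆) * b'⁻¹ = ⁅b', u⁆ * u * (c * a) := by
      rw [e1, show b' * (u * a) * b'⁻¹ = (b' * u * b'⁻¹) * (b' * a * b'⁻¹) by group, conjB, conjB]
    rw [hlhs, hrhs] at h1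
    have hcu : c * u = u * c := (cAC u hu c hc).eq.symm
    have h2 : v⁻¹ * (u * c) * a = ⁅b', u⁆ * (u * c) * a := by
      calc v⁻¹ * (u * c) * a = (v⁻¹ * c) * (u * a) := by rw [← hcu]; group
        _ = _ := by rw [h1]; group
    exact (mul_right_cancel (mul_right_cancel h2)).symm
  obtain ⟨a₀, ha₀, ha₀1⟩ := exists_ne_one_mem (hS.ne_bot A hAS)
  obtain ⟨b, hb, hne⟩ := rootCase_exists_ne hS h ha₀ ha₀1
  have hc₀ : ⁅b, a₀⁆ ∈ C := hCmem hb ha₀
  have hc₀1 : ⁅b, a₀⁆ ≠ 1 := by rwa [← commutatorElement_inv, inv_ne_one]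
  have hsurj : ∀ x ∈ A, ∃ d ∈ D, ⁅d, ⁅b, a₀⁆⁆ = x := fun x hx =>
    rootCase_exists_comm_left h' hc₀ hc₀1 (hA.symm ▸ hx)
  have himage : ∀ c ∈ C, ∃ y ∈ A, ⁅b, y⁆ = c := by
    intro c hc
    obtain ⟨b', hb', he⟩ := rootCase_exists_comm_left hsA ha₀ ha₀1 (hC'.symm ▸ hc)
    obtain ⟨d, hd, hde⟩ := hsurj a₀ ha₀
    refine ⟨(⁅d, ⁅b', a₀⁆⁆)⁻¹, inv_mem (hAmem hd (hCmem hb' ha₀)), ?_⟩
    have h1 := anti hb hb' hd ha₀
    rw [hde, he] at h1
    have hx : ⁅d, ⁅b', a₀⁆⁆ ∈ A := hAmem hd (hCmem hb' ha₀)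
    have h2 := rootCase_comm_mul_right hsA hb (inv_mem hx) hx
    rw [inv_mul_cancel, commutatorElement_one_right] at h2
    rw [eq_inv_of_mul_eq_one_left h2.symm, he]
    exact h1.symm
  have hzero : ∀ x ∈ A, ⁅b, x⁆ = 1 := by
    intro x hx
    obtain ⟨d, hd, rfl⟩ := hsurj x hx
    exact (actA hd hb ha₀).2
  exact hc₀1 (hzero a₀ ha₀)

theorem opposite_rankOne (hS : Cfsg.IsRootSubgroupSet S) (hAS : A ∈ S) (hBS : B ∈ S) (hDS : D ∈ S)
    (h : Cfsg.RootCommutatorCase S A B)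
    (hC : ⁅A, B⁆ = C) (h' : Cfsg.RootCommutatorCase S D C) (hA : ⁅D, C⁆ = A) :
    Cfsg.IsRankOnePair B D := by
  rcases hS.pair B hBS D hDS with h1 | h1 | h1
  · exfalso
    obtain ⟨a, ha, ha1⟩ := exists_ne_one_mem (hS.ne_bot A hAS)
    obtain ⟨b, hb, hne⟩ := rootCase_exists_ne hS h ha ha1
    have hc : ⁅a, b⁆ ∈ C := hC ▸ Subgroup.commutator_mem_commutator ha hb
    refine hne (rootCase_not_centralize hS (rootCase_symm h') hc fun d hd => ?_)
    have c1 : Commute d a := (rootCase_commute_left h' (hA.symm ▸ ha) hd).symm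
    have c2 : Commute d b := (commute_of_commutator_eq_bot h1 hb hd).symm
    rw [commutatorElement_def]
    exact (((c1.mul_right c2).mul_right c1.inv_right).mul_right c2.inv_right).eq.symm
  · exact h1
  · exact absurd h1 (opposite_not_commutator hS hAS h hC h' hA)

theorem opposite_orbit (hS : Cfsg.IsRootSubgroupSet S) (hAS : A ∈ S) (hBS : B ∈ S) (hDS : D ∈ S)
    (h : Cfsg.RootCommutatorCase S A B)
    (hC : ⁅A, B⁆ = C) (h' : Cfsg.RootCommutatorCase S D C) (hA : ⁅D, C⁆ = A) :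
    (∀ x ∈ B ⊔ D, conjBy (A ⊔ C) x = A ⊔ C) ∧
    (∀ x ∈ B ⊔ D, conjBy B x = B → conjBy C x = C) ∧
    ∃ x₀ ∈ B ⊔ D, conjBy B x₀ = D ∧ conjBy C x₀ = A := by
  have hBD := opposite_rankOne hS hAS hBS hDS h hC h' hA
  have hA' : ⁅C, D⁆ = A := (Subgroup.commutator_comm _ _).trans hA
  have hnorm : ∀ x ∈ B ⊔ D, conjBy (A ⊔ C) x = A ⊔ C := by
    intro x hx
    suffices hle : B ⊔ D ≤ Subgroup.normalizer ((A ⊔ C : Subgroup G) : Set G) from
      mem_normalizer_iff_conjBy.mp (hle hx)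
    have hstep : ∀ {P Q R : Subgroup G}, Cfsg.RootCommutatorCase S P Q → ⁅P, Q⁆ = R →
        ∀ q ∈ Q, conjBy (P ⊔ R) q ≤ P ⊔ R := by
      intro P Q R hPQ hR q hq
      rw [conjBy_sup]
      refine sup_le (hR ▸ line_conj_le hPQ hq) ?_
      refine le_sup_of_le_right (le_of_eq (conjBy_eq_self_of_commute fun r hr => ?_))
      exact (rootCase_commute_right hPQ (hR.symm ▸ hr) hq).symm
    have hfix : ∀ {Q : Subgroup G}, (∀ q ∈ Q, conjBy (A ⊔ C) q ≤ A ⊔ C) →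
        Q ≤ Subgroup.normalizer ((A ⊔ C : Subgroup G) : Set G) := by
      intro Q hQ q hq
      refine mem_normalizer_iff_conjBy.mpr (le_antisymm (hQ q hq) ?_)
      have := conjBy_mono q (hQ q⁻¹ (inv_mem hq))
      rwa [conjBy_conjBy_inv] at this
    refine sup_le (hfix fun q hq => hstep h hC q hq) (hfix fun q hq => ?_)
    have := hstep (rootCase_symm h') hA' q hq
    rwa [sup_comm C A] at this
  have hmap : ∀ x ∈ B ⊔ D, ∀ {P Q : Subgroup G}, P ≤ A ⊔ C → (∀ p ∈ P, ∀ q ∈ Q, p * q = q * p) →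
      ∀ y ∈ conjBy P x, y ∈ A ⊔ C ∧ ∀ q ∈ conjBy Q x, y * q = q * y := by
    rintro x hx P Q hP hc _ ⟨p, hp, rfl⟩
    refine ⟨(hnorm x hx).le ⟨p, hP hp, rfl⟩, ?_⟩
    rintro _ ⟨q, hq, rfl⟩
    rw [← map_mul, hc p hp q hq, map_mul]
  have hCB : ∀ c ∈ C, ∀ q ∈ B, c * q = q * c := fun c hc q hq =>
    rootCase_commute_right h (hC.symm ▸ hc) hq
  have hAD : ∀ a ∈ A, ∀ q ∈ D, a * q = q * a := fun a ha q hq =>
    rootCase_commute_left h' (hA.symm ▸ ha) hq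
  have fixB : ∀ y ∈ A ⊔ C, (∀ q ∈ B, y * q = q * y) → y ∈ C := fun y hy hq =>
    hC ▸ rootCase_fixed_mem hS h (hC.symm ▸ hy) hq
  have fixD : ∀ y ∈ A ⊔ C, (∀ q ∈ D, y * q = q * y) → y ∈ A := fun y hy hq =>
    hA' ▸ rootCase_fixed_mem hS (rootCase_symm h') (by rw [hA', sup_comm]; exact hy) hq
  refine ⟨hnorm, fun x hx hB => ?_, ?_⟩
  · have hle : ∀ x ∈ B ⊔ D, conjBy B x = B → conjBy C x ≤ C := by
      intro x hx hB y hy
      obtain ⟨h1, h2⟩ := hmap x hx le_sup_right hCB y hy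
      exact fixB y h1 fun q hq => h2 q (hB.symm ▸ hq)
    refine le_antisymm (hle x hx hB) ?_
    have := conjBy_mono x (hle x⁻¹ (inv_mem hx) (conjBy_eq_iff.mp hB).symm)
    rwa [conjBy_conjBy_inv] at this
  · obtain ⟨x, hx, hxD⟩ := right_mem_unipotent hBD
    refine ⟨x, hx, hxD.symm, le_antisymm ?_ ?_⟩
    · intro y hy
      obtain ⟨h1, h2⟩ := hmap x hx le_sup_right hCB y hy
      exact fixD y h1 fun q hq => h2 q (hxD ▸ hq)
    · have hle : conjBy A x⁻¹ ≤ C := by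
        intro y hy
        obtain ⟨h1, h2⟩ := hmap x⁻¹ (inv_mem hx) le_sup_left hAD y hy
        refine fixB y h1 fun q hq => h2 q ?_
        rw [hxD, conjBy_inv_conjBy]; exact hq
      have := conjBy_mono x hle
      rwa [conjBy_conjBy_inv] at this

end CfsgLib.RootGroups
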