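import Mathlib
import Cfsg.Prelude.Def_RootSubgroups
import Cfsg.Agent.Lib.RootGroups.RankOne
import Cfsg.Agent.Lib.RootGroups.RootSets
import Cfsg.Agent.Lib.RootGroups.Lines
import Cfsg.Agent.Lib.RootGroups.Opposite
set_option autoImplicit false

/-!
Classes of abstract root subgroups: components of `𝓕(Σ)`, transitivity on lines, connectedness of
`𝓔(Σ)` and generation.
-/

namespace CfsgLib.RootGroups

open Cfsg (conjBy unipotentSubgroups)
open scoped commutatorElement

variable {G : Type*} [Group G] {S : Set (Subgroup G)}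

theorem rootCase_not_rankOne (hS : Cfsg.IsRootSubgroupSet S) {A B : Subgroup G} (hA : A ∈ S)
    (hB : B ∈ S) (h : Cfsg.RootCommutatorCase S A B) : ¬ Cfsg.IsRankOnePair A B := by
  intro hp
  obtain ⟨a, ha, ha1⟩ := exists_ne_one_mem (hS.ne_bot A hA)
  obtain ⟨b, hb, hb1⟩ := exists_ne_one_mem (hS.ne_bot B hB)
  refine rankOne_conj_ne hp ha ha1 (root_eq_of_fixed hS hA hp (right_mem_unipotent hp)
    (conjBy_mem_unipotent (right_mem_unipotent hp) (Subgroup.mem_sup_left ha)) hb hb1 ?_)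
  refine conjBy_eq_of_commute_mem hS (hS.conj_mem B hB a)
    (nonIso_conjBy hS ⟨A, hA, Cfsg.RankOnePair_symm hp⟩ a) (conj_mem_conjBy hb)
    (by simpa [mul_inv_eq_one] using hb1) ?_
  have hc := rootCase_commute_right h (Subgroup.commutator_mem_commutator ha hb) hb
  rw [show a * b * a⁻¹ = ⁅a, b⁆ * b by rw [commutatorElement_def]; group, ← mul_assoc, ← hc]

theorem linePartners_symm {A F : Subgroup G} (hA : A ∈ S) (h : F ∈ Cfsg.linePartners S A) :
    A ∈ Cfsg.linePartners S F := by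
  obtain ⟨⟨-, hne, hbot⟩, hp⟩ := h
  exact ⟨⟨hA, hne.symm, (Subgroup.commutator_comm F A).trans hbot⟩, by rwa [sup_comm]⟩

/-- After a swap, all members of the line other than `F` are opposite to `A'`. -/
theorem swap_others_opposite (hS : Cfsg.IsRootSubgroupSet S) {A A' F : Subgroup G} (hA : A ∈ S)
    (hA' : A' ∈ S) (hp : Cfsg.IsRankOnePair A A') (hFA' : Cfsg.RootCommutatorCase S F A')
    (hr : Cfsg.RootCommutatorCase S ⁅F, A'⁆ A) (heq : ⁅⁅F, A'⁆, A⁆ = F) {M : Subgroup G}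
    (hM : M ∈ Cfsg.membersIn S (A ⊔ F)) (hne : M ≠ F) : Cfsg.IsRankOnePair M A' := by
  have h : ⁅A, ⁅F, A'⁆⁆ = F := (Subgroup.commutator_comm _ _).trans heq
  have hmem := line_members hS hA ⟨A', hA', hp⟩ (rootCase_symm hr)
  rw [h] at hmem
  rw [hmem] at hM
  rcases hM with ⟨c, hc, rfl⟩ | hM
  · have := isRankOnePair_conjBy hp c
    rwa [conjBy_eq_self_of_commute (A := A') fun x hx =>
      rootCase_commute_right hFA' hc hx] at this
  · exact absurd hM hne

/-! ### Reachability in `𝓕(Σ)` -/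

theorem fReach_symm {A B : Subgroup G} (h : Relation.ReflTransGen (Cfsg.FAdj S) A B) :
    Relation.ReflTransGen (Cfsg.FAdj S) B A := by
  induction h with
  | refl => exact Relation.ReflTransGen.refl
  | tail _ hbc ih =>
    exact Relation.ReflTransGen.head ⟨hbc.2.1, hbc.1, Cfsg.RankOnePair_symm hbc.2.2⟩ ih

theorem fReach_conj (hS : Cfsg.IsRootSubgroupSet S) (g : G) {A B : Subgroup G}
    (h : Relation.ReflTransGen (Cfsg.FAdj S) A B) :
    Relation.ReflTransGen (Cfsg.FAdj S) (conjBy A g) (conjBy B g) :=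
  h.lift (fun C : Subgroup G => conjBy C g) fun _ _ hab =>
    ⟨hS.conj_mem _ hab.1 g, hS.conj_mem _ hab.2.1 g, isRankOnePair_conjBy hab.2.2 g⟩

theorem componentOf_eq_of_reach {A B : Subgroup G}
    (h : Relation.ReflTransGen (Cfsg.FAdj S) A B) :
    Cfsg.componentOf (Cfsg.FAdj S) S A = Cfsg.componentOf (Cfsg.FAdj S) S B := by
  ext C
  exact ⟨fun hC => ⟨hC.1, (fReach_symm h).trans hC.2⟩, fun hC => ⟨hC.1, h.trans hC.2⟩⟩

/-- Timmesfeld: no line joins different components of `𝓕(Σ)`. -/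
theorem linePartner_reach (hS : Cfsg.IsRootSubgroupSet S) {A B : Subgroup G} (hA : A ∈ S)
    (hnA : ∃ X ∈ S, Cfsg.IsRankOnePair A X) (hB : B ∈ S)
    (hnB : ∃ X ∈ S, Cfsg.IsRankOnePair B X) (hline : B ∈ Cfsg.linePartners S A) :
    Relation.ReflTransGen (Cfsg.FAdj S) A B := by
  -- for every opposite `P'` of one point of the line either it reaches the other point or the
  -- whole line minus the other point is opposite to `P'`
  have key : ∀ P Q : Subgroup G, P ∈ S → Q ∈ S → (∃ X ∈ S, Cfsg.IsRankOnePair Q X) →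
      Q ∈ Cfsg.linePartners S P → ∀ P' ∈ S, Cfsg.IsRankOnePair P P' →
      Relation.ReflTransGen (Cfsg.FAdj S) P Q ∨
        ((∀ M ∈ Cfsg.membersIn S (P ⊔ Q), M ≠ Q → Relation.ReflTransGen (Cfsg.FAdj S) P M) ∧
          ∃ M ∈ Cfsg.membersIn S (P ⊔ Q), M ≠ P ∧ M ≠ Q) := by
    intro P Q hP hQ hnQ hl P' hP' hp
    obtain ⟨⟨-, hQP, hbot⟩, hpart⟩ := hl
    obtain ⟨p, hp', hp1⟩ := exists_ne_one_mem (hS.ne_bot P hP)
    obtain ⟨q, hq, hq1⟩ := exists_ne_one_mem (hS.ne_bot Q hQ)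
    have hqp : q * p ≠ 1 := by
      intro h0
      refine hQP (root_eq_of_mem_mem hS hP ⟨P', hP', hp⟩ hQ ?_ hq hq1)
      rw [eq_inv_of_mul_eq_one_left h0]; exact inv_mem hp'
    obtain ⟨E, ⟨hE, -⟩, hqpE⟩ := hpart.2.1 (q * p)
      (mul_mem (Subgroup.mem_sup_right hq) (Subgroup.mem_sup_left hp')) hqp
    rcases hS.pair Q hQ P' hP' with h1 | h1 | h1
    · exact absurd (root_translate_eq hS hP hP' hp (fun y hy => commute_sup_of_commute
        (fun x hx => (commute_of_commutator_eq_bot hbot hx hq).symm)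
        (fun x hx => commute_of_commutator_eq_bot h1 hq hx) hy) hp' hp1 hE hqpE).2 hq1
    · exact Or.inl (Relation.ReflTransGen.head ⟨hP, hP', hp⟩
        (Relation.ReflTransGen.single ⟨hP', hQ, Cfsg.RankOnePair_symm h1⟩))
    · obtain ⟨hr, heq⟩ := swap_line hS hP hP' hp hQ hnQ hbot h1 hq hq1 hp' hp1 hE hqpE
      refine Or.inr ⟨fun M hM hMQ => Relation.ReflTransGen.head ⟨hP, hP', hp⟩
        (Relation.ReflTransGen.single ⟨hP', hM.1,
          Cfsg.RankOnePair_symm (swap_others_opposite hS hP hP' hp h1 hr heq hM hMQ)⟩), ?_⟩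
      have hC : ⁅P, ⁅Q, P'⁆⁆ = Q := (Subgroup.commutator_comm _ _).trans heq
      obtain ⟨c, hc, hc1⟩ := exists_ne_one_mem (hS.ne_bot _ h1.1)
      refine ⟨conjBy P c, ⟨hS.conj_mem P hP c, ?_⟩, ?_, ?_⟩
      · have := line_conj_le (rootCase_symm hr) hc
        rwa [hC] at this
      · intro he
        have hmem : ⁅p, c⁆ ∈ Q := hC.le (Subgroup.commutator_mem_commutator hp' hc)
        have hmem' : ⁅p, c⁆ ∈ P := by
          rw [commutatorElement_def, mul_assoc, mul_assoc, ← mul_assoc c]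
          refine mul_mem hp' ?_
          have := conj_mem_conjBy (g := c) (inv_mem hp')
          rwa [he] at this
        refine hc1 (line_injective hS hP ⟨P', hP', hp⟩ (rootCase_symm hr) hp' hp1 hc ?_)
        by_contra hne
        exact hQP (root_eq_of_mem_mem hS hP ⟨P', hP', hp⟩ hQ hmem' hmem hne)
      · intro he
        have hfix : conjBy Q c = Q :=
          conjBy_eq_self_of_commute fun x hx => rootCase_commute_left h1 hc hx
        exact hQP (conjBy_inj.mp (hfix.trans he.symm))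
  obtain ⟨A', hA', hpA⟩ := hnA
  obtain ⟨B', hB', hpB⟩ := hnB
  rcases key A B hA hB ⟨B', hB', hpB⟩ hline A' hA' hpA with h | ⟨h, M, hM, hMA, hMB⟩
  · exact h
  rcases key B A hB hA ⟨A', hA', hpA⟩ (linePartners_symm hA hline) B' hB' hpB with h2 | ⟨h2, -⟩
  · exact fReach_symm h2
  exact (h M hM hMB).trans (fReach_symm (h2 M (by rwa [sup_comm]) hMA))

/-! ### Lines as orbits -/

theorem reverse_line (hS : Cfsg.IsRootSubgroupSet S)
    (hall : ∀ X ∈ S, ∃ Y ∈ S, Cfsg.IsRankOnePair X Y) {A C F : Subgroup G} (hA : A ∈ S)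
    (h : Cfsg.RootCommutatorCase S C A) (heq : ⁅C, A⁆ = F) :
    ∃ C' ∈ S, Cfsg.RootCommutatorCase S C' F ∧ ⁅C', F⁆ = A := by
  have h' := rootCase_symm h
  have hAC : ⁅A, C⁆ = F := (Subgroup.commutator_comm A C).trans heq
  have hF : F ∈ S := heq ▸ h.1
  obtain ⟨B, hB, hp⟩ := hall F hF
  have hlp : A ∈ Cfsg.linePartners S F := hAC ▸ (line_linePartner hS hA (hall A hA) h').1
  obtain ⟨F₂, hF₂, h1, hr, hF2eq, hline⟩ := exists_projection hS hall hF hB hp hlp
  have hmem : F₂ ∈ Cfsg.membersIn S (A ⊔ ⁅A, C⁆) := by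
    refine ⟨hF₂, ?_⟩
    rw [hAC, sup_comm A F, ← hline]; exact le_sup_right
  rw [line_members hS hA (hall A hA) h', hAC] at hmem
  rcases hmem with ⟨c, hc, hceq⟩ | hmem
  · set D := conjBy ⁅F₂, B⁆ c⁻¹
    have hfix : conjBy F c⁻¹ = F := conjBy_eq_self_of_commute fun x hx =>
      ((show Commute x c from rootCase_commute_left h (heq.symm ▸ hx) hc).symm.inv_left).eq
    have hDeq : ⁅D, F⁆ = A := by
      have h2 := conjBy_commutator ⁅F₂, B⁆ F c⁻¹
      rw [hF2eq, hfix] at h2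
      refine h2.symm.trans (conjBy_eq_iff.mpr ?_)
      rw [inv_inv]; exact hceq.symm
    exact ⟨D, hS.conj_mem _ h1.1 _,
      rootCase_of_mem hS (hS.conj_mem _ h1.1 _) hF (hDeq.symm ▸ hA), hDeq⟩
  · exfalso
    rw [Set.mem_singleton_iff] at hmem
    have := line_ne hS hF (rootCase_symm hr)
    rw [(Subgroup.commutator_comm _ _).trans hF2eq] at this
    exact this hmem

/-- Every line through `A` is `A ⊔ ⁅C, A⁆` for some member `C` with `⁅C, A⁆` the given point. -/
theorem exists_line_commutator (hS : Cfsg.IsRootSubgroupSet S)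
    (hall : ∀ X ∈ S, ∃ Y ∈ S, Cfsg.IsRankOnePair X Y) {A F : Subgroup G} (hA : A ∈ S)
    (hF : F ∈ Cfsg.linePartners S A) :
    ∃ C ∈ S, Cfsg.RootCommutatorCase S C A ∧ ⁅C, A⁆ = F := by
  obtain ⟨B, hB, hp⟩ := hall A hA
  obtain ⟨F₁, hF₁, h1, hr, heq, hline⟩ := exists_projection hS hall hA hB hp hF
  obtain ⟨C', hC', hr', heq'⟩ := reverse_line hS hall hA hr heq
  have h' := rootCase_symm hr'
  have hF1A : ⁅F₁, C'⁆ = A := (Subgroup.commutator_comm _ _).trans heq'
  have hmem : F ∈ Cfsg.membersIn S (F₁ ⊔ ⁅F₁, C'⁆) := by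
    refine ⟨hF.1.1, ?_⟩
    rw [hF1A, sup_comm F₁ A, hline]; exact le_sup_right
  rw [line_members hS hF₁ (hall F₁ hF₁) h', hF1A] at hmem
  rcases hmem with ⟨c, hc, rfl⟩ | hmem
  · have hfix : conjBy A c = A := conjBy_eq_self_of_commute fun x hx =>
      (show Commute x c from rootCase_commute_left hr' (heq'.symm ▸ hx) hc).symm.eq
    have hDeq : ⁅conjBy ⁅F₁, B⁆ c, A⁆ = conjBy F₁ c := by
      have h2 := conjBy_commutator ⁅F₁, B⁆ A c
      rwa [heq, hfix, eq_comm] at h2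
    exact ⟨_, hS.conj_mem _ h1.1 _,
      rootCase_of_mem hS (hS.conj_mem _ h1.1 _) hA (hDeq.symm ▸ hS.conj_mem _ hF₁ _), hDeq⟩
  · exact absurd hmem hF.1.2.1

/-- The two line normalizers act doubly transitively on the members of the line. -/
theorem line_transitive (hS : Cfsg.IsRootSubgroupSet S)
    (hall : ∀ X ∈ S, ∃ Y ∈ S, Cfsg.IsRankOnePair X Y) {A F C C' : Subgroup G} (hA : A ∈ S)
    (hF : F ∈ S) (hC : Cfsg.RootCommutatorCase S C A) (hCeq : ⁅C, A⁆ = F)
    (hC' : Cfsg.RootCommutatorCase S C' F) (hC'eq : ⁅C', F⁆ = A) (hCS : C ∈ S) :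
    (∀ x ∈ C ⊔ C', conjBy (A ⊔ F) x = A ⊔ F) ∧
    ∀ M ∈ Cfsg.membersIn S (A ⊔ F), ∀ N ∈ Cfsg.membersIn S (A ⊔ F), M ≠ N →
      ∃ x ∈ C ⊔ C', conjBy A x = M ∧ conjBy F x = N := by
  have h := rootCase_symm hC
  have h' := rootCase_symm hC'
  have hAC : ⁅A, C⁆ = F := (Subgroup.commutator_comm A C).trans hCeq
  have hFC : ⁅F, C'⁆ = A := (Subgroup.commutator_comm F C').trans hC'eq
  have hm1 := line_members hS hA (hall A hA) h
  rw [hAC] at hm1
  have hm2 := line_members hS hF (hall F hF) h'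
  rw [hFC, sup_comm F A] at hm2
  have fixF : ∀ c ∈ C, conjBy F c = F := fun c hc => conjBy_eq_self_of_commute fun x hx =>
    (rootCase_commute_left hC (hCeq.symm ▸ hx) hc).symm
  have hnorm : ∀ x ∈ C ⊔ C', conjBy (A ⊔ F) x = A ⊔ F := by
    have hone : ∀ {P Q R : Subgroup G}, Cfsg.RootCommutatorCase S P Q → ⁅P, Q⁆ = R →
        Q ≤ Subgroup.normalizer ((P ⊔ R : Subgroup G) : Set G) := by
      intro P Q R hPQ hR
      have hle : ∀ q ∈ Q, conjBy (P ⊔ R) q ≤ P ⊔ R := by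
        intro q hq
        rw [conjBy_sup]
        refine sup_le (hR ▸ line_conj_le hPQ hq) ?_
        refine le_sup_of_le_right (le_of_eq (conjBy_eq_self_of_commute fun r hr => ?_))
        exact (rootCase_commute_right hPQ (hR.symm ▸ hr) hq).symm
      intro q hq
      refine mem_normalizer_iff_conjBy.mpr (le_antisymm (hle q hq) ?_)
      have := conjBy_mono q (hle q⁻¹ (inv_mem hq))
      rwa [conjBy_conjBy_inv] at this
    intro x hx
    have hle : C ⊔ C' ≤ Subgroup.normalizer ((A ⊔ F : Subgroup G) : Set G) := by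
      refine sup_le (hone h hAC) ?_
      have := hone h' hFC
      rwa [sup_comm F A] at this
    exact mem_normalizer_iff_conjBy.mp (hle hx)
  refine ⟨hnorm, fun M hM N hN hne => ?_⟩
  have step : ∀ {M}, M ∈ Cfsg.membersIn S (A ⊔ F) → M ≠ F → ∃ c ∈ C, conjBy A c = M := by
    intro M hM hMF
    rw [hm1] at hM
    rcases hM with ⟨c, hc, rfl⟩ | hM
    · exact ⟨c, hc, rfl⟩
    · exact absurd hM hMF
  have stepA : ∀ {M}, M ∈ Cfsg.membersIn S (A ⊔ F) → M ≠ A → ∃ c ∈ C', conjBy F c = M := by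
    intro M hM hMA
    rw [hm2] at hM
    rcases hM with ⟨c, hc, rfl⟩ | hM
    · exact ⟨c, hc, rfl⟩
    · exact absurd hM hMA
  -- some element moves `F` to `N`
  obtain ⟨k, hk, hkN⟩ : ∃ k ∈ C ⊔ C', conjBy F k = N := by
    by_cases hNA : N = A
    · obtain ⟨c₀, hc₀, hc₀1⟩ := exists_ne_one_mem (hS.ne_bot C hCS)
      have hne' : conjBy A c₀ ≠ A := by
        intro he
        obtain ⟨a, ha, ha1⟩ := exists_ne_one_mem (hS.ne_bot A hA)
        have hmem : ⁅a, c₀⁆ ∈ A := by
          rw [commutatorElement_def, mul_assoc, mul_assoc, ← mul_assoc c₀]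
          refine mul_mem ha ?_
          have := conj_mem_conjBy (g := c₀) (inv_mem ha)
          rwa [he] at this
        refine hc₀1 (line_injective hS hA (hall A hA) h ha ha1 hc₀ ?_)
        exact (Subgroup.eq_bot_iff_forall _).mp (rootCase_inf_eq_bot hS h) _
          (show ⁅a, c₀⁆ ∈ A ⊓ ⁅A, C⁆ from ⟨hmem, Subgroup.commutator_mem_commutator ha hc₀⟩)
      obtain ⟨c', hc', hce⟩ := stepA ⟨hS.conj_mem A hA c₀, hAC ▸ line_conj_le h hc₀⟩ hne'
      refine ⟨c₀⁻¹ * c', mul_mem (inv_mem (Subgroup.mem_sup_left hc₀))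
        (Subgroup.mem_sup_right hc'), ?_⟩
      rw [← conjBy_conjBy, hce, conjBy_inv_conjBy, hNA]
    · obtain ⟨c', hc', hce⟩ := stepA hN hNA
      exact ⟨c', Subgroup.mem_sup_right hc', hce⟩
  have hM' : conjBy M k⁻¹ ∈ Cfsg.membersIn S (A ⊔ F) :=
    ⟨hS.conj_mem M hM.1 _, by rw [← hnorm k⁻¹ (inv_mem hk)]; exact conjBy_mono _ hM.2⟩
  obtain ⟨c, hc, hce⟩ := step hM' fun he => hne (by rw [← hkN, ← he, conjBy_conjBy_inv])
  refine ⟨k * c, mul_mem hk (Subgroup.mem_sup_left hc), ?_, ?_⟩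
  · rw [← conjBy_conjBy, hce, conjBy_conjBy_inv]
  · rw [← conjBy_conjBy, fixF c hc, hkN]

/-! ### Conjugacy classes -/

theorem class_all_nonIso (hS : Cfsg.IsRootSubgroupSet S) (hc : Cfsg.IsConjClassOfSubgroups S)
    {A : Subgroup G} (hA : A ∈ S) (hn : ∃ A' ∈ S, Cfsg.IsRankOnePair A A') :
    ∀ X ∈ S, ∃ Y ∈ S, Cfsg.IsRankOnePair X Y := by
  intro X hX
  obtain ⟨g, rfl⟩ := hc.2 A hA X hX
  exact nonIso_conjBy hS hn g

theorem nondegenerate_all_nonIso (hS : Cfsg.IsRootSubgroupClass S)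
    (hnd : Cfsg.IsNondegenerateRootSet S) : ∀ X ∈ S, ∃ Y ∈ S, Cfsg.IsRankOnePair X Y := by
  obtain ⟨-, ⟨A, hA, B, hB, h⟩, -⟩ := hnd
  exact class_all_nonIso hS.1 hS.2 hA ⟨B, hB, h⟩

theorem class_exists_linePartner (hS : Cfsg.IsRootSubgroupClass S)
    (hnd : Cfsg.IsNondegenerateRootSet S) {A : Subgroup G} (hA : A ∈ S) :
    ∃ E, E ∈ Cfsg.linePartners S A := by
  have hall := nondegenerate_all_nonIso hS hnd
  obtain ⟨-, -, A₁, hA₁, B₁, hB₁, h⟩ := hnd
  obtain ⟨g, rfl⟩ := hS.2.2 A₁ hA₁ A hA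
  have h' : Cfsg.RootCommutatorCase S (conjBy A₁ g) (conjBy B₁ g) := by
    refine rootCase_of_mem hS.1 hA (hS.1.conj_mem _ hB₁ g) ?_
    rw [← conjBy_commutator]; exact hS.1.conj_mem _ h.1 g
  exact ⟨_, (line_linePartner hS.1 hA (hall _ hA) h').2⟩

theorem eq_top_of_members_le (hS : Cfsg.IsRootSubgroupSet S) {H : Subgroup G}
    (h : ∀ A ∈ S, A ≤ H) : H = ⊤ :=
  top_le_iff.mp (hS.generates ▸ iSup₂_le h)

theorem class_connected (hS : Cfsg.IsRootSubgroupSet S) (hc : Cfsg.IsConjClassOfSubgroups S)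
    (hall : ∀ X ∈ S, ∃ Y ∈ S, Cfsg.IsRankOnePair X Y) :
    Cfsg.IsConnectedFamily (Cfsg.FAdj S) S := by
  intro A hA B hB
  obtain ⟨g, rfl⟩ := hc.2 A hA B hB
  clear hB
  let P : Subgroup G :=
    { carrier := {g | ∀ X ∈ S, Relation.ReflTransGen (Cfsg.FAdj S) X (conjBy X g)}
      one_mem' := fun X _ => by rw [conjBy_one]
      mul_mem' := by
        intro x y hx hy X hX
        rw [← conjBy_conjBy]
        exact (hy X hX).trans (hx _ (hS.conj_mem X hX y))
      inv_mem' := by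
        intro x hx X hX
        have := hx _ (hS.conj_mem X hX x⁻¹)
        rw [conjBy_conjBy_inv] at this
        exact fReach_symm this }
  have hP : P = ⊤ := eq_top_of_members_le hS fun D hD d hd X hX => by
    rcases hS.pair X hX D hD with h | h | h
    · rw [conjBy_eq_self_of_commute fun x hx => (commute_of_commutator_eq_bot h hx hd).symm]
    · refine Relation.ReflTransGen.head ⟨hX, hD, h⟩ (Relation.ReflTransGen.single
        ⟨hD, hS.conj_mem X hX d, ?_⟩)
      have := isRankOnePair_conjBy h d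
      rw [conjBy_eq_self hd] at this
      exact Cfsg.RankOnePair_symm this
    · have hl := (line_linePartner hS hX (hall X hX) h).2
      have h1 := linePartner_reach hS hX (hall X hX) h.1 (hall _ h.1) hl
      have h2 := fReach_conj hS d (fReach_symm h1)
      rw [conjBy_eq_self_of_commute (A := ⁅X, D⁆) fun x hx =>
        (rootCase_commute_right h hx hd).symm] at h2
      exact h1.trans h2
  exact (hP ▸ Subgroup.mem_top g : g ∈ P) A hA

theorem class_eAdj_connected (hS : Cfsg.IsRootSubgroupClass S)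
    (hnd : Cfsg.IsNondegenerateRootSet S) :
    Cfsg.IsConnectedFamily (Cfsg.EAdj S S) S := by
  have hall := nondegenerate_all_nonIso hS hnd
  intro A hA B hB
  have h := class_connected hS.1 hS.2 hall A hA B hB
  clear hB
  induction h with
  | refl => exact Relation.ReflTransGen.refl
  | @tail P Q _ hPQ ih =>
    refine ih.trans ?_
    obtain ⟨hP, hQ, hp⟩ := hPQ
    obtain ⟨E, hE⟩ := class_exists_linePartner hS hnd hP
    obtain ⟨F, hF, h1, hr, heq, -⟩ := exists_projection hS.1 hall hP hQ hp hE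
    have l1 := (line_linePartner hS.1 hP (hall P hP) (rootCase_symm hr)).2
    rw [(Subgroup.commutator_comm _ _).trans heq] at l1
    have l2 := (line_linePartner hS.1 hF (hall F hF) h1).2
    have l3 := (line_linePartner hS.1 hQ (hall Q hQ) (rootCase_symm h1)).1
    rw [Subgroup.commutator_comm Q F] at l3
    exact Relation.ReflTransGen.head ⟨hP, hF, l1⟩ (Relation.ReflTransGen.head ⟨hF, h1.1, l2⟩
      (Relation.ReflTransGen.single ⟨h1.1, hQ, l3⟩))

/-- Timmesfeld: a non-degenerate class is generated by `Λ_A` and an opposite of `A`. -/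
theorem class_generated (hS : Cfsg.IsRootSubgroupClass S) (hnd : Cfsg.IsNondegenerateRootSet S)
    {A B : Subgroup G} (hA : A ∈ S) (hB : B ∈ S) (hp : Cfsg.IsRankOnePair A B) :
    (⨆ C ∈ Cfsg.linePartners S A, C) ⊔ B = ⊤ := by
  have hall := nondegenerate_all_nonIso hS hnd
  set H := (⨆ C ∈ Cfsg.linePartners S A, C) ⊔ B
  have hΛ : ∀ C ∈ Cfsg.linePartners S A, C ≤ H := fun C hC =>
    le_sup_of_le_left (le_iSup₂ (f := fun C _ => C) C hC)
  have hstep : ∀ E ∈ Cfsg.linePartners S A, ∃ h ∈ H, conjBy A h = E ∧ A ≤ H := by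
    intro E hE
    obtain ⟨F, hF, h1, hr, heq, hline⟩ := exists_projection hS.1 hall hA hB hp hE
    obtain ⟨C', hC', hr', heq'⟩ := reverse_line hS.1 hall hA hr heq
    have hAC : ⁅A, ⁅F, B⁆⁆ = F := (Subgroup.commutator_comm _ _).trans heq
    have hl := (line_linePartner hS.1 hA (hall A hA) (rootCase_symm hr)).2
    rw [hAC] at hl
    have hl' := (line_linePartner hS.1 hC' (hall C' hC') hr').1
    rw [heq'] at hl'
    have hle : ∀ {P Q : Subgroup G}, P ≤ H → Q ≤ H → ⁅P, Q⁆ ≤ H := fun hP hQ =>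
      Subgroup.commutator_le.mpr fun p hp q hq => by
        rw [commutatorElement_def]
        exact mul_mem (mul_mem (mul_mem (hP hp) (hQ hq)) (inv_mem (hP hp))) (inv_mem (hQ hq))
    have hCH : ⁅F, B⁆ ≤ H := hle (hΛ F hl) le_sup_right
    have hC'H : C' ≤ H := hΛ C' hl'
    obtain ⟨A', hA', hpA⟩ := hall A hA
    obtain ⟨x, hx, hx1, -⟩ := (line_transitive hS.1 hall hA hF hr heq hr' heq' h1.1).2 E
      ⟨hE.1.1, by rw [hline]; exact le_sup_right⟩ A ⟨hA, le_sup_left⟩ hE.1.2.1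
    exact ⟨x, (sup_le hCH hC'H : _ ≤ H) hx, hx1, heq' ▸ hle hC'H (hΛ F hl)⟩
  have hconn := class_eAdj_connected hS hnd
  refine eq_top_of_members_le hS.1 fun M hM => ?_
  obtain ⟨E₀, hE₀⟩ := class_exists_linePartner hS hnd hA
  obtain ⟨-, -, -, hAH⟩ := hstep E₀ hE₀
  suffices hmain : ∃ h ∈ H, conjBy A h = M by
    obtain ⟨h, hh, rfl⟩ := hmain
    exact conjBy_le_of_mem hAH hh
  have hr := hconn A hA M hM
  clear hM
  induction hr with
  | refl => exact ⟨1, one_mem H, conjBy_one A⟩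
  | @tail P Q _ hPQ ih =>
    obtain ⟨h, hh, rfl⟩ := ih
    obtain ⟨hP, hQ, hl⟩ := hPQ
    obtain ⟨C, hC, hr, heq⟩ := exists_line_commutator hS.1 hall hP hl
    have hCA : ⁅A, conjBy C h⁻¹⁆ = conjBy Q h⁻¹ := by
      have h2 := conjBy_commutator C (conjBy A h) h⁻¹
      rw [heq, conjBy_inv_conjBy] at h2
      rw [Subgroup.commutator_comm]; exact h2.symm
    have hcase := rootCase_of_mem hS.1 hA (hS.1.conj_mem C hC h⁻¹)
      (hCA.symm ▸ hS.1.conj_mem Q hQ _)
    have hl2 := (line_linePartner hS.1 hA (hall A hA) hcase).2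
    rw [hCA] at hl2
    obtain ⟨k, hk, hke, -⟩ := hstep _ hl2
    exact ⟨h * k, mul_mem hh hk, by rw [← conjBy_conjBy, hke, conjBy_conjBy_inv]⟩

/-- Timmesfeld: rank one pairs in a non-degenerate class of abstract root subgroups are special. -/
theorem class_special (hS : Cfsg.IsRootSubgroupClass S) (hnd : Cfsg.IsNondegenerateRootSet S)
    {A B : Subgroup G} (hA : A ∈ S) (hB : B ∈ S) (hp : Cfsg.IsRankOnePair A B) :
    (∃ F ∈ Cfsg.linePartners S A, F ∈ Cfsg.commutatorPartners S B) ∧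
      Cfsg.IsSpecialRankOnePair A B := by
  have hall := nondegenerate_all_nonIso hS hnd
  obtain ⟨E, hE⟩ := class_exists_linePartner hS hnd hA
  obtain ⟨F, hF, h1, hr, heq, -⟩ := exists_projection hS.1 hall hA hB hp hE
  set C := ⁅F, B⁆ with hCdef
  have hAC : ⁅A, C⁆ = F := (Subgroup.commutator_comm _ _).trans heq
  have hl := (line_linePartner hS.1 hA (hall A hA) (rootCase_symm hr)).2
  rw [hAC] at hl
  refine ⟨⟨F, hl, hF, ?_⟩, hp, ?_⟩
  · rw [Subgroup.commutator_comm]; exact h1.1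
  intro a ha ha1 b hb hb1 hconj
  have cBC : ∀ p ∈ B, ∀ q ∈ C, Commute p q := fun p hp' q hq =>
    (rootCase_commute_right h1 hq hp').symm
  have cAF : ∀ p ∈ A, ∀ q ∈ F, Commute p q := fun p hp' q hq =>
    (rootCase_commute_right hr (heq.symm ▸ hq) hp').symm
  have cFC : ∀ p ∈ F, ∀ q ∈ C, Commute p q := fun p hp' q hq => line_comm_left h1 p hp' q hq
  have hdisj : ∀ {x}, x ∈ F → x ∈ C → x = 1 := fun hxF hxC =>
    (Subgroup.eq_bot_iff_forall _).mp (rootCase_inf_eq_bot hS.1 h1) _ ⟨hxF, hxC⟩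
  -- key relation on `F`
  have key1 : ∀ f ∈ F, ∃ c ∈ C, b⁻¹ * f * b = f * c ∧ a * c * a⁻¹ = c * f⁻¹ := by
    intro f hf
    set c := f⁻¹ * (b⁻¹ * f * b) with hc_def
    have hc : c ∈ C := by
      have : c = ⁅f⁻¹, b⁻¹⁆ := by rw [hc_def, commutatorElement_def]; group
      rw [this]; exact Subgroup.commutator_mem_commutator (inv_mem hf) (inv_mem hb)
    refine ⟨c, hc, by rw [hc_def, mul_inv_cancel_left], ?_⟩
    set g := c⁻¹ * (a * c * a⁻¹) with hg_def
    have hg : g ∈ F := by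
      have : g = ⁅c⁻¹, a⁆ := by rw [hg_def, commutatorElement_def]; group
      rw [this, ← heq]; exact Subgroup.commutator_mem_commutator (inv_mem hc) ha
    have hfix : ∀ q ∈ B, (f * (c * g)) * q = q * (f * (c * g)) := by
      intro q hq
      have hmem : a⁻¹ * q * a ∈ conjBy A b⁻¹ := by
        rw [hconj]; simpa using conj_mem_conjBy (g := a⁻¹) hq
      have hcm := (cAF _ (mem_conjBy.mp hmem) f hf).eq
      rw [inv_inv] at hcm
      have e : f * (c * g) = a * (b⁻¹ * f * b) * a⁻¹ := by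
        have hfa : Commute a f := cAF a ha f hf
        rw [hg_def, mul_inv_cancel_left]
        calc f * (a * c * a⁻¹) = a * (f * c) * a⁻¹ := by
              rw [← mul_assoc, ← mul_assoc, ← hfa.eq]; group
          _ = a * (b⁻¹ * f * b) * a⁻¹ := by rw [hc_def, mul_inv_cancel_left]
      rw [e]
      calc a * (b⁻¹ * f * b) * a⁻¹ * q
          = a * b⁻¹ * (f * (b * (a⁻¹ * q * a) * b⁻¹)) * b * a⁻¹ := by group
        _ = a * b⁻¹ * ((b * (a⁻¹ * q * a) * b⁻¹) * f) * b * a⁻¹ := by rw [hcm]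
        _ = q * (a * (b⁻¹ * f * b) * a⁻¹) := by group
    have hmem : f * (c * g) ∈ C := rootCase_fixed_mem hS.1 h1
      (mul_mem (Subgroup.mem_sup_left hf)
        (mul_mem (Subgroup.mem_sup_right hc) (Subgroup.mem_sup_left hg))) hfix
    have hfg : f * g = 1 := by
      refine hdisj (mul_mem hf hg) ?_
      have e : f * g = (f * (c * g)) * c⁻¹ := by rw [← (cFC g hg c hc).eq]; group
      rw [e]; exact mul_mem hmem (inv_mem hc)
    have hg' : g = f⁻¹ := eq_inv_of_mul_eq_one_right hfg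
    rw [← hg', hg_def, mul_inv_cancel_left]
  -- key relation on `C`
  have key2 : ∀ c ∈ C, ∃ g ∈ F, a * c * a⁻¹ = c * g ∧ b⁻¹ * g * b = g * c⁻¹ := by
    intro c hc
    set g := c⁻¹ * (a * c * a⁻¹) with hg_def
    have hg : g ∈ F := by
      have : g = ⁅c⁻¹, a⁆ := by rw [hg_def, commutatorElement_def]; group
      rw [this, ← heq]; exact Subgroup.commutator_mem_commutator (inv_mem hc) ha
    refine ⟨g, hg, by rw [hg_def, mul_inv_cancel_left], ?_⟩
    obtain ⟨d, hd, e1, e2⟩ := key1 g hg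
    rw [e1]
    congr 1
    have hcd : a * (c * d) * a⁻¹ = c * d := by
      calc a * (c * d) * a⁻¹ = (a * c * a⁻¹) * (a * d * a⁻¹) := by group
        _ = (c * g) * (d * g⁻¹) := by rw [e2, hg_def, mul_inv_cancel_left]
        _ = c * (g * d) * g⁻¹ := by group
        _ = c * d := by rw [(cFC g hg d hd).eq]; group
    have h0 : ⁅a, c * d⁆ = 1 := by
      rw [commutatorElement_def, hcd, mul_inv_cancel]
    exact eq_inv_of_mul_eq_one_right
      (line_injective hS.1 hA (hall A hA) (rootCase_symm hr) ha ha1 (mul_mem hc hd) h0)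
  -- both sides agree on `F` and on `C`
  set U := b⁻¹ * a * b
  set V := a⁻¹ * b⁻¹ * a
  have onF : ∀ f ∈ F, U * f * U⁻¹ = V * f * V⁻¹ := by
    intro f hf
    obtain ⟨c, hc, e1, e2⟩ := key1 f hf
    have hb' : b * f * b⁻¹ = f * c⁻¹ := by
      calc b * f * b⁻¹ = b * ((b⁻¹ * f * b) * c⁻¹) * b⁻¹ := by rw [e1, mul_inv_cancel_right]
        _ = f * (b * c⁻¹ * b⁻¹) := by group
        _ = f * c⁻¹ := by rw [(cBC b hb c hc).inv_right.eq, mul_inv_cancel_right]
    have hfa : ∀ p ∈ A, p * f * p⁻¹ = f := fun p hp' => by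
      rw [(cAF p hp' f hf).eq, mul_inv_cancel_right]
    have hu : U * f * U⁻¹ = f * f * c := by
      calc U * f * U⁻¹ = b⁻¹ * (a * (b * f * b⁻¹) * a⁻¹) * b := by simp only [U]; group
        _ = b⁻¹ * ((a * f * a⁻¹) * (a * c * a⁻¹)⁻¹) * b := by rw [hb']; group
        _ = b⁻¹ * (f * f * c⁻¹) * b := by rw [hfa a ha, e2, mul_inv_rev, inv_inv]; group
        _ = (b⁻¹ * f * b) * (b⁻¹ * f * b) * (b⁻¹ * c⁻¹ * b) := by group
        _ = f * f * c := by
          rw [e1, (cBC b hb c hc).inv_inv.eq, inv_mul_cancel_right,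
            (cFC f hf c hc).symm.mul_mul_mul_comm f c]
          group
    have hv : V * f * V⁻¹ = f * f * c := by
      have e3 : a⁻¹ * c * a = c * f := by
        calc a⁻¹ * c * a = a⁻¹ * ((a * c * a⁻¹) * f) * a := by rw [e2, inv_mul_cancel_right]
          _ = c * (a⁻¹ * f * a) := by group
          _ = c * f := by
            have := hfa a⁻¹ (inv_mem ha); rw [inv_inv] at this; rw [this]
      calc V * f * V⁻¹ = a⁻¹ * (b⁻¹ * (a * f * a⁻¹) * b) * a := by simp only [V]; group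
        _ = a⁻¹ * (f * c) * a := by rw [hfa a ha, e1]
        _ = (a⁻¹ * f * a⁻¹⁻¹) * (a⁻¹ * c * a) := by group
        _ = f * f * c := by
          rw [hfa a⁻¹ (inv_mem ha), e3, ← (cFC f hf c hc).eq, mul_assoc]
    rw [hu, hv]
  have onC : ∀ c ∈ C, U * c * U⁻¹ = V * c * V⁻¹ := by
    intro c hc
    obtain ⟨g, hg, e1, e2⟩ := key2 c hc
    have hu : U * c * U⁻¹ = g := by
      calc U * c * U⁻¹ = b⁻¹ * (a * (b * c * b⁻¹) * a⁻¹) * b := by simp only [U]; group
        _ = b⁻¹ * (c * g) * b := by rw [(cBC b hb c hc).eq, mul_inv_cancel_right, e1]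
        _ = (b⁻¹ * c * b) * (b⁻¹ * g * b) := by group
        _ = g := by
          rw [e2, mul_assoc b⁻¹ c b, ← (cBC b hb c hc).eq, inv_mul_cancel_left,
            (cFC g hg c hc).inv_right.eq, mul_inv_cancel_left]
    have hv : V * c * V⁻¹ = g := by
      calc V * c * V⁻¹ = a⁻¹ * (b⁻¹ * (a * c * a⁻¹) * b) * a := by simp only [V]; group
        _ = a⁻¹ * ((b⁻¹ * c * b) * (b⁻¹ * g * b)) * a := by rw [e1]; group
        _ = a⁻¹ * g * a := by
          rw [e2, mul_assoc b⁻¹ c b, ← (cBC b hb c hc).eq, inv_mul_cancel_left,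
            (cFC g hg c hc).inv_right.eq, mul_inv_cancel_left]
        _ = g := by rw [mul_assoc, ← (cAF a ha g hg).eq, inv_mul_cancel_left]
    rw [hu, hv]
  -- the quotient of the two sides lies in a conjugate of `A` and centralizes `F ⊔ C`
  set z := V⁻¹ * U with hz_def
  have hzc : ∀ x, U * x * U⁻¹ = V * x * V⁻¹ → Commute z x := by
    intro x hx
    show z * x = x * z
    calc z * x = V⁻¹ * (U * x * U⁻¹) * U := by simp only [hz_def]; group
      _ = x * z := by rw [hx]; simp only [hz_def]; group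
  have hzU : z ∈ conjBy A b⁻¹ := by
    refine mul_mem (inv_mem ?_) ?_
    · rw [hconj]
      simpa [V] using conj_mem_conjBy (g := a⁻¹) (inv_mem hb)
    · simpa [U] using conj_mem_conjBy (g := b⁻¹) ha
  have hzA : b * z * b⁻¹ ∈ A := by
    have := mem_conjBy.mp hzU
    rwa [inv_inv] at this
  have hz1 : b * z * b⁻¹ = 1 := by
    refine rootCase_not_centralize hS.1 (rootCase_symm hr) hzA fun c hc => ?_
    have h2 := (hzc c (onC c hc)).eq
    calc b * z * b⁻¹ * c = b * (z * c) * b⁻¹ := by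
          rw [mul_assoc, (cBC b hb c hc).inv_left.eq]; group
      _ = b * (c * z) * b⁻¹ := by rw [h2]
      _ = c * (b * z * b⁻¹) := by rw [← mul_assoc b c z, (cBC b hb c hc).eq]; group
  have : z = 1 := by simpa [mul_inv_eq_one] using hz1
  have hUV : V = U := inv_mul_eq_one.mp this
  exact hUV.symm

end CfsgLib.RootGroups
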