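import Mathlib
import Cfsg.Prelude.Def_RootSubgroups
import Cfsg.Agent.Lib.Involutions.BaerSuzuki

/-!
Sets of root involutions: the two basic exclusion lemmas, reversal of a line, and the blocks of
members with equal sets of odd partners.
-/

set_option autoImplicit false

namespace CfsgLib.RootInvolutions

open CfsgLib.Involutions
open scoped commutatorElement

variable {G : Type*} [Group G] {D : Set G}


theorem root_mul_self (hD : Cfsg.IsRootInvolutionSet D) {a : G} (ha : a ∈ D) : a * a = 1 :=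
  mul_self_eq_one (hD.orderOf_eq a ha)

theorem root_inv (hD : Cfsg.IsRootInvolutionSet D) {a : G} (ha : a ∈ D) : a⁻¹ = a :=
  inv_eq_self_of_involution (hD.orderOf_eq a ha)

theorem odd_four {x : G} (h : x ^ 4 = 1) (ho : Odd (orderOf x)) : x = 1 := by
  obtain ⟨i, hi2, hi⟩ := (Nat.dvd_prime_pow Nat.prime_two).mp
    (orderOf_dvd_of_pow_eq_one (show x ^ (2 ^ 2) = 1 by simpa using h))
  interval_cases i <;> rw [hi] at ho
  · exact orderOf_eq_one_iff.mp (by simpa using hi)
  · exact absurd ho (by decide)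
  · exact absurd ho (by decide)

theorem not_odd_pow_four (hD : Cfsg.IsRootInvolutionSet D) {a b : G} (ha : a ∈ D) (hb : b ∈ D)
    (h : ¬ Odd (orderOf (a * b))) : (a * b) ^ 4 = 1 := by
  rcases hD.pair a ha b hb with hc | ho | ⟨h4, -⟩
  · rw [(show Commute a b from hc).mul_pow, show (4 : ℕ) = 2 * 2 from rfl, pow_mul, pow_mul,
      pow_two a, pow_two b, root_mul_self hD ha, root_mul_self hD hb, one_pow, one_mul]
  · exact absurd ho h
  · rw [← h4, pow_orderOf_eq_one]

theorem eq_of_mul_eq_one (hD : Cfsg.IsRootInvolutionSet D) {a b : G} (ha : a ∈ D)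
    (h : a * b = 1) : b = a := by
  rw [← one_mul b, ← root_mul_self hD ha, mul_assoc, h, mul_one]

theorem oddAdj_symm (hD : Cfsg.IsRootInvolutionSet D) {a b : G} (h : Cfsg.OddAdj D a b) :
    Cfsg.OddAdj D b a := by
  refine ⟨h.2.1, h.1, h.2.2.1.symm, ?_⟩
  rw [← orderOf_inv, mul_inv_rev, root_inv hD h.1, root_inv hD h.2.1]
  exact h.2.2.2

theorem reach_symm (hD : Cfsg.IsRootInvolutionSet D) {a b : G}
    (h : Relation.ReflTransGen (Cfsg.OddAdj D) a b) : Relation.ReflTransGen (Cfsg.OddAdj D) b a := by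
  induction h with
  | refl => exact Relation.ReflTransGen.refl
  | tail _ h ih => exact ih.head (oddAdj_symm hD h)

theorem oddAdj_conj (hD : Cfsg.IsRootInvolutionSet D) {a b : G} (h : Cfsg.OddAdj D a b) (g : G) :
    Cfsg.OddAdj D (g * a * g⁻¹) (g * b * g⁻¹) := by
  refine ⟨hD.conj_mem a h.1 g, hD.conj_mem b h.2.1 g, fun e => h.2.2.1 ?_, ?_⟩
  · simpa using e
  · rw [show g * a * g⁻¹ * (g * b * g⁻¹) = g * (a * b) * g⁻¹ by group, orderOf_conj_eq]
    exact h.2.2.2

/-- An involution commuting with `u` and `d`, whose product with `u` is in `D`, forces `(u d)^4 = 1`. -/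
theorem common_commuting (hD : Cfsg.IsRootInvolutionSet D) {u e d : G} (hu : u ∈ D) (he : e ∈ D)
    (hd : d ∈ D) (hue : u * e = e * u) (heu : e * u ∈ D) (hed : e * d = d * e)
    (hne : u ≠ d) (hodd : Odd (orderOf (u * d))) : False := by
  have hc : Commute e (u * d) :=
    (show Commute e u from hue.symm).mul_right (show Commute e d from hed)
  have key : (e * u * d) ^ 4 = 1 := by
    refine not_odd_pow_four hD heu hd fun ho => ?_
    rw [mul_assoc] at ho
    obtain ⟨m, hm⟩ := ho
    have hp := pow_orderOf_eq_one (e * (u * d))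
    rw [hc.mul_pow, hm, pow_succ e, pow_mul e, pow_two, root_mul_self hD he, one_pow, one_mul] at hp
    have hee : e = ((u * d) ^ (2 * m + 1))⁻¹ := eq_inv_of_mul_eq_one_left hp
    have ho2 : Odd (orderOf e) := by rw [hee, orderOf_inv]; exact hodd.of_dvd_nat (orderOf_pow_dvd _)
    rw [hD.orderOf_eq e he] at ho2
    exact absurd ho2 (by decide)
  rw [mul_assoc, hc.mul_pow, show (4 : ℕ) = 2 * 2 from rfl, pow_mul e, pow_two e,
    root_mul_self hD he, one_pow, one_mul] at key
  exact hne (eq_of_mul_eq_one hD hu (odd_four key hodd)).symm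

/-- The key step: an odd partner of `a` is odd-joined to `e` or to `e * a`. -/
theorem odd_partner_splits (hD : Cfsg.IsRootInvolutionSet D) {a e d : G} (ha : a ∈ D) (he : e ∈ D)
    (hd : d ∈ D) (hae : a * e = e * a) (hf : e * a ∈ D) (hne : a ≠ d)
    (hodd : Odd (orderOf (a * d))) (h1 : ¬ Odd (orderOf (e * d)))
    (h2 : ¬ Odd (orderOf (e * a * d))) : False := by
  have haa := root_mul_self hD ha
  have hee := root_mul_self hD he
  have hdd := root_mul_self hD hd
  have hc : (e * d) ^ 2 ∈ D := by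
    rcases hD.pair e he d hd with h | h | h
    · exact (common_commuting hD ha he hd hae hf h hne hodd).elim
    · exact absurd h h1
    · exact h.2
  have hc2 : (e * a * d) ^ 2 ∈ D := by
    rcases hD.pair _ hf d hd with h | h | h
    · refine (common_commuting hD ha hf hd ?_ ?_ h hne hodd).elim
      · rw [← mul_assoc, hae]
      · rw [mul_assoc, haa, mul_one]; exact he
    · exact absurd h h2
    · exact h.2
  set c := (e * d) ^ 2 with hcdef
  have hcc := root_mul_self hD hc
  have hci := root_inv hD hc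
  have hcd : Commute c d := by
    have h3 : d * c * d⁻¹ = c⁻¹ := by
      rw [hcdef, pow_two, root_inv hD hd, mul_inv_rev, mul_inv_rev, root_inv hD he, root_inv hD hd]
      group
      simp [pow_two, hdd, mul_assoc]
    rw [hci] at h3
    exact (mul_inv_eq_iff_eq_mul.mp h3).symm
  have hce : Commute c e := by
    have h3 : e * c * e⁻¹ = c⁻¹ := by
      rw [hcdef, pow_two, root_inv hD he, mul_inv_rev, mul_inv_rev, root_inv hD he, root_inv hD hd]
      simp [← mul_assoc, hee]
    rw [hci] at h3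
    exact (mul_inv_eq_iff_eq_mul.mp h3).symm
  have hede : e * d * e = c * d := by
    rw [hcdef, pow_two, mul_assoc (e * d) (e * d) d, mul_assoc e d d, hdd, mul_one]
  set x := d * a with hx
  have hxodd : Odd (orderOf x) := by
    rw [hx, ← orderOf_inv, mul_inv_rev, root_inv hD ha, root_inv hD hd]; exact hodd
  have hx1 : x ≠ 1 := fun h => hne (eq_of_mul_eq_one hD hd h)
  -- conjugating `(e a d)^2` by `a`
  have h3 : c * x ^ 2 ∈ D := by
    have hm := hD.conj_mem _ hc2 a
    have e1 : a * (e * a * d) ^ 2 * a⁻¹ = c * x ^ 2 := by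
      rw [root_inv hD ha, pow_two, pow_two, hx]
      calc a * (e * a * d * (e * a * d)) * a = (a * (e * a)) * d * e * a * d * a := by group
        _ = e * d * e * a * d * a := by
            rw [← mul_assoc a e a, hae, mul_assoc e a a, haa, mul_one]
        _ = c * (d * a * (d * a)) := by rw [hede]; group
    rwa [e1] at hm
  have hinv : c * x * c⁻¹ = x⁻¹ := by
    have h4 : c * x ^ 2 * c⁻¹ = (x ^ 2)⁻¹ := by
      rw [hci]
      exact eq_inv_of_mul_eq_one_left (by rw [mul_assoc]; exact root_mul_self hD h3)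
    obtain ⟨m, hm⟩ := hxodd
    have hxp : (x ^ 2) ^ (m + 1) = x := by
      rw [← pow_mul, show 2 * (m + 1) = orderOf x + 1 by omega, pow_succ, pow_orderOf_eq_one, one_mul]
    calc c * x * c⁻¹ = c * (x ^ 2) ^ (m + 1) * c⁻¹ := by rw [hxp]
      _ = ((x ^ 2)⁻¹) ^ (m + 1) := by rw [← conj_pow, h4]
      _ = x⁻¹ := by rw [inv_pow, hxp]
  have hca : (c * a) ^ 2 = x ^ 2 := by
    have hax : a = d * x := by rw [hx, ← mul_assoc, hdd, one_mul]
    calc (c * a) ^ 2 = c * a * c⁻¹ * a := by rw [pow_two, hci]; group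
      _ = d * (c * x * c⁻¹) * a := by
          nth_rewrite 1 [hax]
          rw [← mul_assoc c d x, hcd.eq]
          group
      _ = x ^ 2 := by
          rw [hinv, hx, mul_inv_rev, root_inv hD ha, root_inv hD hd, pow_two]
          group
  have hx4 : ¬ x ^ 4 = 1 := fun h => hx1 (odd_four h hxodd)
  have hcaodd : Odd (orderOf (c * a)) := by
    by_contra h
    have h4 := not_odd_pow_four hD hc ha h
    rw [show (4 : ℕ) = 2 * 2 from rfl, pow_mul, hca, ← pow_mul] at h4
    exact hx4 h4
  have hcne : c ≠ a := by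
    intro h
    rw [h, haa, one_pow] at hca
    exact hx4 (by rw [show (4 : ℕ) = 2 * 2 from rfl, pow_mul, ← hca, one_pow])
  refine common_commuting hD hc he ha hce.eq ?_ hae.symm hcne hcaodd
  have e2 : e * c = d * e * d⁻¹ := by
    rw [hcdef, pow_two, root_inv hD hd]
    simp only [← mul_assoc]
    rw [hee, one_mul]
  rw [e2]
  exact hD.conj_mem e he d

theorem mem_oddPartners {a b : G} :
    b ∈ Cfsg.oddPartners D a ↔ b ∈ D ∧ b ≠ a ∧ Odd (orderOf (a * b)) := Iff.rfl

theorem odd_comm (hD : Cfsg.IsRootInvolutionSet D) {a b : G} (ha : a ∈ D) (hb : b ∈ D) :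
    Odd (orderOf (a * b)) ↔ Odd (orderOf (b * a)) := by
  rw [← orderOf_inv (b * a), mul_inv_rev, root_inv hD ha, root_inv hD hb]

theorem odd_not_commute (hD : Cfsg.IsRootInvolutionSet D) {a b : G} (ha : a ∈ D) (hb : b ∈ D)
    (hne : b ≠ a) (ho : Odd (orderOf (a * b))) : ¬ a * b = b * a := by
  intro hc
  have h2 : (a * b) ^ 4 = 1 := by
    rw [(show Commute a b from hc).mul_pow, show (4 : ℕ) = 2 * 2 from rfl, pow_mul, pow_mul,
      pow_two a, pow_two b, root_mul_self hD ha, root_mul_self hD hb, one_pow, one_mul]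
  exact hne (eq_of_mul_eq_one hD ha (odd_four h2 ho))

theorem four_not_odd {x : G} (h : orderOf x = 4) : ¬ Odd (orderOf x) := by rw [h]; decide

theorem commute_or_four_iff (hD : Cfsg.IsRootInvolutionSet D) {a b : G} (ha : a ∈ D) :
    b ∈ Cfsg.commutingMembers D a ∪ Cfsg.fourPartners D a ↔ b ∈ D ∧ b ∉ Cfsg.oddPartners D a := by
  constructor
  · rintro (⟨hb, hc⟩ | ⟨hb, h4⟩)
    · exact ⟨hb, fun h => odd_not_commute hD ha hb h.2.1 h.2.2 hc.symm⟩
    · exact ⟨hb, fun h => four_not_odd h4 h.2.2⟩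
  · rintro ⟨hb, hn⟩
    rcases hD.pair a ha b hb with h | h | h
    · exact Or.inl ⟨hb, h.symm⟩
    · by_cases he : b = a
      · exact Or.inl ⟨hb, by rw [he]⟩
      · exact absurd ⟨hb, he, h⟩ hn
    · exact Or.inr ⟨hb, h.1⟩

theorem union_eq_iff (hD : Cfsg.IsRootInvolutionSet D) {a b : G} (ha : a ∈ D) (hb : b ∈ D) :
    Cfsg.commutingMembers D a ∪ Cfsg.fourPartners D a =
        Cfsg.commutingMembers D b ∪ Cfsg.fourPartners D b ↔
      Cfsg.oddPartners D a = Cfsg.oddPartners D b := by
  constructor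
  · intro h
    ext x
    have hx := Set.ext_iff.mp h x
    rw [commute_or_four_iff hD ha, commute_or_four_iff hD hb] at hx
    constructor
    · intro h1
      by_contra h2
      exact (hx.mpr ⟨h1.1, h2⟩).2 h1
    · intro h1
      by_contra h2
      exact (hx.mp ⟨h1.1, h2⟩).2 h1
  · intro h
    ext x
    rw [commute_or_four_iff hD ha, commute_or_four_iff hD hb, h]

/-- Facts about the square of a product of order `4`. -/
theorem four_facts (hD : Cfsg.IsRootInvolutionSet D) {u v : G} (hu : u ∈ D) (hv : v ∈ D)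
    (h4 : orderOf (u * v) = 4) :
    (u * v) ^ 2 ∈ D ∧ Commute ((u * v) ^ 2) u ∧ Commute ((u * v) ^ 2) v ∧
      u * (u * v) ^ 2 = v * u * v⁻¹ ∧ v * (u * v) ^ 2 = u * v * u⁻¹ ∧ (v * u) ^ 2 = (u * v) ^ 2 := by
  have huu := root_mul_self hD hu
  have hvv := root_mul_self hD hv
  have hp : u * v * (u * v) * (u * v) * (u * v) = 1 := by
    have h := pow_orderOf_eq_one (u * v)
    rw [h4] at h
    simpa only [pow_succ, pow_zero, one_mul] using h
  have hsym : (v * u) ^ 2 = (u * v) ^ 2 := by
    have h1 : (v * u) ^ 2 = ((u * v) ^ 2)⁻¹ := by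
      rw [← inv_pow, mul_inv_rev, root_inv hD hu, root_inv hD hv]
    rw [h1]
    refine inv_eq_of_mul_eq_one_right ?_
    rw [pow_two, ← mul_assoc]; exact hp
  have hc : (u * v) ^ 2 ∈ D := by
    rcases hD.pair u hu v hv with h | h | h
    · exfalso
      have h2 : (u * v) ^ 2 = 1 := by
        rw [(show Commute u v from h).mul_pow, pow_two, pow_two, huu, hvv, one_mul]
      have := orderOf_dvd_of_pow_eq_one h2
      rw [h4] at this
      exact absurd (Nat.le_of_dvd (by norm_num) this) (by norm_num)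
    · exact absurd h (four_not_odd h4)
    · exact h.2
  have e1 : u * (u * v) ^ 2 = v * u * v⁻¹ := by
    rw [pow_two, root_inv hD hv]; simp only [← mul_assoc]; rw [huu, one_mul]
  have e2 : (u * v) ^ 2 * u = u * (v * u) ^ 2 := by rw [pow_two, pow_two]; group
  have e3 : (u * v) ^ 2 * v = v * (u * v) ^ 2 := by
    have : (v * u) ^ 2 * v = v * (u * v) ^ 2 := by rw [pow_two, pow_two]; group
    rwa [hsym] at this
  rw [hsym] at e2
  refine ⟨hc, e2, e3, e1, ?_, hsym⟩
  rw [← hsym, pow_two, root_inv hD hu]; simp only [← mul_assoc]; rw [hvv, one_mul]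

theorem oddPartners_conj (hD : Cfsg.IsRootInvolutionSet D) (a g : G) :
    Cfsg.oddPartners D (g * a * g⁻¹) = (fun x => g * x * g⁻¹) '' Cfsg.oddPartners D a := by
  have key : ∀ (a g : G) {b : G}, b ∈ Cfsg.oddPartners D a →
      g * b * g⁻¹ ∈ Cfsg.oddPartners D (g * a * g⁻¹) := fun a g b hb =>
    ⟨hD.conj_mem b hb.1 g, fun e => hb.2.1 (by simpa using e), by
      rw [show g * a * g⁻¹ * (g * b * g⁻¹) = g * (a * b) * g⁻¹ by group, orderOf_conj_eq]
      exact hb.2.2⟩
  ext x
  constructor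
  · intro hx
    refine ⟨g⁻¹ * x * g, ?_, by group⟩
    have := key _ g⁻¹ hx
    rw [show g⁻¹ * (g * a * g⁻¹) * g⁻¹⁻¹ = a by group, inv_inv] at this
    exact this
  · rintro ⟨b, hb, rfl⟩
    exact key a g hb

/-- Two odd-joined members are interchanged by an element. -/
theorem exists_swap (hD : Cfsg.IsRootInvolutionSet D) {p q : G} (hp : p ∈ D) (hq : q ∈ D)
    (hodd : Odd (orderOf (p * q))) : ∃ g : G, g * g = 1 ∧ g * p * g⁻¹ = q ∧ g * q * g⁻¹ = p := by
  obtain ⟨d, hd, hdp⟩ := conj_of_odd_order (hD.orderOf_eq p hp) (hD.orderOf_eq q hq) hodd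
  obtain ⟨k, hk⟩ := (mem_closure_pair_iff (hD.orderOf_eq p hp) (hD.orderOf_eq q hq)).mp hd
  have hpp := root_mul_self hD hp
  have hinv : ∀ j : ℤ, (p * q) ^ j * p * ((p * q) ^ j * p) = 1 := fun j =>
    mul_self_eq_one (orderOf_zpow_mul_involution (hD.orderOf_eq p hp) (hD.orderOf_eq q hq) j)
  have hsw : ∀ g : G, g * g = 1 → g * p * g⁻¹ = q → g * q * g⁻¹ = p := fun g hg h => by
    rw [← h, show g * (g * p * g⁻¹) * g⁻¹ = (g * g) * p * (g * g)⁻¹ by group, hg]; group
  rcases hk with hk | hk <;> subst hk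
  · have e : (p * q) ^ k * p * p * ((p * q) ^ k * p)⁻¹ = (p * q) ^ k * p * ((p * q) ^ k)⁻¹ := by group
    exact ⟨(p * q) ^ k * p, hinv k, e.trans hdp, hsw _ (hinv k) (e.trans hdp)⟩
  · exact ⟨(p * q) ^ k * p, hinv k, hdp, hsw _ (hinv k) hdp⟩

/-- A line `{p, c, p c}` is reversed: if some odd partner of `p` is no odd partner of `c`, then `c`
is the square of the product of `p` with some member. -/
theorem exists_reverse [Finite G] (hD : Cfsg.IsRootInvolutionSet D) {p c q : G} (hp : p ∈ D)
    (hc : c ∈ Cfsg.productPartners D p) (hq : q ∈ Cfsg.oddPartners D p)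
    (hcq : ¬ Odd (orderOf (c * q))) : ∃ z ∈ D, orderOf (p * z) = 4 ∧ (p * z) ^ 2 = c := by
  classical
  let U : G → G → Set G := fun a b => {u | u ∈ Cfsg.productPartners D a ∧ ¬ Odd (orderOf (u * b))}
  have hqD := hq.1
  have four : ∀ u ∈ U p q, orderOf (u * q) = 4 := fun u hu => by
    rcases hD.pair u hu.1.1.1 q hqD with h | h | h
    · exact (common_commuting hD hp hu.1.1.1 hqD hu.1.1.2.1.symm hu.1.2 h hq.2.1.symm hq.2.2).elim
    · exact absurd h hu.2
    · exact h.1
  have maps : Set.MapsTo (fun u => (u * q) ^ 2) (U p q) (U q p) := by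
    intro u hu
    obtain ⟨⟨⟨huD, hup, hune⟩, hupD⟩, hu2⟩ := hu
    obtain ⟨hwD, hwu, hwq, hew1, hew2, -⟩ :=
      four_facts hD huD hqD (four u ⟨⟨⟨huD, hup, hune⟩, hupD⟩, hu2⟩)
    show (u * q) ^ 2 ∈ U q p
    refine ⟨⟨⟨hwD, hwq.eq, ?_⟩, ?_⟩, ?_⟩
    · intro he
      have h1 : u * q * u⁻¹ = 1 := by rw [← hew2, he, root_mul_self hD hqD]
      exact ne_one_of_involution (hD.orderOf_eq q hqD) (by simpa using h1)
    · rw [hwq.eq, hew2]; exact hD.conj_mem q hqD u
    · intro ho
      refine common_commuting hD hwD huD hp hwu.eq ?_ hup ?_ ho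
      · rw [hew1]; exact hD.conj_mem u huD q
      · intro he
        rw [he] at hwq
        exact odd_not_commute hD hp hqD hq.2.1 hq.2.2 hwq.eq
  have inj : Set.InjOn (fun u => (u * q) ^ 2) (U p q) := by
    intro u hu v hv he
    have hu4 := four u hu
    obtain ⟨⟨⟨huD, hup, hune⟩, hupD⟩, hu2⟩ := hu
    obtain ⟨⟨⟨hvD, hvp, hvne⟩, hvpD⟩, hv2⟩ := hv
    have huu := root_mul_self hD huD
    have hvv := root_mul_self hD hvD
    have hpp := root_mul_self hD hp
    have hwq : Commute (u * v) q := by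
      have he' : u * q * u = v * q * v := by
        have : (u * q) ^ 2 = (v * q) ^ 2 := he
        rw [pow_two, pow_two, ← mul_assoc, ← mul_assoc] at this
        exact mul_right_cancel this
      have h1 : u * v * q = q * (u * v) := by
        calc u * v * q = u * (v * q * v) * v := by simp only [mul_assoc, hvv, mul_one]
          _ = u * (u * q * u) * v := by rw [he']
          _ = q * (u * v) := by simp only [← mul_assoc, huu, one_mul]
      exact h1
    have hwp : Commute (u * v) p := (show Commute u p from hup).mul_left hvp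
    have hoddpu : ∀ {w : G}, w ∈ D → w * p = p * w → w * p ∈ D → ¬ Odd (orderOf (w * q)) →
        Odd (orderOf (w * p * q)) := fun {w} hwD hwp' hwpD hw2 => by
      by_contra h
      exact odd_partner_splits hD hp hwD hqD hwp'.symm hwpD hq.2.1.symm hq.2.2 hw2 h
    rcases hD.pair u huD v hvD with h | h | h
    · by_contra hne
      have hwu : Commute (u * v) u := (Commute.refl u).mul_left (show Commute u v from h).symm
      obtain ⟨m, hm⟩ := hoddpu huD hup hupD hu2
      obtain ⟨n, hn⟩ := hoddpu hvD hvp hvpD hv2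
      have hvq : v * p * q = (u * v) * (u * p * q) := by
        rw [show u * v = v * u from h]; simp only [mul_assoc]
        rw [← mul_assoc u u, huu, one_mul]
      have hcomm : Commute (u * v) (u * p * q) := (hwu.mul_right hwp).mul_right hwq
      have hw2' : (u * v) ^ 2 = 1 := by
        rw [(show Commute u v from h).mul_pow, pow_two, pow_two, huu, hvv, one_mul]
      have hpow := pow_orderOf_eq_one (v * p * q)
      rw [hvq, hcomm.mul_pow, ← hvq, hn, pow_succ (u * v), pow_mul, hw2', one_pow, one_mul] at hpow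
      have hw1 : u * v = 1 := by
        refine odd_four (by rw [show (4 : ℕ) = 2 * 2 from rfl, pow_mul, hw2', one_pow]) ?_
        rw [eq_inv_of_mul_eq_one_left hpow, orderOf_inv]
        exact (hoddpu huD hup hupD hu2).of_dvd_nat (orderOf_pow_dvd _)
      exact hne (eq_of_mul_eq_one hD huD hw1).symm
    · by_contra hne
      exact common_commuting hD huD hp hvD hup (by rw [← hup]; exact hupD) hvp.symm hne h
    · exfalso
      obtain ⟨hdD, hdu, -, hed, -, -⟩ := four_facts hD huD hvD h.1
      have hdp : Commute ((u * v) ^ 2) p := hwp.pow_left 2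
      have hdup : Commute ((u * v) ^ 2) (u * p) := hdu.mul_right hdp
      refine common_commuting hD hupD hdD hqD hdup.symm.eq ?_ (hwq.pow_left 2).eq ?_
        (hoddpu huD hup hupD hu2)
      · have e : (u * v) ^ 2 * (u * p) = v * (u * p) * v⁻¹ := by
          have hpv : Commute p v⁻¹ := (show Commute p v from hvp.symm).inv_right
          rw [← mul_assoc, hdu.eq, hed, mul_assoc (v * u), hpv.symm.eq]
          group
        rw [e]; exact hD.conj_mem _ hupD v
      · intro he'
        refine odd_not_commute hD hp hqD hq.2.1 hq.2.2 ?_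
        rw [← he', ← mul_assoc, ← hup]
  obtain ⟨g, hgg, hgp, hgq⟩ := exists_swap hD hp hqD hq.2.2
  have hgi : g⁻¹ = g := inv_eq_of_mul_eq_one_right hgg
  have conjU : ∀ (a b a' b' : G), g * a * g⁻¹ = a' → g * b * g⁻¹ = b' →
      Set.MapsTo (fun u => g * u * g⁻¹) (U a b) (U a' b') := by
    rintro a b a' b' rfl rfl u ⟨⟨⟨huD, hua, hune⟩, huaD⟩, hu2⟩
    refine ⟨⟨⟨hD.conj_mem u huD g, ?_, fun e => hune (by simpa using e)⟩, ?_⟩, ?_⟩
    · calc g * u * g⁻¹ * (g * a * g⁻¹) = g * (u * a) * g⁻¹ := by group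
        _ = g * (a * u) * g⁻¹ := by rw [hua]
        _ = g * a * g⁻¹ * (g * u * g⁻¹) := by group
    · rw [show g * u * g⁻¹ * (g * a * g⁻¹) = g * (u * a) * g⁻¹ by group]
      exact hD.conj_mem _ huaD g
    · rwa [show g * u * g⁻¹ * (g * b * g⁻¹) = g * (u * b) * g⁻¹ by group, orderOf_conj_eq]
  have hle : (U q p).ncard ≤ (U p q).ncard :=
    Set.ncard_le_ncard_of_injOn _ (conjU q p p q hgq hgp) (MulAut.conj g).injective.injOn
      (Set.toFinite _)
  have himg : (fun u => (u * q) ^ 2) '' U p q = U q p := by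
    refine Set.eq_of_subset_of_ncard_le maps.image_subset ?_ (Set.toFinite _)
    rw [Set.InjOn.ncard_image inj]; exact hle
  obtain ⟨u, hu, huc⟩ : g * c * g⁻¹ ∈ (fun u => (u * q) ^ 2) '' U p q := by
    rw [himg]; exact conjU p q q p hgp hgq ⟨hc, hcq⟩
  have huD := hu.1.1.1
  obtain ⟨-, -, -, -, -, hsym⟩ := four_facts hD huD hqD (four u hu)
  have hz : p * (g * u * g⁻¹) = g * (q * u) * g⁻¹ := by rw [← hgq]; group
  refine ⟨g * u * g⁻¹, hD.conj_mem u huD g, ?_, ?_⟩
  · rw [hz, orderOf_conj_eq, ← orderOf_inv, mul_inv_rev, root_inv hD huD, root_inv hD hqD]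
    exact four u hu
  · have huc' : (u * q) ^ 2 = g * c * g⁻¹ := huc
    rw [hz, conj_pow, hsym, huc', hgi,
      show g * (g * c * g) * g = (g * g) * c * (g * g) by group, hgg, one_mul, mul_one]

theorem isConj_of_connected (hD : Cfsg.IsRootInvolutionSet D)
    (hc : Cfsg.IsConnectedSet (Cfsg.OddAdj D) D) {a b : G} (ha : a ∈ D) (hb : b ∈ D) :
    ∃ g : G, g * a * g⁻¹ = b := by
  have h := hc a ha b hb
  clear hb
  induction h with
  | refl => exact ⟨1, by group⟩
  | tail _ h ih =>
    obtain ⟨g, hg⟩ := ih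
    obtain ⟨x, -, hx, -⟩ := exists_swap hD h.1 h.2.1 h.2.2.2
    refine ⟨x * g, ?_⟩
    rw [← hx, ← hg]; group

theorem oddPartners_eq_of_subset [Finite G] (hD : Cfsg.IsRootInvolutionSet D)
    (hc : Cfsg.IsConnectedSet (Cfsg.OddAdj D) D) {a b : G} (ha : a ∈ D) (hb : b ∈ D)
    (h : Cfsg.oddPartners D a ⊆ Cfsg.oddPartners D b) :
    Cfsg.oddPartners D a = Cfsg.oddPartners D b := by
  obtain ⟨g, rfl⟩ := isConj_of_connected hD hc ha hb
  refine Set.eq_of_subset_of_ncard_le h ?_ (Set.toFinite _)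
  rw [oddPartners_conj hD]
  exact Set.ncard_image_le (Set.toFinite _)

/-- Two members with the same odd partners do not have a product of order `4`. -/
theorem same_oddPartners_not_four [Finite G] (hD : Cfsg.IsRootInvolutionSet D)
    (hc : Cfsg.IsConnectedSet (Cfsg.OddAdj D) D) {e y : G} (he : e ∈ D) (hy : y ∈ D)
    (hey : Cfsg.oddPartners D y = Cfsg.oddPartners D e) : orderOf (e * y) ≠ 4 := by
  intro h4
  set T := {t | t ∈ D ∧ Cfsg.oddPartners D t = Cfsg.oddPartners D e} with hT
  set Q := Subgroup.closure T with hQ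
  have hstab : ∀ g : G, Cfsg.oddPartners D (g * e * g⁻¹) = Cfsg.oddPartners D e →
      ∀ t ∈ T, g * t * g⁻¹ ∈ T := fun g hg t ht =>
    ⟨hD.conj_mem t ht.1 g, by rw [oddPartners_conj hD, ht.2, ← oddPartners_conj hD, hg]⟩
  have hmem : ∀ t ∈ T, Cfsg.oddPartners D (t * e * t⁻¹) = Cfsg.oddPartners D e := fun t ht => by
    rw [oddPartners_conj hD, ← ht.2, ← oddPartners_conj hD, mul_inv_cancel_right]
  have hQT : ∀ g ∈ Q, ∀ t ∈ T, g * t * g⁻¹ ∈ T := by
    intro g hg
    induction hg using Subgroup.closure_induction'' with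
    | mem x hx => exact hstab x (hmem x hx)
    | inv_mem x hx => rw [root_inv hD hx.1]; exact hstab x (hmem x hx)
    | one => exact fun t ht => by simpa using ht
    | mul x y _ _ ihx ihy =>
      intro t ht
      rw [show x * y * t * (x * y)⁻¹ = x * (y * t * y⁻¹) * x⁻¹ by group]
      exact ihx _ (ihy t ht)
  have hp : IsPGroup 2 Q := by
    haveI : Fact (Nat.Prime 2) := ⟨Nat.prime_two⟩
    let T' : Set Q := {x | (x : G) ∈ T}
    have hp' : IsPGroup 2 (Subgroup.closure T') := by
      refine isPGroup_closure_of_pairwise (fun g d hd => hQT g g.2 d hd) fun a ha b hb => ?_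
      have hco : ∀ x : Q, orderOf (x : G) = 2 → orderOf x = 2 := fun x hx => by
        rwa [Subgroup.orderOf_coe] at hx
      have h4' : ((a : G) * b) ^ (2 ^ 2) = 1 := by
        by_cases hab : (b : G) = a
        · rw [hab, root_mul_self hD ha.1, one_pow]
        · refine not_odd_pow_four hD ha.1 hb.1 fun ho => ?_
          have hba : (b : G) ∈ Cfsg.oddPartners D (a : G) := ⟨hb.1, hab, ho⟩
          rw [ha.2, ← hb.2] at hba
          exact hba.2.1 rfl
      obtain ⟨k, -, hk⟩ := (Nat.dvd_prime_pow Nat.prime_two).mp (orderOf_dvd_of_pow_eq_one h4')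
      rw [← Subgroup.coe_mul, Subgroup.orderOf_coe] at hk
      exact isPGroup_two_closure_pair (hco a (hD.orderOf_eq _ ha.1)) (hco b (hD.orderOf_eq _ hb.1)) hk
    have htop : Subgroup.closure T' = ⊤ := by
      refine Subgroup.map_injective Q.subtype_injective ?_
      rw [MonoidHom.map_closure, ← MonoidHom.range_eq_map, Subgroup.range_subtype]
      refine congrArg Subgroup.closure (Set.ext fun x => ⟨?_, fun hx => ?_⟩)
      · rintro ⟨x, hx, rfl⟩; exact hx
      · exact ⟨⟨x, Subgroup.subset_closure hx⟩, hx, rfl⟩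
    rw [htop] at hp'
    exact hp'.of_equiv Subgroup.topEquiv
  have heT : e ∈ T := ⟨he, rfl⟩
  have hyT : y ∈ T := ⟨hy, hey⟩
  set c := (e * y) ^ 2 with hcdef
  obtain ⟨hcD, -, -, hec, -, -⟩ := four_facts hD he hy h4
  have hcQ : c ∈ ⁅Q, Q⁆ := by
    have : c = ⁅e, y⁆ := by
      rw [hcdef, commutatorElement_def, pow_two, root_inv hD he, root_inv hD hy]; group
    rw [this]
    exact Subgroup.commutator_mem_commutator (Subgroup.subset_closure heT) (Subgroup.subset_closure hyT)
  have hcT : c ∈ T := by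
    refine ⟨hcD, oddPartners_eq_of_subset hD hc hcD he fun x hx => ?_⟩
    have hec' : Cfsg.oddPartners D (e * c) = Cfsg.oddPartners D e := by rw [hec]; exact hmem y hyT
    by_contra hxe
    have hce : c * e = e * c := (four_facts hD he hy h4).2.1.eq
    have hxne : x ≠ e := by
      intro h
      rw [h] at hx
      exact odd_not_commute hD hcD he hx.2.1 hx.2.2 hce
    refine odd_partner_splits hD hcD he hx.1 hce (by rw [hec]; exact hD.conj_mem e he y)
      hx.2.1.symm hx.2.2 (fun ho => hxe ⟨hx.1, hxne, ho⟩) fun ho => hxe ?_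
    rw [← hec']
    refine ⟨hx.1, fun h => ?_, ho⟩
    refine odd_not_commute hD hcD hx.1 hx.2.1 hx.2.2 ?_
    rw [h, ← mul_assoc, hce, mul_assoc]
  have hgen : Q ≤ ⁅Q, Q⁆ := by
    rw [hQ, Subgroup.closure_le]
    intro t ht
    obtain ⟨g, hg⟩ := isConj_of_connected hD hc hcD ht.1
    have hgT : ∀ s ∈ T, g * s * g⁻¹ ∈ T := by
      refine hstab g ?_
      rw [oddPartners_conj hD, ← hcT.2, ← oddPartners_conj hD, hg, ht.2, hcT.2]
    have hgQ : Q.map (MulAut.conj g).toMonoidHom ≤ Q := by
      rw [hQ, map_conj_closure, Subgroup.closure_le]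
      rintro _ ⟨s, hs, rfl⟩
      exact Subgroup.subset_closure (hgT s hs)
    rw [← hQ, ← hg]
    have := Subgroup.mem_map_of_mem (MulAut.conj g).toMonoidHom hcQ
    rw [Subgroup.map_commutator] at this
    exact Subgroup.commutator_mono hgQ hgQ this
  haveI : Fact (Nat.Prime 2) := ⟨Nat.prime_two⟩
  haveI : Group.IsNilpotent Q := hp.isNilpotent
  have hcomm : commutator Q = ⊤ := by
    refine Subgroup.map_injective Q.subtype_injective ?_
    rw [commutator_def, Subgroup.map_commutator, ← MonoidHom.range_eq_map, Subgroup.range_subtype]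
    exact le_antisymm (Subgroup.commutator_le_self Q) hgen
  have hsol : Group.IsSolvable Q := inferInstance
  have hne : Nontrivial Q := ⟨⟨e, Subgroup.subset_closure heT⟩, 1, fun h =>
    ne_one_of_involution (hD.orderOf_eq e he) (congrArg Subtype.val h)⟩
  exact (Group.IsSolvable.commutator_lt_top_of_nontrivial Q).ne hcomm

/-- Members with the same commuting members have the same odd partners, and conversely. -/
theorem oddPartners_eq_of_commuting (hD : Cfsg.IsRootInvolutionSet D) {d e : G} (he : e ∈ D)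
    (hd : d ∈ D) (h : Cfsg.commutingMembers D d = Cfsg.commutingMembers D e) :
    Cfsg.oddPartners D d ⊆ Cfsg.oddPartners D e := by
  intro x hx
  have hnc : x ∉ Cfsg.commutingMembers D d := fun h' => odd_not_commute hD hd hx.1 hx.2.1 hx.2.2 h'.2.symm
  have hxe : x ≠ e := fun hh => hnc (h ▸ ⟨hx.1, by rw [hh]⟩)
  by_contra hn
  rcases hD.pair e he x hx.1 with h' | h' | ⟨h4, -⟩
  · exact hnc (h ▸ ⟨hx.1, h'.symm⟩)
  · exact hn ⟨hx.1, hxe, h'⟩
  · obtain ⟨hcD, hce, hcx, -, hxc, -⟩ := four_facts hD he hx.1 h4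
    have hcd : (e * x) ^ 2 ∈ Cfsg.commutingMembers D d := h ▸ ⟨hcD, hce.eq⟩
    refine common_commuting hD hx.1 hcD hd hcx.symm.eq ?_ hcd.2 hx.2.1 ((odd_comm hD hd hx.1).mp hx.2.2)
    rw [hcx.eq, hxc]
    exact hD.conj_mem x hx.1 e

theorem commuting_subset_of_oddPartners [Finite G] (hD : Cfsg.IsRootInvolutionSet D)
    (hc : Cfsg.IsConnectedSet (Cfsg.OddAdj D) D) {d e : G} (hd : d ∈ D) (he : e ∈ D)
    (h : Cfsg.oddPartners D d = Cfsg.oddPartners D e) :
    Cfsg.commutingMembers D d ⊆ Cfsg.commutingMembers D e := by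
  rintro y ⟨hy, hyd⟩
  refine ⟨hy, ?_⟩
  rcases hD.pair e he y hy with h' | h' | ⟨h4, -⟩
  · exact h'.symm
  · by_cases hye : y = e
    · rw [hye]
    exfalso
    have hy' : y ∈ Cfsg.oddPartners D d := h ▸ ⟨hy, hye, h'⟩
    exact odd_not_commute hD hd hy hy'.2.1 hy'.2.2 hyd.symm
  · exfalso
    obtain ⟨hcD, hce, hcy, hec, hyc, hsym⟩ := four_facts hD he hy h4
    set c := (e * y) ^ 2 with hcdef
    have hfix : Cfsg.oddPartners D (y * e * y⁻¹) = Cfsg.oddPartners D e := by
      rw [oddPartners_conj hD, ← h, ← oddPartners_conj hD, hyd, mul_inv_cancel_right]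
    have hce' : c * e = e * c := hce.eq
    have hcT : Cfsg.oddPartners D c = Cfsg.oddPartners D e := by
      refine oddPartners_eq_of_subset hD hc hcD he fun x hx => ?_
      by_contra hxe
      have hxne : x ≠ e := by
        intro h
        rw [h] at hx
        exact odd_not_commute hD hcD he hx.2.1 hx.2.2 hce'
      refine odd_partner_splits hD hcD he hx.1 hce' (by rw [hec]; exact hD.conj_mem e he y)
        hx.2.1.symm hx.2.2 (fun ho => hxe ⟨hx.1, hxne, ho⟩) fun ho => hxe ?_
      rw [← hfix, ← hec]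
      refine ⟨hx.1, fun h => ?_, ho⟩
      refine odd_not_commute hD hcD hx.1 hx.2.1 hx.2.2 ?_
      rw [h, ← mul_assoc, hce', mul_assoc]
    by_cases hyT : Cfsg.oddPartners D y = Cfsg.oddPartners D e
    · exact same_oddPartners_not_four hD hc he hy hyT h4
    obtain ⟨q, hq, hqy⟩ := Set.not_subset.mp fun hsub =>
      hyT ((oddPartners_eq_of_subset hD hc hcD hy hsub).symm.trans hcT)
    have hycP : y ∈ Cfsg.productPartners D c := by
      refine ⟨⟨hy, hcy.symm.eq, fun hh => ?_⟩, by rw [hyc]; exact hD.conj_mem y hy e⟩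
      exact hyT (by rw [hh]; exact hcT)
    have hyq : ¬ Odd (orderOf (y * q)) := fun ho => by
      refine hqy ⟨hq.1, fun hh => ?_, ho⟩
      rw [hh] at hq
      exact odd_not_commute hD hcD hy hq.2.1 hq.2.2 hcy.eq
    obtain ⟨z, hz, hz4, hzy⟩ := exists_reverse hD hcD hycP hq hyq
    obtain ⟨-, -, hyz, hcz, -, -⟩ := four_facts hD hcD hz hz4
    rw [hzy] at hyz hcz
    -- `e` and `z` act on `{c, y, c * y}`; their product cycles it
    have hey : e * y * e⁻¹ = y * c := hyc.symm
    have hec' : e * c * e⁻¹ = c := by rw [← hce', mul_inv_cancel_right]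
    have hzy' : z * y * z⁻¹ = y := by rw [hyz.symm.eq, mul_inv_cancel_right]
    have s1 : (e * z) * c * (e * z)⁻¹ = y := by
      calc (e * z) * c * (e * z)⁻¹ = e * (z * c * z⁻¹) * e⁻¹ := by group
        _ = e * (c * y) * e⁻¹ := by rw [← hcz]
        _ = (e * c * e⁻¹) * (e * y * e⁻¹) := by group
        _ = c * (y * c) := by rw [hec', hey]
        _ = y := by rw [← mul_assoc, hcy.eq, mul_assoc, root_mul_self hD hcD, mul_one]
    have s2 : (e * z) * y * (e * z)⁻¹ = y * c := by
      calc (e * z) * y * (e * z)⁻¹ = e * (z * y * z⁻¹) * e⁻¹ := by group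
        _ = y * c := by rw [hzy', hey]
    have s3 : (e * z) * (y * c) * (e * z)⁻¹ = c := by
      calc (e * z) * (y * c) * (e * z)⁻¹ = ((e * z) * y * (e * z)⁻¹) * ((e * z) * c * (e * z)⁻¹) := by
            group
        _ = y * c * y := by rw [s1, s2]
        _ = c := by rw [← hcy.eq, mul_assoc, root_mul_self hD hy, mul_one]
    have hcne : c ≠ y := fun hh => hyT (hh ▸ hcT)
    have hodd : Odd (orderOf (e * z)) := by
      by_contra hno
      have h41 := not_odd_pow_four hD he hz hno
      apply hcne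
      calc c = (e * z) ^ 4 * c * ((e * z) ^ 4)⁻¹ := by rw [h41]; group
        _ = (e * z) * ((e * z) * ((e * z) * ((e * z) * c * (e * z)⁻¹) * (e * z)⁻¹) * (e * z)⁻¹) *
              (e * z)⁻¹ := by
            simp only [pow_succ, pow_zero, one_mul, mul_inv_rev, mul_assoc]
        _ = y := by rw [s1, s2, s3, s1]
    have hze : z ≠ e := by
      intro hh
      rw [hh, root_mul_self hD he] at s1
      exact hcne (by simpa using s1)
    have hzA : z ∈ Cfsg.oddPartners D c := hcT ▸ ⟨hz, hze, hodd⟩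
    exact four_not_odd hz4 hzA.2.2

theorem sameCommuting_iff_oddPartners [Finite G] (hD : Cfsg.IsRootInvolutionSet D)
    (hc : Cfsg.IsConnectedSet (Cfsg.OddAdj D) D) {d e : G} (hd : d ∈ D) (he : e ∈ D) :
    Cfsg.commutingMembers D d = Cfsg.commutingMembers D e ↔
      Cfsg.oddPartners D d = Cfsg.oddPartners D e :=
  ⟨fun h => (oddPartners_eq_of_commuting hD he hd h).antisymm
      (oddPartners_eq_of_commuting hD hd he h.symm),
    fun h => (commuting_subset_of_oddPartners hD hc hd he h).antisymm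
      (commuting_subset_of_oddPartners hD hc he hd h.symm)⟩

end CfsgLib.RootInvolutions
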