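import Cfsg.Agent.Lib.RootGroups.Classes

/-!
Rank one pairs in degenerate classes of abstract root subgroups with two commuting members are
special.

For commuting `A`, `C`, both opposite to `B`, an element `w` centralizing `B` with `w A w⁻¹ = C`
shows that the map `a ↦ c(a)` (`B^a` commutes with `B^c`) is conjugation by `w`, hence a
homomorphism; this forces `b(a⁻¹) = b(a)⁻¹`, which is specialness.
-/

set_option autoImplicit false

namespace CfsgLib.RootGroups.Degenerate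

open Cfsg (conjBy)
open CfsgLib.RootGroups
open scoped commutatorElement

variable {G : Type*} [Group G] {S : Set (Subgroup G)}

theorem commuting_conjBy {P Q : Subgroup G} (h : ⁅P, Q⁆ = ⊥) (g : G) :
    ⁅conjBy P g, conjBy Q g⁆ = ⊥ := by
  rw [← conjBy_commutator, h, conjBy_bot]

theorem self_commute (hS : Cfsg.IsRootSubgroupSet S) {P : Subgroup G} (hP : P ∈ S) : ⁅P, P⁆ = ⊥ :=
  commutator_eq_bot_of_commute fun _ hx _ hy => root_comm hS hP hx hy

theorem conjBy_self_of_commuting {P Q : Subgroup G} (h : ⁅P, Q⁆ = ⊥) {g : G} (hg : g ∈ P) :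
    conjBy Q g = Q :=
  conjBy_eq_self_of_commute fun _ hx => commute_of_commutator_eq_bot h hg hx

/-- Inversion of the partner map gives specialness. -/
theorem special_of_inv {A B : Subgroup G} (hp : Cfsg.IsRankOnePair A B)
    (h : ∀ a ∈ A, a ≠ 1 → ∀ e ∈ B, e ≠ 1 → conjBy A e = conjBy B a → conjBy A e⁻¹ = conjBy B a⁻¹) :
    Cfsg.IsSpecialRankOnePair A B := by
  refine ⟨hp, fun a ha ha1 b hb hb1 he => ?_⟩
  have hinv := h a⁻¹ (inv_mem ha) (inv_ne_one.mpr ha1) b⁻¹ (inv_mem hb) (inv_ne_one.mpr hb1) he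
  rw [inv_inv, inv_inv] at hinv
  set U := conjBy A b⁻¹ with hU
  have h1 : b⁻¹ * a * b ∈ U := by
    rw [hU, mem_conjBy, inv_inv]
    rwa [show b * (b⁻¹ * a * b) * b⁻¹ = a by group]
  have h2 : a⁻¹ * b⁻¹ * a ∈ U := by
    rw [he, mem_conjBy, inv_inv]
    rw [show a * (a⁻¹ * b⁻¹ * a) * a⁻¹ = b⁻¹ by group]
    exact inv_mem hb
  have hne : U ≠ B := by
    intro e0
    have := congrArg (fun Z => conjBy Z b) e0
    rw [hU] at this
    simp only [conjBy_conjBy_inv, conjBy_eq_self hb] at this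
    exact hp.ne this
  have hpU : Cfsg.IsRankOnePair U B := (isRankOnePair_of_mem_unipotent hp
    (conjBy_mem_unipotent (self_mem_unipotent A B) (Subgroup.mem_sup_right (inv_mem hb)))
    (right_mem_unipotent hp) hne).1
  have e1 : conjBy B (b⁻¹ * a * b) = A := by
    rw [← conjBy_conjBy, ← conjBy_conjBy, conjBy_eq_self hb, ← hinv, conjBy_inv_conjBy]
  have e2 : conjBy B (a⁻¹ * b⁻¹ * a) = A := by
    rw [← conjBy_conjBy, ← hinv, ← conjBy_conjBy, conjBy_inv_conjBy, conjBy_eq_self (inv_mem ha)]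
  have := rankOne_eq_one_of_normalize hpU (mul_mem (inv_mem h2) h1)
    (by rw [← conjBy_conjBy, e1, ← e2, conjBy_inv_conjBy])
  exact (inv_mul_eq_one.mp this).symm

/-- The translation map is conjugation by `w`. -/
theorem translate_commute (hS : Cfsg.IsRootSubgroupSet S) {A B C : Subgroup G} (hB : B ∈ S)
    (hp : Cfsg.IsRankOnePair A B) (hAC : ⁅A, C⁆ = ⊥) {w : G} (hwB : ∀ b ∈ B, w * b = b * w)
    (hw : conjBy A w = C) {a : G} (ha : a ∈ A) :
    ⁅B, conjBy B ((w * a * w⁻¹)⁻¹ * a)⁆ = ⊥ := by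
  rcases eq_or_ne a 1 with rfl | ha1
  · simp [conjBy_one, self_commute hS hB]
  obtain ⟨b, hb, -, he⟩ := hp.cond_left a⁻¹ (inv_mem ha) (inv_ne_one.mpr ha1)
  rw [inv_inv] at he
  have hc : conjBy C b⁻¹ = conjBy B (w * a * w⁻¹) := by
    rw [← hw, conjBy_conjBy, show b⁻¹ * w = w * b⁻¹ from (show Commute w b from hwB b hb).inv_right.eq.symm,
      ← conjBy_conjBy, he, ← conjBy_conjBy, ← conjBy_conjBy,
      show conjBy B w⁻¹ = B from conjBy_eq_self_of_commute fun x hx => (show Commute w x from hwB x hx).inv_left.eq]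
  have h0 := commuting_conjBy hAC b⁻¹
  rw [he, hc] at h0
  have h1 := commuting_conjBy h0 (w * a * w⁻¹)⁻¹
  rw [conjBy_inv_conjBy, conjBy_conjBy, Subgroup.commutator_comm] at h1
  exact h1

/-- For `a ≠ 1`: the partner, the mate in `C`, the new member `D` and the transporting element. -/
theorem translate_step (hS : Cfsg.IsRootSubgroupSet S) {A B C : Subgroup G} (hA : A ∈ S) (hB : B ∈ S)
    (hC : C ∈ S) (hAB : Cfsg.IsRankOnePair A B) (hCB : Cfsg.IsRankOnePair C B) (hAC : ⁅A, C⁆ = ⊥)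
    (hne : A ≠ C) {a e : G} (ha : a ∈ A) (he : e ∈ B) (he1 : e ≠ 1)
    (hae : conjBy A e = conjBy B a) :
    ∃ c ∈ C, conjBy C e = conjBy B c ∧ ⁅B, conjBy B (c⁻¹ * a)⁆ = ⊥ ∧ conjBy B (c⁻¹ * a) ≠ B ∧
      conjBy A ((c⁻¹ * a) * e⁻¹ * (c⁻¹ * a)⁻¹ * e) = C ∧
      (∀ b ∈ B, (c⁻¹ * a) * e⁻¹ * (c⁻¹ * a)⁻¹ * e * b = b * ((c⁻¹ * a) * e⁻¹ * (c⁻¹ * a)⁻¹ * e)) := by
  obtain ⟨c', hc', -, hce⟩ := hCB.cond_right e⁻¹ (inv_mem he) (inv_ne_one.mpr he1)
  rw [inv_inv] at hce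
  refine ⟨c'⁻¹, inv_mem hc', hce.symm, ?_⟩
  rw [inv_inv]
  set y := c' * a with hy
  have hD : ⁅B, conjBy B y⁆ = ⊥ := by
    have h0 := commuting_conjBy hAC e
    rw [hae, ← hce] at h0
    have h1 := commuting_conjBy h0 c'
    rwa [conjBy_conjBy_inv, conjBy_conjBy, Subgroup.commutator_comm] at h1
  have hyC : conjBy C y = C := by
    rw [hy, ← conjBy_conjBy, conjBy_self_of_commuting hAC ha, conjBy_eq_self hc']
  have hCy : conjBy C (y * e * y⁻¹) = conjBy B a := by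
    have hyi : conjBy C y⁻¹ = C := (conjBy_eq_iff.mp hyC).symm
    rw [← conjBy_conjBy, hyi, ← conjBy_conjBy, ← hce, conjBy_conjBy, hy]
    congr 1
    rw [commute_of_commutator_eq_bot hAC ha (inv_mem hc') |> fun h => (show Commute a c'⁻¹ from h).inv_right.eq.symm |> fun h2 => (by simpa using h2 : c' * a = a * c'), mul_inv_cancel_right]
  refine ⟨hD, fun e0 => hne ?_, ?_, fun b hb => ?_⟩
  · have : conjBy B a = conjBy B c'⁻¹ := by
      conv_rhs => rw [← e0, hy, conjBy_conjBy, inv_mul_cancel_left]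
    rw [← hae, hce] at this
    exact conjBy_inj.mp this
  · rw [← conjBy_conjBy, hae, ← hCy, conjBy_conjBy,
      show y * e⁻¹ * y⁻¹ * (y * e * y⁻¹) = 1 by group, conjBy_one]
  · have h1 : Commute (y * e⁻¹ * y⁻¹) b :=
      (commute_of_commutator_eq_bot hD hb (conj_mem_conjBy (g := y) (inv_mem he))).symm
    exact (h1.mul_left (root_comm hS hB he hb)).eq

/-- `u_b` moves `A`. -/
theorem translate_ne {A B : Subgroup G} (hp : Cfsg.IsRankOnePair A B) {y b : G}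
    (hyA : ∀ a ∈ A, y * a = a * y) (hD : conjBy B y ≠ B) (hb : b ∈ B) (hb1 : b ≠ 1) :
    conjBy A b ≠ conjBy A (y * b * y⁻¹) := by
  intro heq
  obtain ⟨a, ha, -, he⟩ := hp.cond_right b⁻¹ (inv_mem hb) (inv_ne_one.mpr hb1)
  rw [inv_inv] at he
  have hyi : conjBy A y⁻¹ = A :=
    conjBy_eq_self_of_commute fun x hx => (show Commute y x from hyA x hx).inv_left.eq
  have h2 : conjBy A (y * b * y⁻¹) = conjBy (conjBy B y) a⁻¹ := by
    rw [← conjBy_conjBy, hyi, ← conjBy_conjBy, ← he, conjBy_conjBy, conjBy_conjBy,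
      (show Commute y a⁻¹ from (show Commute y a from hyA a ha).inv_right).eq]
  rw [h2, ← he] at heq
  exact hD (conjBy_inj.mp heq).symm

/-- The partner map commutes with inversion when `A` has a commuting member opposite to `B`. -/
theorem inv_of_witness (hS : Cfsg.IsRootSubgroupSet S) {A B C : Subgroup G} (hA : A ∈ S) (hB : B ∈ S)
    (hC : C ∈ S) (hAB : Cfsg.IsRankOnePair A B) (hCB : Cfsg.IsRankOnePair C B) (hAC : ⁅A, C⁆ = ⊥)
    (hne : A ≠ C) {a e : G} (ha : a ∈ A) (ha1 : a ≠ 1) (he : e ∈ B) (he1 : e ≠ 1)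
    (hae : conjBy A e = conjBy B a) : conjBy A e⁻¹ = conjBy B a⁻¹ := by
  obtain ⟨f', hf', hf1, hf'e⟩ := hAB.cond_left a ha ha1
  obtain ⟨f, hfdef⟩ : ∃ f, f = f'⁻¹ := ⟨_, rfl⟩
  rw [← hfdef] at hf'e
  have hf : f ∈ B := hfdef ▸ inv_mem hf'
  obtain ⟨c, hc, hce, hD, hDne, hwA, hwB⟩ := translate_step hS hA hB hC hAB hCB hAC hne ha he he1 hae
  obtain ⟨c₂, hc₂, hc₂e, hD₂, hD₂ne, hwA₂, -⟩ :=
    translate_step hS hA hB hC hAB hCB hAC hne (inv_mem ha) hf (hfdef ▸ inv_ne_one.mpr hf1) hf'e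
  set y := c⁻¹ * a with hy
  obtain ⟨w, hwdef⟩ : ∃ w, w = y * e⁻¹ * y⁻¹ * e := ⟨_, rfl⟩
  rw [← hwdef] at hwA hwB
  -- the mate of `a⁻¹` is `c⁻¹`
  have hcw : c = w * a * w⁻¹ ∧ c₂ = c⁻¹ := by
    have main : ∀ {x g d : G}, x ∈ A → g ∈ B → d ∈ C → conjBy A g = conjBy B x →
        conjBy C g = conjBy B d → d = w * x * w⁻¹ := by
      intro x g d hx hg hd h1 h2
      have h3 : conjBy C g = conjBy B (w * x * w⁻¹) := by
        rw [← hwA, conjBy_conjBy, show g * w = w * g from (hwB g hg).symm, ← conjBy_conjBy, h1,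
          ← conjBy_conjBy, ← conjBy_conjBy, show conjBy B w⁻¹ = B from
            conjBy_eq_self_of_commute fun z hz => (show Commute w z from hwB z hz).inv_left.eq]
      have hwxC : w * x * w⁻¹ ∈ C := hwA ▸ conj_mem_conjBy hx
      rw [h2] at h3
      have h4 := rankOne_eq_one_of_normalize hCB (mul_mem (inv_mem hwxC) hd)
        (by rw [← conjBy_conjBy, h3, conjBy_inv_conjBy])
      exact (inv_mul_eq_one.mp h4).symm
    have e1 := main ha he hc hae hce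
    have e2 := main (inv_mem ha) hf hc₂ hf'e hc₂e
    exact ⟨e1, by rw [e2, e1]; group⟩
  have hy2 : c₂⁻¹ * a⁻¹ = y⁻¹ := by
    rw [hcw.2, inv_inv, hy, mul_inv_rev, inv_inv]
    exact ((show Commute a c from commute_of_commutator_eq_bot hAC ha hc).inv_left).eq.symm
  rw [hy2] at hD₂ hD₂ne hwA₂
  have hyA : ∀ x ∈ A, y⁻¹ * x = x * y⁻¹ := fun x hx =>
    (((show Commute x c from commute_of_commutator_eq_bot hAC hx hc).symm.inv_left).mul_left
      (root_comm hS hA ha hx)).inv_left.eq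
  have hyC : conjBy C y⁻¹ = C := by
    rw [hy, mul_inv_rev, inv_inv, ← conjBy_conjBy, conjBy_eq_self hc,
      conjBy_self_of_commuting hAC (inv_mem ha)]
  have hyAself : conjBy A y = A := conjBy_eq_self_of_commute fun x hx => by
    have := hyA x hx
    exact (show Commute y x from inv_inv y ▸ (show Commute y⁻¹ x from this).inv_left).eq
  have hcm : ∀ {u v : G}, u ∈ B → v ∈ B → Commute u (y⁻¹ * v * y) := fun hu hv =>
    commute_of_commutator_eq_bot hD₂ hu (by simpa using conj_mem_conjBy (g := y⁻¹) hv)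
  have hwy : conjBy A (y⁻¹ * w * y) = C := by
    rw [← conjBy_conjBy, hyAself, ← conjBy_conjBy, hwA, hyC]
  rw [inv_inv] at hwA₂
  have hwA₂' : conjBy A (y⁻¹ * f⁻¹ * y * f) = C := hwA₂
  set β := f * e with hβ
  by_contra hcon
  have hβ1 : β ≠ 1 := fun h0 => hcon (by rw [← eq_inv_of_mul_eq_one_left h0]; exact hf'e)
  refine translate_ne hAB hyA hD₂ne (mul_mem hf he) hβ1 ?_
  rw [inv_inv]
  -- both transporters send `A` to `C`
  have e1 : y⁻¹ * w * y = y⁻¹ * e * y * e⁻¹ := by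
    have hc0 : Commute e (y * e⁻¹ * y⁻¹) :=
      commute_of_commutator_eq_bot hD he (conj_mem_conjBy (g := y) (inv_mem he))
    rw [hwdef, ← hc0.eq]; group
  have e2 : (y⁻¹ * e * y * e⁻¹)⁻¹ * (y⁻¹ * f⁻¹ * y * f) = (y⁻¹ * β * y)⁻¹ * β := by
    have hc1 : Commute e (y⁻¹ * β⁻¹ * y) := hcm he (inv_mem (mul_mem hf he))
    calc (y⁻¹ * e * y * e⁻¹)⁻¹ * (y⁻¹ * f⁻¹ * y * f) = e * (y⁻¹ * (e⁻¹ * f⁻¹) * y) * f := by group
      _ = e * (y⁻¹ * β⁻¹ * y) * f := by rw [show β⁻¹ = e⁻¹ * f⁻¹ from mul_inv_rev f e]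
      _ = (y⁻¹ * β⁻¹ * y) * (e * f) := by rw [hc1.eq, mul_assoc]
      _ = (y⁻¹ * β⁻¹ * y) * β := by rw [show e * f = β from (root_comm hS hB he hf).trans hβ.symm]
      _ = (y⁻¹ * β * y)⁻¹ * β := by group
  have hfix : conjBy A ((y⁻¹ * β * y)⁻¹ * β) = A := by
    rw [← e2, ← conjBy_conjBy, hwA₂', conjBy_eq_iff, inv_inv, ← e1]
    exact hwy.symm
  rw [← conjBy_conjBy, conjBy_eq_iff, inv_inv] at hfix
  exact hfix

/-- Two commuting members with a common opposite, unless all members of a component are opposite. -/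
theorem exists_common_opposite (hS : Cfsg.IsRootSubgroupSet S) (hdeg : Cfsg.IsDegenerateRootSet S)
    {A : Subgroup G} (hA : A ∈ S) {C : Subgroup G} (hC : C ∈ S) (hne : A ≠ C) (hAC : ⁅A, C⁆ = ⊥)
    (hreach : Relation.ReflTransGen (Cfsg.FAdj S) A C) :
    ∃ P ∈ S, ∃ E ∈ S, P ≠ A ∧ ⁅A, P⁆ = ⊥ ∧ Cfsg.IsRankOnePair A E ∧ Cfsg.IsRankOnePair P E := by
  by_contra hcon
  push Not at hcon
  have key : ∀ Q, Relation.ReflTransGen (Cfsg.FAdj S) A Q → Q = A ∨ Cfsg.IsRankOnePair A Q := by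
    intro Q hQ
    induction hQ with
    | refl => exact Or.inl rfl
    | @tail P Q _ hPQ ih =>
      rcases ih with rfl | hAP
      · exact Or.inr hPQ.2.2
      · rcases eq_or_ne Q A with h | h
        · exact Or.inl h
        rcases hS.pair A hA Q hPQ.2.1 with h1 | h1 | h1
        · exact absurd (Cfsg.RankOnePair_symm hPQ.2.2) (hcon Q hPQ.2.1 P hPQ.1 h h1 hAP)
        · exact Or.inr h1
        · exact absurd h1 (hdeg A hA Q hPQ.2.1)
  rcases key C hreach with h | h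
  · exact hne h.symm
  · exact not_rankOne_of_commute hAC h

/-- `A` commutes with no `B` opposite to it all whose commuting members commute with `B`. -/
theorem exists_witness (hS : Cfsg.IsRootSubgroupSet S) (hdeg : Cfsg.IsDegenerateRootSet S)
    {A B C E : Subgroup G} (hA : A ∈ S) (hB : B ∈ S) (hC : C ∈ S) (hE : E ∈ S)
    (hAB : Cfsg.IsRankOnePair A B) (hAE : Cfsg.IsRankOnePair A E) (hCE : Cfsg.IsRankOnePair C E)
    (hAC : ⁅A, C⁆ = ⊥) (hne : C ≠ A)
    (hb : ∃ b ∈ E, ∃ b₂ ∈ E, b * b ≠ 1 ∧ b₂ ≠ 1 ∧ b * b₂ ≠ 1 ∧ b * b * b₂ ≠ 1) :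
    ∃ P ∈ S, P ≠ A ∧ ⁅A, P⁆ = ⊥ ∧ Cfsg.IsRankOnePair P B := by
  by_contra hcon
  push Not at hcon
  obtain ⟨b, hb, b₂, hb₂, hbb, hb₂1, hb12, hb112⟩ := hb
  have hb1 : b ≠ 1 := fun h => hbb (by rw [h, one_mul])
  obtain ⟨a₀, ha₀, ha₀1⟩ := exists_ne_one_mem (hS.ne_bot A hA)
  obtain ⟨f, hf, hf1, hfe⟩ := hAE.cond_left a₀⁻¹ (inv_mem ha₀) (inv_ne_one.mpr ha₀1)
  rw [inv_inv] at hfe
  obtain ⟨c₀, hc₀, -, hD, hDne, hwA, -⟩ := translate_step hS hA hE hC hAE hCE hAC hne.symm ha₀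
    (inv_mem hf) (inv_ne_one.mpr hf1) hfe
  set y := c₀⁻¹ * a₀ with hy
  have hyA : ∀ x ∈ A, y * x = x * y := fun x hx =>
    (((show Commute x c₀ from commute_of_commutator_eq_bot hAC hx hc₀).symm.inv_left).mul_left
      (root_comm hS hA ha₀ hx)).eq
  set D := conjBy E y with hDdef
  have hDS : D ∈ S := hS.conj_mem E hE y
  -- the translations
  let u : G → G := fun x => y * x⁻¹ * y⁻¹ * x
  have hDmem : ∀ {x}, x ∈ E → y * x * y⁻¹ ∈ D := fun hx => conj_mem_conjBy hx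
  have hcED : ∀ {x d}, x ∈ E → d ∈ D → Commute x d := fun hx hd => commute_of_commutator_eq_bot hD hx hd
  have hu_mul : ∀ {x z}, x ∈ E → z ∈ E → u (x * z) = u x * u z := by
    intro x z hx hz
    have h1 : Commute x (y * z⁻¹ * y⁻¹) := hcED hx (hDmem (inv_mem hz))
    show y * (x * z)⁻¹ * y⁻¹ * (x * z) = (y * x⁻¹ * y⁻¹ * x) * (y * z⁻¹ * y⁻¹ * z)
    rw [show (y * x⁻¹ * y⁻¹ * x) * (y * z⁻¹ * y⁻¹ * z) = y * x⁻¹ * y⁻¹ * (x * (y * z⁻¹ * y⁻¹)) * z by group,
      h1.eq, mul_inv_rev, (show Commute z x from root_comm hS hE hz hx).inv_inv.eq]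
    group
  have huE : ∀ {x}, x ∈ E → ∀ z ∈ E, u x * z = z * u x := fun {x} hx z hz =>
    ((hcED hz (hDmem (inv_mem hx))).symm.mul_left (root_comm hS hE hx hz)).eq
  have huD : ∀ {x}, x ∈ E → ∀ z ∈ D, u x * z = z * u x := fun {x} hx z hz =>
    ((show Commute (y * x⁻¹ * y⁻¹) z from root_comm hS hDS (hDmem (inv_mem hx)) hz).mul_left
      (hcED hx hz)).eq
  have hfix : ∀ {g : G}, (∀ z ∈ E, g * z = z * g) → conjBy E g = E := fun h =>
    conjBy_eq_self_of_commute h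
  have hCu : ∀ {x}, x ∈ E → ⁅A, conjBy A (u x)⁆ = ⊥ := by
    intro x hx
    have := translate_commute (S := S) hS hA (Cfsg.RankOnePair_symm hAE) hD hyA hDdef.symm hx
    rwa [show (y * x * y⁻¹)⁻¹ * x = u x by simp [u, mul_assoc]] at this
  have hCune : ∀ {x}, x ∈ E → x ≠ 1 → conjBy A (u x) ≠ A := by
    intro x hx hx1 h
    refine translate_ne hAE hyA hDne hx hx1 ?_
    rwa [show u x = (y * x * y⁻¹)⁻¹ * x by simp [u, mul_assoc], ← conjBy_conjBy, conjBy_eq_iff,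
      inv_inv] at h
  have hCB : ∀ {x}, x ∈ E → x ≠ 1 → ∀ z ∈ A, ∀ v ∈ B, Commute (u x * z * (u x)⁻¹) v := by
    intro x hx hx1 z hz v hv
    rcases hS.pair _ (hS.conj_mem A hA (u x)) B hB with h | h | h
    · exact commute_of_commutator_eq_bot h (conj_mem_conjBy hz) hv
    · exact absurd h (hcon _ (hS.conj_mem A hA _) (hCune hx hx1) (hCu hx))
    · exact absurd h (hdeg _ (hS.conj_mem A hA _) B hB)
  -- the members `q E q⁻¹` commute with each other, with `E` and with `D`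
  set U := u b with hU
  let q : G → G := fun a => (U * a * U⁻¹)⁻¹ * a
  have hq : ∀ {x}, x ∈ A → ⁅E, conjBy E (q x)⁆ = ⊥ := fun hx =>
    translate_commute (S := S) hS hE hAE (hCu hb) (huE hb) rfl hx
  have hq_mul : ∀ {x z}, x ∈ A → z ∈ A → q (x * z) = q x * q z := by
    intro x z hx hz
    have h1 : Commute x (U * z * U⁻¹) :=
      commute_of_commutator_eq_bot (hCu hb) hx (conj_mem_conjBy hz)
    have h2 : Commute (U * z * U⁻¹) (U * x * U⁻¹) := root_comm hS (hS.conj_mem A hA U)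
      (conj_mem_conjBy hz) (conj_mem_conjBy hx)
    show (U * (x * z) * U⁻¹)⁻¹ * (x * z) = (U * x * U⁻¹)⁻¹ * x * ((U * z * U⁻¹)⁻¹ * z)
    rw [show (U * x * U⁻¹)⁻¹ * x * ((U * z * U⁻¹)⁻¹ * z) = (U * x * U⁻¹)⁻¹ * (x * (U * z * U⁻¹)⁻¹) * z by group,
      h1.inv_right.eq, show U * (x * z) * U⁻¹ = (U * x * U⁻¹) * (U * z * U⁻¹) by group, mul_inv_rev,
      h2.inv_inv.eq]
    group
  -- `D` is one of them
  obtain ⟨a', ha', -, ha'e⟩ := hAE.cond_right b⁻¹ (inv_mem hb) (inv_ne_one.mpr hb1)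
  rw [inv_inv] at ha'e
  set aD := a'⁻¹ with haD
  have haDA : aD ∈ A := inv_mem ha'
  have hUy : ∀ z ∈ conjBy A U, Commute y z := by
    intro z hz
    have hbf : f⁻¹ * (f * b) = b := inv_mul_cancel_left f b
    have h5 := commuting_conjBy (hCu (mul_mem hf hb)) (u f⁻¹)
    rw [conjBy_conjBy, ← hu_mul (inv_mem hf) (mul_mem hf hb), hbf,
      show conjBy A (u f⁻¹) = C from hwA, ← hU] at h5
    exact ((show Commute c₀ z from commute_of_commutator_eq_bot h5 hc₀ hz).inv_left).mul_left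
      (commute_of_commutator_eq_bot (hCu hb) ha₀ hz)
  have hyU : conjBy (conjBy A U) y = conjBy A U :=
    conjBy_eq_self_of_commute fun z hz => (hUy z hz).eq
  have hDq : conjBy E (q aD) = D := by
    have h1 : conjBy E (U * aD * U⁻¹) = conjBy A (b * U) := by
      rw [← conjBy_conjBy, show conjBy E U⁻¹ = E from hfix fun z hz =>
        (show Commute U z from huE hb z hz).inv_left.eq, ← conjBy_conjBy, haD, ha'e, conjBy_conjBy,
        huE hb b hb]
    have h2 : conjBy D (U * aD * U⁻¹) = conjBy E aD := by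
      have hcy : U * aD * U⁻¹ * y = y * (U * aD * U⁻¹) :=
        ((hUy _ (conj_mem_conjBy haDA)).symm).eq
      have e4 : conjBy A U = conjBy (conjBy A U) y := hyU.symm
      rw [hDdef, conjBy_conjBy, hcy, ← conjBy_conjBy, h1, conjBy_conjBy,
        show y * (b * U) = y * b * y⁻¹ * (y * U) by group, ← conjBy_conjBy,
        ← conjBy_conjBy A U y, ← e4, conjBy_conjBy,
        show y * b * y⁻¹ * U = b by simp [hU, u, mul_assoc], haD, ha'e]
    show conjBy E ((U * aD * U⁻¹)⁻¹ * aD) = D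
    rw [← conjBy_conjBy, ← h2, conjBy_inv_conjBy]
  have hqq : ∀ {x z}, x ∈ A → z ∈ A → ⁅conjBy E (q x), conjBy E (q z)⁆ = ⊥ := by
    intro x z hx hz
    have h0 := commuting_conjBy (hq (mul_mem (inv_mem hx) hz)) (q x)
    rwa [conjBy_conjBy, ← hq_mul hx (mul_mem (inv_mem hx) hz), mul_inv_cancel_left] at h0
  have hq1 : conjBy E (q 1) = E := by simp [q, conjBy_one]
  -- a non-identity `a` and the element `Z`
  obtain ⟨a, ha, ha1⟩ := exists_ne_one_mem (hS.ne_bot A hA)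
  set Z := U * q a * U⁻¹ * (q a)⁻¹ with hZ
  have hqED : ∀ v, v ∈ E ∨ v ∈ D → ∀ t, t ∈ E ∨ t ∈ D → Commute (q a * v * (q a)⁻¹) t := by
    intro v hv t ht
    obtain ⟨m, hm, hv'⟩ : ∃ m ∈ A, v ∈ conjBy E (q m) := by
      rcases hv with h | h
      · exact ⟨1, one_mem _, by rwa [hq1]⟩
      · exact ⟨aD, haDA, by rwa [hDq]⟩
    obtain ⟨m', hm', ht'⟩ : ∃ m ∈ A, t ∈ conjBy E (q m) := by
      rcases ht with h | h
      · exact ⟨1, one_mem _, by rwa [hq1]⟩
      · exact ⟨aD, haDA, by rwa [hDq]⟩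
    have hmem : q a * v * (q a)⁻¹ ∈ conjBy E (q (a * m)) := by
      rw [hq_mul ha hm, ← conjBy_conjBy]; exact conj_mem_conjBy hv'
    exact commute_of_commutator_eq_bot (hqq (mul_mem ha hm) hm') hmem ht'
  have hZu : Commute Z (u b₂) := by
    have h1 : Commute U (u b₂) := by
      rw [Commute, SemiconjBy, hU, ← hu_mul hb hb₂, ← hu_mul hb₂ hb, root_comm hS hE hb hb₂]
    have h2 : Commute (q a * U⁻¹ * (q a)⁻¹) (u b₂) := by
      have e : q a * U⁻¹ * (q a)⁻¹ =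
          (q a * b⁻¹ * (q a)⁻¹) * (q a * (y * b * y⁻¹) * (q a)⁻¹) := by
        simp [hU, u, mul_assoc]
      have hx : ∀ v, v ∈ E ∨ v ∈ D → Commute (q a * v * (q a)⁻¹) (u b₂) := fun v hv =>
        (hqED v hv _ (Or.inr (hDmem (inv_mem hb₂)))).mul_right (hqED v hv _ (Or.inl hb₂))
      rw [e]
      exact (hx _ (Or.inl (inv_mem hb))).mul_left (hx _ (Or.inr (hDmem hb)))
    rw [hZ, show U * q a * U⁻¹ * (q a)⁻¹ = U * (q a * U⁻¹ * (q a)⁻¹) by group]
    exact h1.mul_left h2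
  -- read it on `B`
  let K : G → G := fun x => u x * a * (u x)⁻¹
  have hK : ∀ {x}, x ∈ E → ∀ {z}, z ∈ E → u x * K z * (u x)⁻¹ = K (x * z) := by
    intro x hx z hz; simp [K, hu_mul hx hz, mul_assoc]
  have hu1 : u 1 = 1 := by simp [u]
  have hZe : Z = (K (b * b))⁻¹ * K b * a⁻¹ * K b := by
    simp [hZ, q, K, hu_mul hb hb, hU, mul_assoc]
  have hZe2 : Z = (K (b₂ * (b * b)))⁻¹ * K (b₂ * b) * (K b₂)⁻¹ * K (b₂ * b) := by
    calc Z = u b₂ * Z * (u b₂)⁻¹ := by rw [← hZu.eq, mul_inv_cancel_right]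
      _ = _ := by
        rw [hZe, ← hK hb₂ (mul_mem hb hb), ← hK hb₂ hb, show K b₂ = u b₂ * a * (u b₂)⁻¹ from rfl]
        group
  have hBK : ∀ {x}, x ∈ E → x ≠ 1 → ∀ v ∈ B, Commute (K x) v := fun hx hx1 => hCB hx hx1 a ha
  refine ha1 (rankOne_noncomm hAB ha fun v hv => ?_)
  have k1 := hBK (mul_mem hb hb) hbb v hv
  have k2 := hBK hb hb1 v hv
  have k3 := hBK (mul_mem hb₂ (mul_mem hb hb))
    (by rw [root_comm hS hE hb₂ (mul_mem hb hb)]; exact hb112) v hv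
  have k4 := hBK (mul_mem hb₂ hb) (by rw [root_comm hS hE hb₂ hb]; exact hb12) v hv
  have k5 := hBK hb₂ hb₂1 v hv
  have hA' : a⁻¹ = (K b)⁻¹ * K (b * b) * Z * (K b)⁻¹ := by rw [hZe]; group
  have hcz : Commute Z v := by
    rw [hZe2]; exact ((k3.inv_left.mul_left k4).mul_left k5.inv_left).mul_left k4
  have : Commute a⁻¹ v := by
    rw [hA']; exact ((k2.inv_left.mul_left k1).mul_left hcz).mul_left k2.inv_left
  exact (inv_inv a ▸ this.inv_left).eq

theorem class_degenerate_special (hS : Cfsg.IsRootSubgroupClass S) (hdeg : Cfsg.IsDegenerateRootSet S)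
    (hcomm : ∃ A ∈ S, ∃ C ∈ S, A ≠ C ∧ ⁅A, C⁆ = ⊥) {A B : Subgroup G} (hA : A ∈ S) (hB : B ∈ S)
    (hp : Cfsg.IsRankOnePair A B) : Cfsg.IsSpecialRankOnePair A B := by
  obtain ⟨hS1, hcl⟩ := hS
  refine special_of_inv hp fun a ha ha1 e he he1 hae => ?_
  obtain ⟨f, hf, hf1, hfe⟩ := hp.cond_left a ha ha1
  obtain ⟨g, hg⟩ := hcl.2 A hA B hB
  have hgA : ∀ {x}, x ∈ B → g⁻¹ * x * g ∈ A := fun hx => mem_conjBy.mp (hg ▸ hx)
  have hgne : ∀ {x : G}, g⁻¹ * x * g = 1 → x = 1 := fun {x} h => by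
    calc x = g * (g⁻¹ * x * g) * g⁻¹ := by group
      _ = 1 := by rw [h]; group
  by_cases hexp : ∀ x ∈ A, x * x = 1
  · have e1 : e⁻¹ = e := inv_eq_of_mul_eq_one_right (hgne (by
      rw [show g⁻¹ * (e * e) * g = (g⁻¹ * e * g) * (g⁻¹ * e * g) by group]
      exact hexp _ (hgA he)))
    rw [e1, show a⁻¹ = a from inv_eq_of_mul_eq_one_right (hexp a ha)]
    exact hae
  push Not at hexp
  obtain ⟨b, hb, hbb⟩ := hexp
  have hb1 : b ≠ 1 := fun h => hbb (by rw [h, one_mul])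
  by_cases hex : ∃ b₂ ∈ A, b₂ ≠ 1 ∧ b * b₂ ≠ 1 ∧ b * b * b₂ ≠ 1
  · obtain ⟨b₂, hb₂, h1, h2, h3⟩ := hex
    obtain ⟨A₀, hA₀, C₀, hC₀, hne₀, hc₀⟩ := hcomm
    have hall := class_all_nonIso hS1 hcl hA ⟨B, hB, hp⟩
    obtain ⟨P, hP, E, hE, hPne, hAP, hAE, hPE⟩ : ∃ P ∈ S, ∃ E ∈ S, P ≠ A ∧ ⁅A, P⁆ = ⊥ ∧
        Cfsg.IsRankOnePair A E ∧ Cfsg.IsRankOnePair P E := by
      obtain ⟨h, hh⟩ := hcl.2 A₀ hA₀ A hA
      refine exists_common_opposite hS1 hdeg hA (hS1.conj_mem C₀ hC₀ h) ?_ ?_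
        (class_connected hS1 hcl hall A hA _ (hS1.conj_mem C₀ hC₀ h))
      · rw [hh]; exact fun h0 => hne₀ (conjBy_inj.mp h0)
      · rw [hh]; exact commuting_conjBy hc₀ h
    obtain ⟨k, hk⟩ := hcl.2 A hA E hE
    have hkne : ∀ {x : G}, x ≠ 1 → k * x * k⁻¹ ≠ 1 := fun hx h => hx (by simpa using h)
    have hkE : ∀ {x}, x ∈ A → k * x * k⁻¹ ∈ E := fun hx => hk ▸ conj_mem_conjBy hx
    obtain ⟨C, hC, hCne, hAC, hCB⟩ := exists_witness hS1 hdeg hA hB hP hE hp hAE hPE hAP hPne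
      ⟨k * b * k⁻¹, hkE hb, k * b₂ * k⁻¹, hkE hb₂,
        by rw [show k * b * k⁻¹ * (k * b * k⁻¹) = k * (b * b) * k⁻¹ by group]; exact hkne hbb,
        hkne h1,
        by rw [show k * b * k⁻¹ * (k * b₂ * k⁻¹) = k * (b * b₂) * k⁻¹ by group]; exact hkne h2,
        by rw [show k * b * k⁻¹ * (k * b * k⁻¹) * (k * b₂ * k⁻¹) = k * (b * b * b₂) * k⁻¹ by group]
           exact hkne h3⟩
    exact inv_of_witness hS1 hA hB hC hp hCB hAC hCne.symm ha ha1 he he1 hae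
  · -- members of order three
    push Not at hex
    have h3 : ∀ x ∈ A, x = 1 ∨ x = b⁻¹ ∨ x = (b * b)⁻¹ := by
      intro x hx
      by_cases hx1 : x = 1
      · exact Or.inl hx1
      by_cases hx2 : b * x = 1
      · exact Or.inr (Or.inl (eq_inv_of_mul_eq_one_right hx2))
      exact Or.inr (Or.inr (eq_inv_of_mul_eq_one_right (hex x hx hx1 hx2)))
    have hb3 : b = (b * b)⁻¹ := by
      rcases h3 b hb with h | h | h
      · exact absurd h hb1
      · exfalso; refine hbb ?_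
        nth_rewrite 1 [h]
        exact inv_mul_cancel b
      · exact h
    have hpair : ∀ x ∈ A, ∀ z ∈ A, x ≠ 1 → z ≠ 1 → z = x ∨ z = x⁻¹ := by
      intro x hx z hz hx1 hz1
      rcases h3 x hx with h | h | h
      · exact absurd h hx1
      all_goals rcases h3 z hz with h' | h' | h'
      all_goals first
        | exact absurd h' hz1
        | exact Or.inl (h'.trans h.symm)
        | (right; rw [h, h', ← hb3]; simp; done)
        | (right; rw [h, h', ← hb3])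
    have hef : f⁻¹ = e⁻¹ := by
      have key : g⁻¹ * f⁻¹ * g = g⁻¹ * e * g ∨ g⁻¹ * f⁻¹ * g = (g⁻¹ * e * g)⁻¹ :=
        hpair _ (hgA he) _ (hgA (inv_mem hf)) (fun h => he1 (hgne h))
          (fun h => hf1 (inv_eq_one.mp (hgne h)))
      rcases key with h | h
      · exfalso
        have hf' : f⁻¹ = e := mul_left_cancel (mul_right_cancel h)
        rw [hf', hae] at hfe
        have := rankOne_eq_one_of_normalize hp (mul_mem ha ha)
          (by rw [← conjBy_conjBy, hfe, conjBy_conjBy_inv])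
        exact hbb (by
          rcases hpair a ha b hb ha1 hb1 with h' | h'
          · rw [h', this]
          · rw [h', ← mul_inv_rev, this, inv_one])
      · rw [show (g⁻¹ * e * g)⁻¹ = g⁻¹ * e⁻¹ * g by group] at h
        exact mul_left_cancel (mul_right_cancel h)
    rw [← hef]; exact hfe

end CfsgLib.RootGroups.Degenerate
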