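import Mathlib
import Cfsg.Prelude.Def_RootSubgroups
import Cfsg.Agent.Lib.RootGroups.RankOne
set_option autoImplicit false

/-!
Rank one groups as abstract groups: normal subgroups, centre, non-nilpotency, quasisimplicity.
-/

namespace CfsgLib.RootGroups

open Cfsg (conjBy unipotentSubgroups)

variable {X : Type*} [Group X] {A B : Subgroup X}

theorem conjBy_normal {N : Subgroup X} (hN : N.Normal) (g : X) : conjBy N g = N := by
  ext x
  rw [mem_conjBy]
  exact ⟨fun h => by simpa [mul_assoc] using hN.conj_mem _ h g, fun h => hN.conj_mem' x h g⟩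

theorem rankOneGroup_dichotomy (h : Cfsg.IsRankOneGroup X A B) {N : Subgroup X} (hN : N.Normal) :
    N ⊔ A = ⊤ ∨ N ≤ Subgroup.center X := by
  rcases normal_dichotomy h.2 (fun y _ => conjBy_normal hN y) (h.1 ▸ le_top) with h1 | h1
  · rw [h.1] at h1; exact Or.inl (top_le_iff.mp h1)
  · refine Or.inr fun n hn => Subgroup.mem_center_iff.mpr fun g => ?_
    exact (h1 n hn g (h.1 ▸ Subgroup.mem_top g)).symm

theorem rankOneGroup_center_inf (h : Cfsg.IsRankOneGroup X A B) :
    A ⊓ Subgroup.center X = ⊥ := by
  rw [Subgroup.eq_bot_iff_forall]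
  intro x hx
  exact rankOne_noncomm h.2 hx.1 fun b _ => (Subgroup.mem_center_iff.mp hx.2 b).symm

theorem rankOneGroup_center_ne_top (h : Cfsg.IsRankOneGroup X A B) :
    Subgroup.center X ≠ ⊤ := by
  intro ht
  have := rankOneGroup_center_inf h
  rw [ht, inf_top_eq] at this
  exact rankOne_left_ne_bot h.2 this

/-- If `N ⊔ A = ⊤` for a normal subgroup `N` then `X` modulo `N` is nilpotent. -/
theorem quotient_nilpotent_of_sup (hA : Group.IsNilpotent A) {N : Subgroup X} [N.Normal]
    (hN : N ⊔ A = ⊤) : Group.IsNilpotent (X ⧸ N) := by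
  haveI := hA
  refine Group.nilpotent_of_surjective ((QuotientGroup.mk' N).comp A.subtype) ?_
  intro q
  obtain ⟨x, rfl⟩ := QuotientGroup.mk'_surjective N q
  have hx : x ∈ A ⊔ N := by rw [sup_comm, hN]; trivial
  obtain ⟨a, ha, n, hn, rfl⟩ := Subgroup.mem_sup_of_normal_right.mp hx
  refine ⟨⟨a, ha⟩, ?_⟩
  simp [map_mul, (QuotientGroup.eq_one_iff n).mpr hn]

theorem eq_top_of_perfect_of_nilpotent_quotient (hp : Group.IsPerfect X) {N : Subgroup X} [N.Normal]
    (hN : Group.IsNilpotent (X ⧸ N)) : N = ⊤ := by
  by_contra hne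
  haveI := hN
  haveI : Group.IsSolvable (X ⧸ N) := inferInstance
  haveI : Nontrivial (X ⧸ N) := QuotientGroup.nontrivial_iff.mpr hne
  have := Group.IsSolvable.commutator_lt_top_of_nontrivial (X ⧸ N)
  apply this.ne
  have e : Subgroup.map (QuotientGroup.mk' N) (commutator X) = commutator (X ⧸ N) := by
    rw [commutator_def, Subgroup.map_commutator,
      Subgroup.map_top_of_surjective _ (QuotientGroup.mk'_surjective N), ← commutator_def]
  rw [← e, hp.commutator_eq_top, Subgroup.map_top_of_surjective _ (QuotientGroup.mk'_surjective N)]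

theorem rankOneGroup_quasisimple (h : Cfsg.IsRankOneGroup X A B) (hp : Group.IsPerfect X) :
    Cfsg.IsQuasisimple X := by
  refine ⟨hp, ?_⟩
  haveI : Nontrivial (X ⧸ Subgroup.center X) :=
    QuotientGroup.nontrivial_iff.mpr (rankOneGroup_center_ne_top h)
  constructor
  intro M hM
  let N := M.comap (QuotientGroup.mk' (Subgroup.center X))
  haveI : N.Normal := hM.comap _
  have hs : Function.Surjective (QuotientGroup.mk' (Subgroup.center X)) :=
    QuotientGroup.mk'_surjective _
  rcases rankOneGroup_dichotomy h (N := N) inferInstance with h1 | h1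
  · right
    have : N = ⊤ := eq_top_of_perfect_of_nilpotent_quotient hp
      (quotient_nilpotent_of_sup h.2.nilpotent_left h1)
    rw [← Subgroup.map_comap_eq_self_of_surjective hs M]
    show N.map _ = ⊤
    rw [this, Subgroup.map_top_of_surjective _ hs]
  · left
    rw [← Subgroup.map_comap_eq_self_of_surjective hs M]
    refine (Subgroup.map_eq_bot_iff _).mpr ?_
    rw [QuotientGroup.ker_mk']
    exact h1

theorem rankOneGroup_secondCenter (h : Cfsg.IsRankOneGroup X A B) :
    Subgroup.upperCentralSeries X 2 = Subgroup.center X := by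
  refine le_antisymm ?_ ?_
  · rcases rankOneGroup_dichotomy h
      (N := Subgroup.upperCentralSeries X 2) inferInstance with h1 | h1
    · exfalso
      have hB : B ≤ A ⊔ Subgroup.center X := by
        obtain ⟨x, hx, rfl⟩ := right_mem_unipotent h.2
        rintro _ ⟨a, ha, rfl⟩
        have hx' : x ∈ A ⊔ Subgroup.upperCentralSeries X 2 := by rw [sup_comm, h1]; trivial
        obtain ⟨a₀, ha₀, n, hn, rfl⟩ := Subgroup.mem_sup_of_normal_right.mp hx'
        have hz : n * a * n⁻¹ * a⁻¹ ∈ Subgroup.center X := by
          rw [← Subgroup.upperCentralSeries_one]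
          exact Subgroup.mem_upperCentralSeries_succ_iff.mp hn a
        have e : (MulAut.conj (a₀ * n)).toMonoidHom a
            = a₀ * ((n * a * n⁻¹ * a⁻¹) * a) * a₀⁻¹ := by simp [mul_assoc]
        rw [e]
        exact mul_mem (mul_mem (Subgroup.mem_sup_left ha₀)
          (mul_mem (Subgroup.mem_sup_right hz) (Subgroup.mem_sup_left ha)))
          (inv_mem (Subgroup.mem_sup_left ha₀))
      apply rankOne_left_ne_bot (Cfsg.RankOnePair_symm h.2)
      rw [Subgroup.eq_bot_iff_forall]
      intro b hb
      refine rankOne_eq_one_of_normalize (Cfsg.RankOnePair_symm h.2) hb ?_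
      obtain ⟨a, ha, z, hz, rfl⟩ := Subgroup.mem_sup_of_normal_right.mp (hB hb)
      rw [← conjBy_conjBy,
        conjBy_eq_self_of_commute (fun c _ => (Subgroup.mem_center_iff.mp hz c).symm),
        conjBy_eq_self ha]
    · exact h1
  · rw [← Subgroup.upperCentralSeries_one]
    exact Subgroup.upperCentralSeries_mono X (by norm_num)

theorem rankOneGroup_not_nilpotent (h : Cfsg.IsRankOneGroup X A B) : ¬ Group.IsNilpotent X := by
  intro hn
  obtain ⟨n, hn⟩ := hn.nilpotent
  have h2 := rankOneGroup_secondCenter h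
  have hstab : ∀ m, Subgroup.upperCentralSeries X m ≤ Subgroup.center X := by
    intro m
    induction m with
    | zero => rw [Subgroup.upperCentralSeries_zero]; exact bot_le
    | succ k ih =>
      intro x hx
      rw [← h2]
      refine Subgroup.mem_upperCentralSeries_succ_iff.mpr fun y => ?_
      rw [Subgroup.upperCentralSeries_one]
      exact ih (Subgroup.mem_upperCentralSeries_succ_iff.mp hx y)
  exact rankOneGroup_center_ne_top h (top_le_iff.mp (hn ▸ hstab n))

end CfsgLib.RootGroups
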