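import Mathlib
import Cfsg.Prelude.Def_RootSubgroups
import Cfsg.Prelude.Def_Transfer
import Cfsg.Agent.Lib.RootGroups.RankOne
import Cfsg.Agent.Lib.RootGroups.RankOneGroup
set_option autoImplicit false

/-!
Quadratic modules of rank one groups (Timmesfeld): specialness and the structure of `A`.
-/

namespace CfsgLib.RootGroups

open Cfsg (conjBy)
open scoped commutatorElement

variable {X : Type*} [Group X] {A B : Subgroup X} {V : Type*} [AddCommGroup V]
  [DistribMulAction X V]

/-- Elements fixing `V` modulo the fixed points of `X` are central when `X` acts non-trivially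
enough. -/
theorem quadratic_kernel_central (h : Cfsg.IsRankOneGroup X A B)
    (hq : ∀ a ∈ A, ∀ a' ∈ A, ∀ v : V, a' • (a • v - v) = a • v - v)
    (hX : ∃ x y : X, ∃ v : V, y • (x • v - v) ≠ x • v - v) {k : X}
    (hk : ∀ v : V, ∀ x : X, x • (k • v - v) = k • v - v) : k ∈ Subgroup.center X := by
  -- the kernel of the action is central
  let K₀ : Subgroup X :=
    { carrier := {g | ∀ v : V, g • v = v}
      one_mem' := fun v => one_smul X v
      mul_mem' := fun {x y} hx hy v => by rw [mul_smul, hy v, hx v]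
      inv_mem' := fun {x} hx v => inv_smul_eq_iff.mpr (hx v).symm }
  have hK₀ : K₀.Normal := ⟨fun g hg x v => by rw [mul_smul, mul_smul, hg, smul_inv_smul]⟩
  have hcent : K₀ ≤ Subgroup.center X := by
    refine (rankOneGroup_dichotomy h hK₀).resolve_left fun htop => ?_
    haveI := hK₀
    have hrep : ∀ x : X, ∃ a ∈ A, ∀ v : V, x • v = a • v := by
      intro x
      have hx : x ∈ K₀ ⊔ A := htop ▸ Subgroup.mem_top x
      obtain ⟨k, hk, a, ha, rfl⟩ := Subgroup.mem_sup_of_normal_left.mp hx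
      exact ⟨a, ha, fun v => by rw [mul_smul, hk]⟩
    obtain ⟨x, y, v, hne⟩ := hX
    obtain ⟨a, ha, hax⟩ := hrep x
    obtain ⟨a', ha', hay⟩ := hrep y
    exact hne (by rw [hay, hax, hq a ha a' ha'])
  let K : Subgroup X :=
    { carrier := {g | ∀ v : V, ∀ x : X, x • (g • v - v) = g • v - v}
      one_mem' := fun v x => by simp
      mul_mem' := fun {g g'} hg hg' v x => by
        have e : (g * g') • v - v = (g • (g' • v) - g' • v) + (g' • v - v) := by
          rw [mul_smul]; abel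
        rw [e, smul_add, hg, hg']
      inv_mem' := fun {g} hg v x => by
        have e : g⁻¹ • v - v = -(g • (g⁻¹ • v) - g⁻¹ • v) := by rw [smul_inv_smul]; abel
        rw [e, smul_neg, hg] }
  have hK : K.Normal := ⟨fun g hg y v x => by
    have e : (y * g * y⁻¹) • v - v = y • (g • (y⁻¹ • v) - y⁻¹ • v) := by
      rw [mul_smul, mul_smul, smul_sub, smul_inv_smul]
    rw [e, hg (y⁻¹ • v) y, hg (y⁻¹ • v) x]⟩
  refine ((rankOneGroup_dichotomy h hK).resolve_left fun htop => ?_) hk
  haveI := hK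
  refine rankOneGroup_not_nilpotent h ?_
  have hrep : ∀ x : X, ∃ g ∈ K, ∃ a ∈ A, g * a = x := fun x =>
    Subgroup.mem_sup_of_normal_left.mp (htop ▸ Subgroup.mem_top x)
  -- `W`: every element moves `x • v - v` only by fixed vectors
  have hW : ∀ x y : X, ∀ v : V, ∀ z : X,
      z • (y • (x • v - v) - (x • v - v)) = y • (x • v - v) - (x • v - v) := by
    intro x y v z
    obtain ⟨g, hg, a, ha, rfl⟩ := hrep x
    obtain ⟨g', hg', a', ha', rfl⟩ := hrep y
    have e1 : (g * a) • v - v = (g • (a • v) - a • v) + (a • v - v) := by rw [mul_smul]; abel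
    have e2 : (g' * a') • ((g * a) • v - v) - ((g * a) • v - v)
        = g' • (a • v - v) - (a • v - v) := by
      rw [e1, smul_add, hg (a • v) (g' * a'), mul_smul, hq a ha a' ha' v]; abel
    rw [e2]; exact hg' _ z
  -- commutators
  have hJ : ∀ x y : X, (∀ v : V, ∀ z : X, z • (⁅x, y⁆ • v - v) = ⁅x, y⁆ • v - v) ∧
      ∀ w : V, (∀ s t : X, t • (s • w - w) = s • w - w) → ⁅x, y⁆ • w = w := by
    intro x y
    have e : ∀ v : V, ⁅x, y⁆ • v - v
        = x • (y • (x⁻¹ • (y⁻¹ • v))) - y • (x • (x⁻¹ • (y⁻¹ • v))) := by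
      intro v
      rw [commutatorElement_def, mul_smul, mul_smul, mul_smul, smul_inv_smul, smul_inv_smul]
    have key : ∀ u : V, x • (y • u) - y • (x • u)
        = (x • (y • u - u) - (y • u - u)) - (y • (x • u - u) - (x • u - u)) := by
      intro u; simp only [smul_sub]; abel
    constructor
    · intro v z
      rw [e, key, smul_sub, hW, hW]
    · intro w hw
      have hw' : ∀ s t : X, ∀ r : X, t • (s • (r • w) - r • w) = s • (r • w) - r • w := by
        intro s t r
        have e1 : s • (r • w) - r • w = ((s * r) • w - w) - (r • w - w) := by rw [mul_smul]; abel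
        rw [e1, smul_sub, hw, hw]
      have h2 := e w
      rw [key] at h2
      have hu : ∀ s t : X,
          t • (s • (x⁻¹ • (y⁻¹ • w)) - x⁻¹ • (y⁻¹ • w))
            = s • (x⁻¹ • (y⁻¹ • w)) - x⁻¹ • (y⁻¹ • w) := by
        intro s t
        rw [← mul_smul x⁻¹ y⁻¹ w]; exact hw' s t (x⁻¹ * y⁻¹)
      rw [hu y x, hu x y] at h2
      simpa [sub_eq_zero] using h2
  rw [nilpotent_iff_lowerCentralSeries]
  refine ⟨3, ?_⟩
  rw [Subgroup.lowerCentralSeries_succ, Subgroup.lowerCentralSeries_succ,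
    Subgroup.lowerCentralSeries_succ, Subgroup.lowerCentralSeries_zero,
    Subgroup.commutator_eq_bot_iff_le_centralizer, Subgroup.coe_top, Subgroup.centralizer_univ,
    Subgroup.commutator_le]
  intro j hj z _
  refine hcent fun v => ?_
  have hjJ : (∀ v : V, ∀ z : X, z • (j • v - v) = j • v - v) ∧
      ∀ w : V, (∀ s t : X, t • (s • w - w) = s • w - w) → j • w = w := by
    rw [Subgroup.commutator_def] at hj
    induction hj using Subgroup.closure_induction with
    | mem g hg =>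
      obtain ⟨x, -, y, -, rfl⟩ := hg
      exact hJ x y
    | one => exact ⟨fun v z => by simp, fun w _ => one_smul X w⟩
    | mul g g' _ _ ihg ihg' =>
      refine ⟨fun v z => ?_, fun w hw => by rw [mul_smul, ihg'.2 w hw, ihg.2 w hw]⟩
      have e : (g * g') • v - v = (g • (g' • v) - g' • v) + (g' • v - v) := by
        rw [mul_smul]; abel
      rw [e, smul_add, ihg.1, ihg'.1]
    | inv g _ ihg =>
      refine ⟨fun v z => ?_, fun w hw => inv_smul_eq_iff.mpr (ihg.2 w hw).symm⟩
      have e : g⁻¹ • v - v = -(g • (g⁻¹ • v) - g⁻¹ • v) := by rw [smul_inv_smul]; abel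
      rw [e, smul_neg, ihg.1]
  have main : ∀ u : V, j • (z • u) = z • (j • u) := by
    intro u
    have h1 : j • (z • u - u) = z • u - u :=
      hjJ.2 _ fun s t => hW z s u t
    have h2 : z • (j • u - u) = j • u - u := hjJ.1 u z
    rw [smul_sub] at h1 h2
    calc j • (z • u) = (j • (z • u) - j • u) + j • u := by abel
      _ = z • u - u + j • u := by rw [h1]
      _ = z • (j • u) - (z • (j • u) - z • u) + (j • u - u) := by abel
      _ = z • (j • u) := by rw [h2]; abel
  rw [commutatorElement_def, mul_smul, mul_smul, mul_smul, main, smul_inv_smul, smul_inv_smul]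

theorem quadratic_right (h : Cfsg.IsRankOneGroup X A B)
    (hq : ∀ a ∈ A, ∀ a' ∈ A, ∀ v : V, a' • (a • v - v) = a • v - v) :
    ∀ b ∈ B, ∀ b' ∈ B, ∀ v : V, b' • (b • v - v) = b • v - v := by
  obtain ⟨g, -, rfl⟩ := right_mem_unipotent h.2
  rintro _ ⟨a, ha, rfl⟩ _ ⟨a', ha', rfl⟩ v
  have h1 := hq a ha a' ha' (g⁻¹ • v)
  simp only [MulEquiv.coe_toMonoidHom, MulAut.conj_apply, mul_smul]
  have e : g • (a • (g⁻¹ • v)) - v = g • (a • (g⁻¹ • v) - g⁻¹ • v) := by
    rw [smul_sub, smul_inv_smul]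
  rw [e, inv_smul_smul, h1]

/-- The fundamental congruences `αβα ≡ -α`, `βαβ ≡ -β`. -/
theorem quadratic_congr (h : Cfsg.IsRankOneGroup X A B)
    (hq : ∀ a ∈ A, ∀ a' ∈ A, ∀ v : V, a' • (a • v - v) = a • v - v) {a b : X} (ha : a ∈ A)
    (hb : b ∈ B) (hconj : conjBy A b⁻¹ = conjBy B a⁻¹) (v : V) (x : X) :
    x • (a • (b⁻¹ • (a • v - v)) - (b⁻¹ • (a • v - v) - (a • v - v)))
        = a • (b⁻¹ • (a • v - v)) - (b⁻¹ • (a • v - v) - (a • v - v)) ∧
      x • (b • (a⁻¹ • (b⁻¹ • v - v)) + (a • (b⁻¹ • v - v) - (b⁻¹ • v - v)))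
        = b • (a⁻¹ • (b⁻¹ • v - v)) + (a • (b⁻¹ • v - v) - (b⁻¹ • v - v)) := by
  have hB := quadratic_right h hq
  have both : ∀ r : V, (∀ y ∈ A, y • r = r) → (∀ y ∈ B, y • r = r) → x • r = r := by
    intro r hrA hrB
    have hle : A ⊔ B ≤ MulAction.stabilizer X r :=
      sup_le (fun y hy => MulAction.mem_stabilizer_iff.mpr (hrA y hy))
        (fun y hy => MulAction.mem_stabilizer_iff.mpr (hrB y hy))
    exact MulAction.mem_stabilizer_iff.mp (hle (h.1 ▸ Subgroup.mem_top x))
  constructor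
  · set p := a • v - v
    have hp : ∀ y ∈ A, y • p = p := fun y hy => hq a ha y hy v
    refine both _ (fun y hy => ?_) (fun y hy => ?_)
    · have e : a • (b⁻¹ • p) - (b⁻¹ • p - p) = (a • (b⁻¹ • p) - b⁻¹ • p) + p := by abel
      rw [e, smul_add, hq a ha y hy, hp y hy]
    · have hmem : a⁻¹ * y * a ∈ conjBy A b⁻¹ := by
        rw [hconj]; simpa using conj_mem_conjBy (g := a⁻¹) hy
      have h1 := hp _ (mem_conjBy.mp hmem)
      rw [inv_inv, mul_smul, mul_smul, mul_smul, mul_smul, eq_comm, ← inv_smul_eq_iff] at h1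
      rw [smul_sub, hB b⁻¹ (inv_mem hb) y hy p]
      rw [eq_comm, inv_smul_eq_iff] at h1
      rw [h1]
  · set q := b⁻¹ • v - v
    have hq' : ∀ y ∈ B, y • q = q := fun y hy => hB b⁻¹ (inv_mem hb) y hy v
    clear_value q
    refine both _ (fun y hy => ?_) (fun y hy => ?_)
    · have hmem : b⁻¹ * y * b ∈ conjBy B a⁻¹ := by
        rw [← hconj]; simpa using conj_mem_conjBy (g := b⁻¹) hy
      have h1 := hq' _ (mem_conjBy.mp hmem)
      rw [inv_inv, mul_smul, mul_smul, mul_smul, mul_smul] at h1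
      have h1' : y • (b • (a⁻¹ • q)) = b • (a⁻¹ • q) := by
        have h3 := congrArg (fun t => b • (a⁻¹ • t)) h1
        simpa using h3
      rw [smul_add, h1', hq a ha y hy q]
    · have h3 : b • q = q := hq' b hb
      have e : b • (a⁻¹ • q) + (a • q - q)
          = (b • (a⁻¹ • q - q) - (a⁻¹ • q - q)) + ((a⁻¹ • q - q) + (a • q - q)) + q := by
        rw [smul_sub, h3]; abel
      have e2 : (a⁻¹ • q - q) + (a • q - q) = 0 := by
        have h4 := hq a ha a⁻¹ (inv_mem ha) q
        rw [smul_sub, inv_smul_smul] at h4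
        rw [← h4]; abel
      rw [e, e2, add_zero, smul_add, hB b hb y hy, hq' y hy]

theorem quadratic_special (h : Cfsg.IsRankOneGroup X A B)
    (hq : ∀ a ∈ A, ∀ a' ∈ A, ∀ v : V, a' • (a • v - v) = a • v - v)
    (hX : ∃ x y : X, ∃ v : V, y • (x • v - v) ≠ x • v - v) :
    Cfsg.IsSpecialRankOnePair A B := by
  refine ⟨h.2, fun a ha ha1 b hb hb1 hconj => ?_⟩
  have hB := quadratic_right h hq
  set z := a * b⁻¹ * a * (b⁻¹ * a * b⁻¹)⁻¹ with hz
  have hz1 : ∀ u : V, ∀ x : X,
      x • (z • u - u) = z • u - u := by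
    intro u x
    set v := (b⁻¹ * a * b⁻¹)⁻¹ • u with hv
    have hu : u = b⁻¹ • (a • (b⁻¹ • v)) := by
      rw [← mul_smul, ← mul_smul, hv, smul_inv_smul]
    have hzu : z • u - u = a • (b⁻¹ • (a • v)) - b⁻¹ • (a • (b⁻¹ • v)) := by
      rw [← hu, hz, mul_smul, ← hv, mul_smul, mul_smul]
    obtain ⟨c1, -⟩ := quadratic_congr h hq ha hb hconj v x
    obtain ⟨-, c2⟩ := quadratic_congr h hq ha hb hconj v x
    set p := a • v - v
    set q := b⁻¹ • v - v
    have hbq : b⁻¹ • q = q := hB b⁻¹ (inv_mem hb) b⁻¹ (inv_mem hb) v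
    have hap : a • p = p := hq a ha a ha v
    have hβ : ∀ t : V, b • t = t - (b⁻¹ • t - t) := by
      intro t
      have h4 := hB b⁻¹ (inv_mem hb) b hb t
      rw [smul_sub, smul_inv_smul] at h4
      rw [← h4]; abel
    have hαinv : ∀ t : V, a⁻¹ • t = t - (a • t - t) := by
      intro t
      have h4 := hq a ha a⁻¹ (inv_mem ha) t
      rw [smul_sub, inv_smul_smul] at h4
      rw [← h4]; abel
    have e : a • (b⁻¹ • (a • v)) - b⁻¹ • (a • (b⁻¹ • v))
        = (a • (b⁻¹ • p) - (b⁻¹ • p - p)) - (b • (a⁻¹ • q) + (a • q - q)) := by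
      have e1 : a • (b⁻¹ • (a • v)) = a • (b⁻¹ • p) + a • v + a • q := by
        rw [show a • v = p + v by simp [p], smul_add, smul_add,
          show b⁻¹ • v = q + v by simp [q], smul_add]
        simp only [p]; abel
      have e2 : b⁻¹ • (a • (b⁻¹ • v)) = b⁻¹ • (a • q) + b⁻¹ • v + b⁻¹ • p := by
        rw [show b⁻¹ • v = q + v by simp [q], smul_add, smul_add,
          show a • v = p + v by simp [p], smul_add]
        simp only [q]; abel
      have e3 : b • (a⁻¹ • q) + (a • q - q) = b⁻¹ • (a • q) - (a • q - q) + (0 : V) -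
          (a • q - q) + (a • q - q) := by
        rw [hβ, hαinv]
        simp only [smul_sub, hbq]; abel
      rw [e1, e2, e3]
      rw [show a • v = p + v by simp [p], show b⁻¹ • v = q + v by simp [q]]
      abel
    rw [hzu, e, smul_sub, c1, c2]
  have hzc : z ∈ Subgroup.center X := quadratic_kernel_central h hq hX hz1
  have e : b⁻¹ * a * b = z * (a⁻¹ * b⁻¹ * a) := by
    calc b⁻¹ * a * b = a⁻¹ * (a * b⁻¹ * a * (b⁻¹ * a * b⁻¹)⁻¹) * (b⁻¹ * a) := by group
      _ = z * (a⁻¹ * b⁻¹ * a) := by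
        rw [← hz, Subgroup.mem_center_iff.mp hzc a⁻¹]; group
  have hzB : a * z * a⁻¹ ∈ B := by
    have m1 : b⁻¹ * a * b ∈ conjBy B a⁻¹ := by
      rw [← hconj]; simpa using conj_mem_conjBy (g := b⁻¹) ha
    have m2 : a⁻¹ * b⁻¹ * a ∈ conjBy B a⁻¹ := by
      simpa using conj_mem_conjBy (g := a⁻¹) (inv_mem hb)
    have m3 : z ∈ conjBy B a⁻¹ := by
      have := mul_mem m1 (inv_mem m2)
      rwa [e, mul_inv_cancel_right] at this
    simpa using mem_conjBy.mp m3
  rw [Subgroup.mem_center_iff.mp hzc a, mul_inv_cancel_right] at hzB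
  have hz0 : z = 1 := rankOne_noncomm (Cfsg.RankOnePair_symm h.2) hzB
    fun y _ => (Subgroup.mem_center_iff.mp hzc y).symm
  rwa [hz0, one_mul] at e

theorem quadratic_unipotent_structure (h : Cfsg.IsRankOneGroup X A B)
    (hf : ∀ x : X, (∀ v : V, x • v = v) → x = 1)
    (hq : ∀ a ∈ A, ∀ a' ∈ A, ∀ v : V, a' • (a • v - v) = a • v - v) :
    (∀ a ∈ A, a ≠ 1 → ¬ IsOfFinOrder a) ∨ ∃ p : ℕ, p.Prime ∧ Cfsg.IsElementaryAbelian p A := by
  refine or_iff_not_imp_left.mpr fun hnot => ?_
  push Not at hnot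
  obtain ⟨a₁, ha₁, ha₁1, hfin⟩ := hnot
  obtain ⟨p, hp, hdvd⟩ := Nat.exists_prime_and_dvd (n := orderOf a₁)
    (fun h0 => ha₁1 (orderOf_eq_one_iff.mp h0))
  set a₀ := a₁ ^ (orderOf a₁ / p) with ha₀_def
  have ha₀ : a₀ ∈ A := pow_mem ha₁ _
  have hord : orderOf a₀ = p := orderOf_pow_orderOf_div (orderOf_pos_iff.mpr hfin).ne' hdvd
  have ha₀1 : a₀ ≠ 1 := fun h0 => hp.ne_one (hord ▸ orderOf_eq_one_iff.mpr h0)
  have hX : ∃ x y : X, ∃ v : V, y • (x • v - v) ≠ x • v - v := by
    by_contra hcon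
    push Not at hcon
    apply rankOneGroup_center_ne_top h
    refine top_le_iff.mp fun x _ => Subgroup.mem_center_iff.mpr fun y => ?_
    refine mul_inv_eq_one.mp (hf _ fun v => ?_)
    have key : ∀ u : V, (y * x) • u = (x * y) • u := by
      intro u
      have h1 := hcon x y u
      have h2 := hcon y x u
      rw [smul_sub] at h1 h2
      rw [mul_smul, mul_smul]
      calc y • (x • u) = (y • (x • u) - y • u) + y • u := by abel
        _ = (x • u - u) + y • u := by rw [h1]
        _ = (y • u - u) + x • u := by abel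
        _ = x • (y • u) := by rw [← h2]; abel
    rw [mul_smul, key, smul_inv_smul]
  have hpow : ∀ a ∈ A, ∀ n : ℕ, ∀ v : V, a ^ n • v - v = n • (a • v - v) := by
    intro a ha n
    induction n with
    | zero => intro v; simp
    | succ n ih =>
      intro v
      have h1 := hq a ha (a ^ n) (pow_mem ha n) v
      rw [smul_sub] at h1
      rw [pow_succ, mul_smul, succ_nsmul, ← ih v]
      calc a ^ n • (a • v) - v = (a ^ n • (a • v) - a ^ n • v) + (a ^ n • v - v) := by abel
        _ = a ^ n • v - v + (a • v - v) := by rw [h1]; abel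
  refine ⟨p, hp, ⟨⟨fun ⟨x, hx⟩ ⟨y, hy⟩ => ?_⟩⟩, ?_⟩
  · refine Subtype.ext (mul_inv_eq_one.mp (hf _ fun v => ?_))
    have key : ∀ u : V, (x * y) • u = (y * x) • u := by
      intro u
      have h1 := hq y hy x hx u
      have h2 := hq x hx y hy u
      rw [smul_sub] at h1 h2
      rw [mul_smul, mul_smul]
      calc x • (y • u) = (x • (y • u) - x • u) + x • u := by abel
        _ = (y • u - u) + x • u := by rw [h1]
        _ = (x • u - u) + y • u := by abel
        _ = y • (x • u) := by rw [← h2]; abel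
    show (x * y * (y * x)⁻¹) • v = v
    rw [mul_smul, key, smul_inv_smul]
  have hT : ∀ x : X, ∀ v : V, p • v = 0 → p • (x • v) = 0 := by
    intro x v hv
    rw [smul_comm, hv, smul_zero]
  let KT : Subgroup X :=
    { carrier := {g | ∀ v : V, p • (g • v - v) = 0}
      one_mem' := fun v => by simp
      mul_mem' := fun {g g'} hg hg' v => by
        have e : (g * g') • v - v = (g • (g' • v) - g' • v) + (g' • v - v) := by
          rw [mul_smul]; abel
        rw [e, nsmul_add, hg, hg', add_zero]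
      inv_mem' := fun {g} hg v => by
        have e : g⁻¹ • v - v = -(g • (g⁻¹ • v) - g⁻¹ • v) := by rw [smul_inv_smul]; abel
        rw [e, smul_neg, hg, neg_zero] }
  have hKT : KT.Normal := ⟨fun g hg y v => by
    have e : (y * g * y⁻¹) • v - v = y • (g • (y⁻¹ • v) - y⁻¹ • v) := by
      rw [mul_smul, mul_smul, smul_sub, smul_inv_smul]
    rw [e]; exact hT y _ (hg _)⟩
  have ha₀KT : a₀ ∈ KT := fun v => by
    rw [← hpow a₀ ha₀, ← hord, pow_orderOf_eq_one, one_smul, sub_self]
  have htop : KT ⊔ A = ⊤ := (rankOneGroup_dichotomy h hKT).resolve_right fun hle =>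
    ha₀1 ((Subgroup.eq_bot_iff_forall _).mp (rankOneGroup_center_inf h) a₀ ⟨ha₀, hle ha₀KT⟩)
  intro a ha
  by_cases ha1 : a = 1
  · rw [ha1, one_pow]
  obtain ⟨b, hb, hb1, hconj⟩ := h.2.cond_left a ha ha1
  refine (Subgroup.eq_bot_iff_forall _).mp (rankOneGroup_center_inf h) _
    ⟨pow_mem ha p, quadratic_kernel_central h hq hX fun v x => ?_⟩
  haveI := hKT
  obtain ⟨k, hk, a', ha', hka⟩ :=
    Subgroup.mem_sup_of_normal_left.mp (htop ▸ Subgroup.mem_top b⁻¹)
  obtain ⟨c1, -⟩ := quadratic_congr h hq ha hb hconj v x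
  set w := a • v - v
  have hzero : p • (a • (b⁻¹ • w) - b⁻¹ • w) = 0 := by
    have e1 : b⁻¹ • w = (k • (a' • w) - a' • w) + a' • w := by
      rw [← hka, mul_smul]; abel
    have e2 : a' • w = w := hq a ha a' ha' v
    have e3 : a • w = w := hq a ha a ha v
    rw [e1, e2, smul_add, e3, nsmul_sub, nsmul_add, nsmul_add, hT a _ (hk w), hk w, sub_self]
  have h2 := congrArg (fun t => p • t) c1
  rw [smul_comm p x] at h2
  have e4 : p • (a • (b⁻¹ • w) - (b⁻¹ • w - w)) = p • w := by
    rw [show a • (b⁻¹ • w) - (b⁻¹ • w - w) = (a • (b⁻¹ • w) - b⁻¹ • w) + w by abel, nsmul_add,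
      hzero, zero_add]
  rw [e4] at h2
  rw [hpow a ha p v]
  exact h2

end CfsgLib.RootGroups
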