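import Cfsg.Agent.S5016

/-! Images of SL₂ with central kernel are rank one groups. -/

set_option autoImplicit false

namespace CfsgLib.RootGroups.SL2Image

open CfsgLib.RootGroups CfsgLib.RootGroups.Steinberg Matrix

variable {k : Type*} [Field k] {G : Type*} [Group G]

theorem upper_mem (t : k) : upper t ∈ Cfsg.upperUnipotentSL2 k :=
  Cfsg.Agent.S5016.mem_upper_iff.mpr ⟨t, rfl⟩

theorem lower_mem (t : k) : lower t ∈ Cfsg.lowerUnipotentSL2 k :=
  Cfsg.Agent.S5016.mem_lower_iff.mpr ⟨t, rfl⟩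

theorem isRankOneGroup_upper_lower : Cfsg.IsRankOneGroup (SpecialLinearGroup (Fin 2) k)
    (Cfsg.upperUnipotentSL2 k) (Cfsg.lowerUnipotentSL2 k) := by
  obtain ⟨⟨htop, hpair⟩, -⟩ := Cfsg.Agent.S5016.result k
  exact ⟨by rwa [sup_comm], Cfsg.RankOnePair_symm hpair⟩

theorem upper_sup_lower : Cfsg.upperUnipotentSL2 k ⊔ Cfsg.lowerUnipotentSL2 k = ⊤ :=
  isRankOneGroup_upper_lower.1

/-- Images of a rank one pair of a group generated by it, under a map with central kernel. -/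
theorem isRankOnePair_map {X : Type*} [Group X] {A B : Subgroup X}
    (h : Cfsg.IsRankOneGroup X A B) (φ : X →* G) (hker : φ.ker ≤ Subgroup.center X) :
    Cfsg.IsRankOnePair (A.map φ) (B.map φ) := by
  have hA := rankOneGroup_center_inf h
  have hB := rankOneGroup_center_inf (A := B) (B := A) ⟨by rw [sup_comm]; exact h.1,
    Cfsg.RankOnePair_symm h.2⟩
  have hne : ∀ {C : Subgroup X}, C ⊓ Subgroup.center X = ⊥ → ∀ {x : X}, x ∈ C → x ≠ 1 → φ x ≠ 1 :=
    fun {C} hC {x} hx hx1 hx' => hx1 (Subgroup.mem_bot.1 (hC ▸ ⟨hx, hker hx'⟩))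
  have hmap : ∀ (C : Subgroup X) (g : X), Cfsg.conjBy (C.map φ) (φ g) = (Cfsg.conjBy C g).map φ := by
    intro C g
    ext y
    rw [mem_conjBy]
    constructor
    · rintro ⟨c, hc, he⟩
      refine ⟨g * c * g⁻¹, conj_mem_conjBy hc, ?_⟩
      rw [map_mul, map_mul, map_inv, he]
      group
    · rintro ⟨c, hc, rfl⟩
      exact ⟨g⁻¹ * c * g, mem_conjBy.1 hc, by simp⟩
  refine ⟨?_, ?_, ?_, ?_, ?_⟩
  · intro he
    obtain ⟨a, ha, ha1⟩ : ∃ a ∈ A, a ≠ 1 := by
      by_contra! hall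
      have hAbot : A = ⊥ := (Subgroup.eq_bot_iff_forall A).2 hall
      refine h.2.ne ?_
      rw [hAbot]
      symm
      rw [Subgroup.eq_bot_iff_forall]
      intro b hb
      by_contra hb1
      obtain ⟨a, ha, ha1, -⟩ := h.2.cond_right b hb hb1
      exact ha1 (hall a ha)
    obtain ⟨b, hb, hab⟩ : φ a ∈ B.map φ := he ▸ ⟨a, ha, rfl⟩
    have hz : b⁻¹ * a ∈ Subgroup.center X := hker (by
      rw [MonoidHom.mem_ker, map_mul, map_inv, hab, inv_mul_cancel])
    apply rankOne_conj_ne h.2 ha ha1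
    rw [show a = b * (b⁻¹ * a) by group, ← conjBy_conjBy, conjBy_eq_self_of_commute
      (fun x _ => (Subgroup.mem_center_iff.1 hz x).symm), conjBy_eq_self hb]
  · haveI := h.2.nilpotent_left
    exact Group.nilpotent_of_surjective (φ.subgroupMap A) (φ.subgroupMap_surjective A)
  · haveI := h.2.nilpotent_right
    exact Group.nilpotent_of_surjective (φ.subgroupMap B) (φ.subgroupMap_surjective B)
  · rintro _ ⟨a, ha, rfl⟩ ha1
    obtain ⟨b, hb, hb1, he⟩ := h.2.cond_left a ha fun e => ha1 (by rw [e, map_one])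
    refine ⟨φ b, ⟨b, hb, rfl⟩, hne hB hb hb1, ?_⟩
    rw [← map_inv, ← map_inv, hmap, hmap, he]
  · rintro _ ⟨b, hb, rfl⟩ hb1
    obtain ⟨a, ha, ha1, he⟩ := h.2.cond_right b hb fun e => hb1 (by rw [e, map_one])
    refine ⟨φ a, ⟨a, ha, rfl⟩, hne hA ha ha1, ?_⟩
    rw [← map_inv, ← map_inv, hmap, hmap, he]

theorem rankOne_and_pslPair (φ : SpecialLinearGroup (Fin 2) k →* G)
    (hker : φ.ker ≤ Subgroup.center (SpecialLinearGroup (Fin 2) k)) {A B : Subgroup G}
    (hA : (Cfsg.upperUnipotentSL2 k).map φ = A) (hB : (Cfsg.lowerUnipotentSL2 k).map φ = B) :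
    Cfsg.IsRankOnePair A B ∧ Cfsg.IsPSL2PairOver k A B := by
  refine ⟨hA ▸ hB ▸ isRankOnePair_map isRankOneGroup_upper_lower φ hker, φ, ?_, hker, hA, hB⟩
  rw [← hA, ← hB, ← Subgroup.map_sup, upper_sup_lower, MonoidHom.range_eq_map]

section Embed

variable {ι : Type*} [Fintype ι] [DecidableEq ι] {R : Type*} [CommRing R]

/-- Two by two matrices acting on the span of two dual pairs of vectors. -/
def embedMat (P : Matrix ι (Fin 2) R) (Q : Matrix (Fin 2) ι R) (hQP : Q * P = 1) :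
    Matrix (Fin 2) (Fin 2) R →* Matrix ι ι R where
  toFun g := 1 + P * (g - 1) * Q
  map_one' := by simp
  map_mul' g h := by
    have e : (P * (g - 1) * Q) * (P * (h - 1) * Q) = P * ((g - 1) * (h - 1)) * Q := by
      rw [show (P * (g - 1) * Q) * (P * (h - 1) * Q) = P * (g - 1) * (Q * P) * (h - 1) * Q by
        simp only [Matrix.mul_assoc], hQP]
      simp only [Matrix.mul_one, Matrix.mul_assoc]
    rw [Matrix.add_mul, Matrix.mul_add, Matrix.mul_add, Matrix.one_mul, Matrix.one_mul,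
      Matrix.mul_one, e, show g * h - 1 = (g - 1) + (h - 1) + (g - 1) * (h - 1) by noncomm_ring]
    simp only [Matrix.mul_add, Matrix.add_mul]
    abel

theorem embedMat_injective (P : Matrix ι (Fin 2) R) (Q : Matrix (Fin 2) ι R) (hQP : Q * P = 1) :
    Function.Injective (embedMat P Q hQP) := by
  intro g h e
  have e' : P * (g - 1) * Q = P * (h - 1) * Q := add_left_cancel (a := 1) e
  have e2 := congrArg (fun M => Q * M * P) e'
  simp only [← Matrix.mul_assoc, hQP, Matrix.one_mul] at e2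
  rw [Matrix.mul_assoc, hQP, Matrix.mul_one, Matrix.mul_assoc, hQP, Matrix.mul_one] at e2
  exact sub_left_inj.1 e2

theorem embedMat_mulVec (P : Matrix ι (Fin 2) R) (Q : Matrix (Fin 2) ι R) (hQP : Q * P = 1)
    (g : Matrix (Fin 2) (Fin 2) R) (x : ι → R) :
    embedMat P Q hQP g *ᵥ x = x + (((g 0 0 - 1) * (Q *ᵥ x) 0 + g 0 1 * (Q *ᵥ x) 1) • (fun i => P i 0) +
      (g 1 0 * (Q *ᵥ x) 0 + (g 1 1 - 1) * (Q *ᵥ x) 1) • (fun i => P i 1)) := by
  show (1 + P * (g - 1) * Q) *ᵥ x = _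
  rw [Matrix.add_mulVec, Matrix.one_mulVec, ← Matrix.mulVec_mulVec, ← Matrix.mulVec_mulVec]
  congr 1
  ext i
  simp only [Matrix.mulVec, dotProduct, Fin.sum_univ_two, Matrix.sub_apply, Pi.add_apply,
    Pi.smul_apply, smul_eq_mul, Matrix.one_apply_eq,
    Matrix.one_apply_ne (show (0 : Fin 2) ≠ 1 by decide),
    Matrix.one_apply_ne (show (1 : Fin 2) ≠ 0 by decide), sub_zero]
  ring

end Embed

end CfsgLib.RootGroups.SL2Image
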