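import Mathlib
set_option autoImplicit false

/-!
Steinberg relations for `SL₂` over a finite field: two one-parameter subgroups `x`, `y` of a group
satisfying the Weyl and braid relations receive a homomorphism from `SL₂(F)`.
-/

namespace CfsgLib.RootGroups.Steinberg

open Matrix

variable {F : Type*} [Field F] {Y : Type*} [Group Y]

/-- The Steinberg relations for a pair of one-parameter subgroups. -/
structure Rel (x y : F → Y) : Prop where
  x_add : ∀ s t, x (s + t) = x s * x t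
  y_add : ∀ s t, y (s + t) = y s * y t
  braid : ∀ t, t ≠ 0 → x t * y t⁻¹ * x t = y t⁻¹ * x t * y t⁻¹
  conj_x : ∀ t, t ≠ 0 → ∀ s,
    (x t * y t⁻¹ * x t) * x s * (x t * y t⁻¹ * x t)⁻¹ = y (s / t ^ 2)
  conj_y : ∀ t, t ≠ 0 → ∀ s,
    (x t * y t⁻¹ * x t) * y s * (x t * y t⁻¹ * x t)⁻¹ = x (s * t ^ 2)

/-- The Weyl element attached to `t`. -/
def w (x y : F → Y) (t : F) : Y := x t * y t⁻¹ * x t

/-- The torus element attached to `t`. -/
def tor (x y : F → Y) (t : F) : Y := w x y t * (w x y 1)⁻¹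

variable {x y : F → Y}

theorem Rel.x_zero (r : Rel x y) : x 0 = 1 := by
  have := r.x_add 0 0; rwa [add_zero, left_eq_mul] at this

theorem Rel.y_zero (r : Rel x y) : y 0 = 1 := by
  have := r.y_add 0 0; rwa [add_zero, left_eq_mul] at this

theorem Rel.x_neg (r : Rel x y) (t : F) : x (-t) = (x t)⁻¹ := by
  refine (eq_inv_of_mul_eq_one_left ?_)
  rw [← r.x_add, neg_add_cancel, r.x_zero]

theorem Rel.y_neg (r : Rel x y) (t : F) : y (-t) = (y t)⁻¹ := by
  refine (eq_inv_of_mul_eq_one_left ?_)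
  rw [← r.y_add, neg_add_cancel, r.y_zero]

theorem Rel.w_x (r : Rel x y) {t : F} (ht : t ≠ 0) (s : F) :
    w x y t * x s = y (s / t ^ 2) * w x y t :=
  mul_inv_eq_iff_eq_mul.mp (r.conj_x t ht s)

theorem Rel.w_y (r : Rel x y) {t : F} (ht : t ≠ 0) (s : F) :
    w x y t * y s = x (s * t ^ 2) * w x y t :=
  mul_inv_eq_iff_eq_mul.mp (r.conj_y t ht s)

theorem Rel.w_neg (r : Rel x y) (t : F) : w x y (-t) = (w x y t)⁻¹ := by
  unfold w
  rw [inv_neg, r.x_neg, r.y_neg]; group

theorem Rel.w_w (r : Rel x y) {u t : F} (hu : u ≠ 0) (ht : t ≠ 0) :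
    w x y u * w x y t = w x y (u ^ 2 / t) * w x y u := by
  have h1 : w x y u * w x y t = y (t / u ^ 2) * x (t⁻¹ * u ^ 2) * y (t / u ^ 2) * w x y u := by
    show w x y u * (x t * y t⁻¹ * x t) = _
    rw [← mul_assoc, ← mul_assoc, r.w_x hu, mul_assoc (y (t / u ^ 2)), r.w_y hu, ← mul_assoc,
      mul_assoc (y (t / u ^ 2) * x (t⁻¹ * u ^ 2)), r.w_x hu, ← mul_assoc]
  have hne : u ^ 2 / t ≠ 0 := div_ne_zero (pow_ne_zero 2 hu) ht
  have h2 := r.braid (u ^ 2 / t) hne
  rw [inv_div] at h2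
  rw [h1, inv_mul_eq_div]
  congr 1
  rw [w, inv_div, h2]

theorem Rel.w_one_w (r : Rel x y) {t : F} (ht : t ≠ 0) :
    w x y 1 * w x y t = w x y t⁻¹ * w x y 1 := by
  rw [r.w_w one_ne_zero ht, one_pow, one_div]

theorem Rel.tor_one : tor x y 1 = 1 := mul_inv_cancel _

theorem Rel.tor_x (r : Rel x y) {t : F} (ht : t ≠ 0) (s : F) :
    tor x y t * x s = x (t ^ 2 * s) * tor x y t := by
  have h1 : (w x y 1)⁻¹ * x s = y s * (w x y 1)⁻¹ := by
    rw [← r.w_neg, r.w_x (neg_ne_zero.mpr one_ne_zero), neg_one_sq, div_one]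
  rw [tor, mul_assoc, h1, ← mul_assoc, r.w_y ht, mul_comm s, mul_assoc]

theorem Rel.tor_y (r : Rel x y) {t : F} (ht : t ≠ 0) (s : F) :
    tor x y t * y s = y (s / t ^ 2) * tor x y t := by
  have h1 : (w x y 1)⁻¹ * y s = x s * (w x y 1)⁻¹ := by
    rw [← r.w_neg, r.w_y (neg_ne_zero.mpr one_ne_zero), neg_one_sq, mul_one]
  rw [tor, mul_assoc, h1, ← mul_assoc, r.w_x ht, mul_assoc]

theorem Rel.tor_w (r : Rel x y) {t u : F} (ht : t ≠ 0) (hu : u ≠ 0) :
    tor x y t * w x y u = w x y (t ^ 2 * u) * tor x y t := by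
  have e : u⁻¹ / t ^ 2 = (t ^ 2 * u)⁻¹ := by field_simp
  simp only [w]
  rw [← mul_assoc, ← mul_assoc, r.tor_x ht, mul_assoc (x (t ^ 2 * u)), r.tor_y ht, ← mul_assoc,
    mul_assoc (x (t ^ 2 * u) * y (u⁻¹ / t ^ 2)), r.tor_x ht, e, ← mul_assoc]

/-- The symbol `tor t * tor u * (tor (t * u))⁻¹`. -/
def sym (x y : F → Y) (t u : F) : Y := tor x y t * tor x y u * (tor x y (t * u))⁻¹

theorem Rel.sym_x (r : Rel x y) {t u : F} (ht : t ≠ 0) (hu : u ≠ 0) (s : F) :
    Commute (sym x y t u) (x s) := by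
  have htu : t * u ≠ 0 := mul_ne_zero ht hu
  have h1 : (tor x y (t * u))⁻¹ * x s = x (s / (t * u) ^ 2) * (tor x y (t * u))⁻¹ := by
    rw [inv_mul_eq_iff_eq_mul, ← mul_assoc, r.tor_x htu, mul_div_cancel₀ _ (pow_ne_zero 2 htu),
      mul_inv_cancel_right]
  show sym x y t u * x s = x s * sym x y t u
  have e : t ^ 2 * (u ^ 2 * (s / (t * u) ^ 2)) = s := by field_simp
  simp only [sym]
  rw [mul_assoc, h1, ← mul_assoc, mul_assoc (tor x y t) (tor x y u), r.tor_x hu, ← mul_assoc,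
    r.tor_x ht, e]
  simp only [mul_assoc]

theorem Rel.sym_y (r : Rel x y) {t u : F} (ht : t ≠ 0) (hu : u ≠ 0) (s : F) :
    Commute (sym x y t u) (y s) := by
  have htu : t * u ≠ 0 := mul_ne_zero ht hu
  have h1 : (tor x y (t * u))⁻¹ * y s = y (s * (t * u) ^ 2) * (tor x y (t * u))⁻¹ := by
    rw [inv_mul_eq_iff_eq_mul, ← mul_assoc, r.tor_y htu, mul_div_cancel_right₀ _
      (pow_ne_zero 2 htu), mul_inv_cancel_right]
  show sym x y t u * y s = y s * sym x y t u
  have e : s * (t * u) ^ 2 / u ^ 2 / t ^ 2 = s := by field_simp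
  simp only [sym]
  rw [mul_assoc, h1, ← mul_assoc, mul_assoc (tor x y t) (tor x y u), r.tor_y hu, ← mul_assoc,
    r.tor_y ht, e]
  simp only [mul_assoc]

theorem Rel.sym_tor (r : Rel x y) {t u v : F} (ht : t ≠ 0) (hu : u ≠ 0) :
    Commute (sym x y t u) (tor x y v) := by
  have hw : ∀ a, Commute (sym x y t u) (w x y a) := fun a =>
    ((r.sym_x ht hu a).mul_right (r.sym_y ht hu a⁻¹)).mul_right (r.sym_x ht hu a)
  exact (hw v).mul_right (hw 1).inv_right

theorem Rel.tor_conj (r : Rel x y) {t u : F} (ht : t ≠ 0) (hu : u ≠ 0) :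
    tor x y t * tor x y u = tor x y (t ^ 2 * u) * (tor x y (t ^ 2))⁻¹ * tor x y t := by
  have h2 := r.tor_w ht (one_ne_zero (α := F))
  rw [mul_one] at h2
  calc tor x y t * tor x y u = tor x y t * w x y u * (w x y 1)⁻¹ := by
        show tor x y t * (w x y u * (w x y 1)⁻¹) = _; group
    _ = w x y (t ^ 2 * u) * (tor x y t * (w x y 1)⁻¹) := by rw [r.tor_w ht hu, mul_assoc]
    _ = w x y (t ^ 2 * u) * (w x y (t ^ 2))⁻¹ * tor x y t := by
        rw [mul_assoc (w x y (t ^ 2 * u))]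
        congr 1
        rw [eq_inv_mul_iff_mul_eq, ← mul_assoc, ← h2, mul_inv_cancel_right]
    _ = tor x y (t ^ 2 * u) * (tor x y (t ^ 2))⁻¹ * tor x y t := by
        show _ = w x y (t ^ 2 * u) * (w x y 1)⁻¹ * (w x y (t ^ 2) * (w x y 1)⁻¹)⁻¹ * _
        group

section Finite

variable [Finite F]

theorem Rel.tor_comm (r : Rel x y) {t u : F} (ht : t ≠ 0) (hu : u ≠ 0) :
    Commute (tor x y t) (tor x y u) := by
  obtain ⟨g, hg⟩ := IsCyclic.exists_monoid_generator (α := Fˣ)
  have hg0 : ∀ n : ℕ, (g : F) ^ n ≠ 0 := fun n => pow_ne_zero n g.ne_zero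
  have hone : ∀ n : ℕ, ∀ v : F, (∀ w', w' = (g : F) → Commute (tor x y w') (tor x y v)) →
      Commute (tor x y ((g : F) ^ n)) (tor x y v) := by
    intro n v hv
    induction n with
    | zero => rw [pow_zero, Rel.tor_one]; exact Commute.one_left _
    | succ n ih =>
      have e : tor x y ((g : F) ^ (n + 1))
          = (sym x y ((g : F) ^ n) g)⁻¹ * (tor x y ((g : F) ^ n) * tor x y g) := by
        rw [pow_succ]; simp only [sym]; group
      rw [e]
      exact (r.sym_tor (hg0 n) g.ne_zero).inv_left.mul_left (ih.mul_left (hv _ rfl))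
  have hgen : ∀ {v : F}, v ≠ 0 → ∃ n : ℕ, (g : F) ^ n = v := fun {v} hv => by
    obtain ⟨n, hn⟩ := Submonoid.mem_powers_iff _ _ |>.mp (hg (Units.mk0 v hv))
    exact ⟨n, by simpa using congrArg Units.val hn⟩
  obtain ⟨i, rfl⟩ := hgen ht
  obtain ⟨j, rfl⟩ := hgen hu
  refine hone i _ fun w' hw' => ?_
  rw [hw']
  exact (hone j _ fun w'' hw'' => by rw [hw'']).symm

theorem Rel.tor_sq_mul (r : Rel x y) {t u : F} (ht : t ≠ 0) (hu : u ≠ 0) :
    tor x y (t ^ 2 * u) = tor x y (t ^ 2) * tor x y u := by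
  have h := r.tor_conj ht hu
  rw [(r.tor_comm ht hu).eq] at h
  have h' := mul_right_cancel h
  rw [(r.tor_comm (pow_ne_zero 2 ht) hu).eq, h', inv_mul_cancel_right]

theorem Rel.w_mul_w (r : Rel x y) {t u : F} (ht : t ≠ 0) (hu : u ≠ 0) (h : t + u = 1) :
    w x y t * w x y u = w x y (t / u) * w x y 1 := by
  have hx : ∀ {a : F}, a ≠ 0 → x a = y (-a⁻¹) * w x y a * y (-a⁻¹) := by
    intro a ha
    rw [show w x y a = y a⁻¹ * x a * y a⁻¹ from r.braid a ha, r.y_neg]; group
  have hadd := r.x_add t u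
  rw [h, hx one_ne_zero, hx ht, hx hu, inv_one] at hadd
  -- move the middle term across `w t`
  have hsum : -t⁻¹ + -u⁻¹ = -(1 / (t * u)) := by
    rw [← neg_add, neg_inj]; field_simp; linear_combination h
  have hmid : w x y t * y (-t⁻¹) * y (-u⁻¹) = x (-(t / u)) * w x y t := by
    rw [mul_assoc, ← r.y_add, hsum, r.w_y ht]
    congr 2
    field_simp
  have e1 : y (-1) * w x y 1 * y (-1)
      = y (-t⁻¹) * x (-(t / u)) * w x y t * w x y u * y (-u⁻¹) := by
    rw [hadd, mul_assoc (y (-t⁻¹)) (x (-(t / u))) (w x y t), ← hmid]; group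
  have e2 : x (-(t / u)) * w x y t * w x y u = y (u / t) * w x y 1 * y (t / u) := by
    have e3 : u / t = t⁻¹ + -1 := by field_simp; linear_combination h
    have e4 : t / u = -1 + u⁻¹ := by field_simp; linear_combination h
    have e5 : (x (-(t / u)) * w x y t * w x y u)
        = (y (-t⁻¹))⁻¹ * (y (-1) * w x y 1 * y (-1)) * (y (-u⁻¹))⁻¹ := by rw [e1]; group
    rw [e5, ← r.y_neg, ← r.y_neg, neg_neg, neg_neg]
    nth_rewrite 1 [e3]
    rw [e4, r.y_add, r.y_add]; group
  have e6 : w x y 1 * y (t / u) = x (t / u) * w x y 1 := by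
    rw [r.w_y one_ne_zero, one_pow, mul_one]
  have e7 : y (u / t) = y ((t / u)⁻¹) := by rw [inv_div]
  calc w x y t * w x y u = x (t / u) * (x (-(t / u)) * w x y t * w x y u) := by
        rw [r.x_neg]; group
    _ = x (t / u) * (y (u / t) * (w x y 1 * y (t / u))) := by rw [e2]; group
    _ = w x y (t / u) * w x y 1 := by rw [e6, e7]; simp only [w]; group

theorem Rel.tor_mul (r : Rel x y) {t u : F} (ht : t ≠ 0) (hu : u ≠ 0) :
    tor x y (t * u) = tor x y t * tor x y u := by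
  by_cases hsq : ∀ v : F, IsSquare v
  · obtain ⟨s, rfl⟩ := hsq t
    have hs : s ≠ 0 := fun h0 => ht (by rw [h0, mul_zero])
    rw [← sq]; exact r.tor_sq_mul hs hu
  push Not at hsq
  obtain ⟨g, hg⟩ := hsq
  have hg0 : g ≠ 0 := fun h0 => hg (h0 ▸ IsSquare.zero)
  -- a nonsquare `a` with `1 - a` also a nonsquare
  obtain ⟨a, ha, ha'⟩ : ∃ a : F, ¬ IsSquare a ∧ ¬ IsSquare (1 - a) := by
    by_contra hcon
    push Not at hcon
    have hgs : ∀ s : F, s ≠ 0 → IsSquare s → ¬ IsSquare (g * s) := fun s hs hsq' hgs => by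
      apply hg; simpa [hs] using hgs.div hsq'
    let P := {s : F // s ≠ 0 ∧ IsSquare s}
    let f : P → P := fun s => ⟨1 - g * s.1, fun h0 => hgs s.1 s.2.1 s.2.2
        (sub_eq_zero.mp h0 ▸ IsSquare.one), hcon _ (hgs s.1 s.2.1 s.2.2)⟩
    have hinj : Function.Injective f := fun s s' he => by
      have := congrArg Subtype.val he
      simp only [f, sub_right_inj] at this
      exact Subtype.ext (mul_left_cancel₀ hg0 this)
    obtain ⟨⟨s, hs⟩, he⟩ := Finite.injective_iff_surjective.mp hinj ⟨1, one_ne_zero, IsSquare.one⟩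
    have := congrArg Subtype.val he
    simp only [f, sub_eq_self, mul_eq_zero] at this
    exact this.elim hg0 hs.1
  have ha0 : a ≠ 0 := fun h0 => ha (h0 ▸ IsSquare.zero)
  have ha'0 : 1 - a ≠ 0 := fun h0 => ha' (h0 ▸ IsSquare.zero)
  set b := (1 - a)⁻¹
  have hb0 : b ≠ 0 := inv_ne_zero ha'0
  have hb : ¬ IsSquare b := fun h' => ha' (by simpa [b] using h'.inv)
  have hab : tor x y (a * b) = tor x y a * tor x y b := by
    have h1 := r.w_mul_w ha0 ha'0 (add_sub_cancel a 1)
    have e1 : ∀ v, w x y v = tor x y v * w x y 1 := fun v => by simp [tor]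
    have e2 : w x y 1 * w x y (1 - a) = w x y b * w x y 1 := r.w_one_w ha'0
    rw [e1 a, mul_assoc, e2, ← mul_assoc, e1 b, ← mul_assoc, div_eq_mul_inv] at h1
    rw [e1 (a * (1 - a)⁻¹)] at h1
    exact (mul_right_cancel (mul_right_cancel h1)).symm
  obtain ⟨_, hq⟩ : ∃ _ : Fintype F, ∀ p q : F, ¬ IsSquare p → ¬ IsSquare q → p ≠ 0 → q ≠ 0 →
      IsSquare (p / q) := by
    classical
    have : Fintype F := Fintype.ofFinite F
    refine ⟨this, fun p q hp hq hp0 hq0 => ?_⟩
    by_contra hcon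
    have h1 := (quadraticChar_neg_one_iff_not_isSquare (a := p)).mpr hp
    have h2 := (quadraticChar_neg_one_iff_not_isSquare (a := q)).mpr hq
    have h3 := (quadraticChar_neg_one_iff_not_isSquare (a := p / q)).mpr hcon
    have h4 : quadraticChar F (p / q) * quadraticChar F q = quadraticChar F p := by
      rw [← map_mul, div_mul_cancel₀ p hq0]
    rw [h1, h2, h3] at h4
    norm_num at h4
  by_cases h1 : IsSquare t
  · obtain ⟨s, rfl⟩ := h1
    rw [← sq]; exact r.tor_sq_mul (fun h0 => ht (by rw [h0, mul_zero])) hu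
  by_cases h2 : IsSquare u
  · obtain ⟨s, rfl⟩ := h2
    have hs : s ≠ 0 := fun h0 => hu (by rw [h0, mul_zero])
    rw [mul_comm t, (r.tor_comm ht hu).eq, ← sq]
    exact r.tor_sq_mul hs ht
  obtain ⟨p, hp⟩ := hq t a h1 ha ht ha0
  obtain ⟨q, hq'⟩ := hq u b h2 hb hu hb0
  have et : t = p ^ 2 * a := by rw [sq, ← hp, div_mul_cancel₀ _ ha0]
  have eu : u = q ^ 2 * b := by rw [sq, ← hq', div_mul_cancel₀ _ hb0]
  have hp0 : p ≠ 0 := fun h0 => ht (by rw [et, h0]; ring)
  have hq0 : q ≠ 0 := fun h0 => hu (by rw [eu, h0]; ring)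
  have e3 : p ^ 2 * a * (q ^ 2 * b) = p ^ 2 * (q ^ 2 * (a * b)) := by ring
  rw [et, eu, e3, r.tor_sq_mul hp0 (mul_ne_zero (pow_ne_zero 2 hq0) (mul_ne_zero ha0 hb0)),
    r.tor_sq_mul hq0 (mul_ne_zero ha0 hb0), hab, r.tor_sq_mul hp0 ha0, r.tor_sq_mul hq0 hb0]
  simp only [mul_assoc]
  congr 1
  rw [← mul_assoc, (r.tor_comm (pow_ne_zero 2 hq0) ha0).eq, mul_assoc]

theorem Rel.w_one_tor (r : Rel x y) {t : F} (ht : t ≠ 0) :
    w x y 1 * tor x y t = tor x y t⁻¹ * w x y 1 := by
  rw [tor, ← mul_assoc, r.w_one_w ht, tor]; group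

theorem Rel.w_neg_mul_w (r : Rel x y) {c : F} (hc : c ≠ 0) :
    w x y (-c) * w x y 1 = tor x y c := by
  have e1 : tor x y (-1) * (w x y 1 * w x y 1) = 1 := by
    rw [tor, r.w_neg]; group
  calc w x y (-c) * w x y 1 = tor x y (c * -1) * (w x y 1 * w x y 1) := by
        rw [mul_neg_one, tor]; group
    _ = tor x y c := by rw [r.tor_mul hc (neg_ne_zero.mpr one_ne_zero), mul_assoc, e1, mul_one]

/-! ### The homomorphism -/

/-- The Bruhat normal form map. -/
noncomputable def bruhat (x y : F → Y) (g : SpecialLinearGroup (Fin 2) F) : Y :=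
  letI := Classical.propDecidable
  if g.1 1 0 = 0 then tor x y (g.1 0 0) * x (g.1 0 1 / g.1 0 0)
  else x (g.1 0 0 / g.1 1 0) * w x y (-(g.1 1 0)⁻¹) * x (g.1 1 1 / g.1 1 0)

/-- Upper unitriangular matrix. -/
def upper (t : F) : SpecialLinearGroup (Fin 2) F := ⟨!![1, t; 0, 1], by simp [det_fin_two]⟩

/-- Lower unitriangular matrix, with the sign convention of `Rel`. -/
def lower (t : F) : SpecialLinearGroup (Fin 2) F := ⟨!![1, 0; -t, 1], by simp [det_fin_two]⟩

/-- The standard Weyl matrix. -/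
def weyl : SpecialLinearGroup (Fin 2) F := ⟨!![0, 1; -1, 0], by simp [det_fin_two]⟩

omit [Finite F] in
theorem sl2_val_mul (g h : SpecialLinearGroup (Fin 2) F) : (g * h).1 = g.1 * h.1 := rfl

omit [Finite F] in
theorem sl2_val_inv (g : SpecialLinearGroup (Fin 2) F) : (g⁻¹).1 = g.1.adjugate := rfl

omit [Finite F] in
theorem upper_val (t : F) : (upper t).1 = !![1, t; 0, 1] := rfl

omit [Finite F] in
theorem lower_val (t : F) : (lower t).1 = !![1, 0; -t, 1] := rfl

omit [Finite F] in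
theorem weyl_val : (weyl : SpecialLinearGroup (Fin 2) F).1 = !![0, 1; -1, 0] := rfl

omit [Finite F] in
theorem bruhat_of_zero (g : SpecialLinearGroup (Fin 2) F) (h : g.1 1 0 = 0) :
    bruhat x y g = tor x y (g.1 0 0) * x (g.1 0 1 / g.1 0 0) := if_pos h

omit [Finite F] in
theorem bruhat_of_ne (g : SpecialLinearGroup (Fin 2) F) (h : g.1 1 0 ≠ 0) :
    bruhat x y g = x (g.1 0 0 / g.1 1 0) * w x y (-(g.1 1 0)⁻¹) * x (g.1 1 1 / g.1 1 0) := if_neg h

omit [Finite F] in
theorem sl2_det (g : SpecialLinearGroup (Fin 2) F) : g.1 0 0 * g.1 1 1 - g.1 0 1 * g.1 1 0 = 1 := by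
  have h := g.2; rwa [det_fin_two] at h

omit [Finite F] in
theorem sl2_ext {g g' : SpecialLinearGroup (Fin 2) F} (h00 : g.1 0 0 = g'.1 0 0)
    (h01 : g.1 0 1 = g'.1 0 1) (h10 : g.1 1 0 = g'.1 1 0) (h11 : g.1 1 1 = g'.1 1 1) : g = g' :=
  Subtype.ext (Matrix.ext fun i j => by fin_cases i <;> fin_cases j <;> assumption)

theorem Rel.bruhat_upper_mul (r : Rel x y) (s : F) (g : SpecialLinearGroup (Fin 2) F) :
    bruhat x y (upper s * g) = x s * bruhat x y g := by
  have e00 : (upper s * g).1 0 0 = g.1 0 0 + s * g.1 1 0 := by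
    simp [sl2_val_mul, upper_val, Matrix.mul_apply, Fin.sum_univ_two]
  have e01 : (upper s * g).1 0 1 = g.1 0 1 + s * g.1 1 1 := by
    simp [sl2_val_mul, upper_val, Matrix.mul_apply, Fin.sum_univ_two]
  have e10 : (upper s * g).1 1 0 = g.1 1 0 := by
    simp [sl2_val_mul, upper_val, Matrix.mul_apply, Fin.sum_univ_two]
  have e11 : (upper s * g).1 1 1 = g.1 1 1 := by
    simp [sl2_val_mul, upper_val, Matrix.mul_apply, Fin.sum_univ_two]
  by_cases hc : g.1 1 0 = 0
  · have hdet := sl2_det g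
    rw [hc, mul_zero, sub_zero] at hdet
    have ha : g.1 0 0 ≠ 0 := left_ne_zero_of_mul_eq_one hdet
    rw [bruhat_of_zero _ (e10.trans hc), bruhat_of_zero _ hc, e00, e01, hc, mul_zero, add_zero,
      add_div, r.x_add]
    have hcomm : Commute (x (g.1 0 1 / g.1 0 0)) (x (s * g.1 1 1 / g.1 0 0)) := by
      show _ = _; rw [← r.x_add, ← r.x_add, add_comm]
    rw [hcomm.eq, ← mul_assoc, r.tor_x ha, mul_assoc]
    congr 1
    have : g.1 0 0 ^ 2 * (s * g.1 1 1 / g.1 0 0) = s := by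
      field_simp; linear_combination s * hdet
    rw [this]
  · rw [bruhat_of_ne _ (fun h0 => hc (e10.symm.trans h0)), bruhat_of_ne _ hc, e00, e10, e11,
      add_div, mul_div_cancel_right₀ _ hc, add_comm, r.x_add]
    simp only [mul_assoc]

theorem Rel.bruhat_weyl_mul (r : Rel x y) (g : SpecialLinearGroup (Fin 2) F) :
    bruhat x y (weyl * g) = w x y 1 * bruhat x y g := by
  have e00 : (weyl * g).1 0 0 = g.1 1 0 := by simp [sl2_val_mul, weyl_val, Matrix.mul_apply, Fin.sum_univ_two]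
  have e01 : (weyl * g).1 0 1 = g.1 1 1 := by simp [sl2_val_mul, weyl_val, Matrix.mul_apply, Fin.sum_univ_two]
  have e10 : (weyl * g).1 1 0 = -g.1 0 0 := by simp [sl2_val_mul, weyl_val, Matrix.mul_apply, Fin.sum_univ_two]
  have e11 : (weyl * g).1 1 1 = -g.1 0 1 := by simp [sl2_val_mul, weyl_val, Matrix.mul_apply, Fin.sum_univ_two]
  have hdet := sl2_det g
  have hgam : ∀ {c : F}, c ≠ 0 → w x y 1 * w x y (-c⁻¹) = tor x y c := fun {c} hc => by
    rw [r.w_one_w (neg_ne_zero.mpr (inv_ne_zero hc)), inv_neg, inv_inv, r.w_neg_mul_w hc]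
  by_cases hc : g.1 1 0 = 0
  · have ha : g.1 0 0 ≠ 0 := by
      intro h0; rw [hc, h0] at hdet; simp at hdet
    rw [bruhat_of_ne _ (by rw [e10]; exact neg_ne_zero.mpr ha), bruhat_of_zero _ hc, e00, e10, e11,
      hc, zero_div, r.x_zero, one_mul, inv_neg, neg_neg,
      neg_div_neg_eq, ← mul_assoc, r.w_one_tor ha]
    congr 1
    rw [tor, inv_mul_cancel_right]
  · rw [bruhat_of_ne _ hc]
    by_cases ha : g.1 0 0 = 0
    · rw [bruhat_of_zero _ (by rw [e10, ha, neg_zero]), e00, e01, ha, zero_div, r.x_zero, one_mul,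
        ← mul_assoc, hgam hc]
    · rw [bruhat_of_ne _ (by rw [e10]; exact neg_ne_zero.mpr ha), e00, e10, e11, inv_neg, neg_neg,
        neg_div_neg_eq, div_neg]
      set a := g.1 0 0
      set c := g.1 1 0
      have hp : a / c ≠ 0 := div_ne_zero ha hc
      have hy : y (a / c) = x (-(c / a)) * w x y (c / a) * x (-(c / a)) := by
        rw [r.x_neg, w, inv_div]; group
      have htc : tor x y c⁻¹ * w x y 1 = w x y 1 * tor x y c := (r.w_one_tor hc).symm
      symm
      calc w x y 1 * (x (a / c) * w x y (-c⁻¹) * x (g.1 1 1 / c))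
          = y (a / c) * (w x y 1 * w x y (-c⁻¹)) * x (g.1 1 1 / c) := by
            rw [← mul_assoc, ← mul_assoc, r.w_x one_ne_zero, one_pow, div_one, mul_assoc (y _)]
        _ = x (-(c / a)) * w x y (c / a) * (x (-(c / a)) * tor x y c) * x (g.1 1 1 / c) := by
            rw [hgam hc, hy]; group
        _ = x (-(c / a)) * w x y (c / a) * (tor x y c * x (-(c * a)⁻¹)) * x (g.1 1 1 / c) := by
            rw [r.tor_x hc]
            congr 4
            field_simp
        _ = x (-(c / a)) * (w x y (c / a) * tor x y c) * x (-(c * a)⁻¹ + g.1 1 1 / c) := by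
            rw [r.x_add]; group
        _ = x (-(c / a)) * w x y a⁻¹ * x (g.1 0 1 / a) := by
            congr 1
            · congr 1
              calc w x y (c / a) * tor x y c = tor x y (c / a) * (w x y 1 * tor x y c) := by
                    simp [tor, mul_assoc]
                _ = tor x y (c / a * c⁻¹) * w x y 1 := by
                    rw [← htc, ← mul_assoc, r.tor_mul (div_ne_zero hc ha) (inv_ne_zero hc)]
                _ = w x y a⁻¹ := by
                    rw [show c / a * c⁻¹ = a⁻¹ by field_simp, tor, inv_mul_cancel_right]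
            · congr 1
              field_simp
              linear_combination hdet

/-- The homomorphism `SL₂(F) →* Y`. -/
noncomputable def Rel.hom (r : Rel x y) : SpecialLinearGroup (Fin 2) F →* Y :=
  MonoidHom.mk' (bruhat x y) (by
    let M : Subgroup (SpecialLinearGroup (Fin 2) F) :=
      { carrier := {g | ∀ g', bruhat x y (g * g') = bruhat x y g * bruhat x y g'}
        one_mem' := fun g' => by
          have : bruhat x y (1 : SpecialLinearGroup (Fin 2) F) = 1 := by
            simp [bruhat, Rel.tor_one, r.x_zero]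
          rw [one_mul, this, one_mul]
        mul_mem' := fun {g h} hg hh g' => by
          rw [mul_assoc, hg, hh, ← mul_assoc, ← hg]
        inv_mem' := fun {g} hg g' => by
          have h1 := hg (g⁻¹ * g')
          rw [mul_inv_cancel_left] at h1
          have h2 := hg g⁻¹
          rw [mul_inv_cancel] at h2
          have h3 : bruhat x y (1 : SpecialLinearGroup (Fin 2) F) = 1 := by
            simp [bruhat, Rel.tor_one, r.x_zero]
          rw [h3] at h2
          rw [h1, eq_inv_of_mul_eq_one_right h2.symm, inv_mul_cancel_left] }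
    have hU : ∀ s, upper s ∈ M := fun s g' => by
      have h1 := r.bruhat_upper_mul s 1
      rw [mul_one] at h1
      have h3 : bruhat x y (1 : SpecialLinearGroup (Fin 2) F) = 1 := by
        simp [bruhat, Rel.tor_one, r.x_zero]
      rw [r.bruhat_upper_mul, h1, h3, mul_one]
    have hW : weyl ∈ M := fun g' => by
      have h1 := r.bruhat_weyl_mul 1
      rw [mul_one] at h1
      have h3 : bruhat x y (1 : SpecialLinearGroup (Fin 2) F) = 1 := by
        simp [bruhat, Rel.tor_one, r.x_zero]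
      rw [r.bruhat_weyl_mul, h1, h3, mul_one]
    have hWt : ∀ t : F, t ≠ 0 → upper t * (weyl * upper t⁻¹ * weyl⁻¹) * upper t ∈ M := fun t _ =>
      mul_mem (mul_mem (hU t) (mul_mem (mul_mem hW (hU _)) (inv_mem hW))) (hU t)
    intro g g'
    refine (show g ∈ M from ?_) g'
    have hdet := sl2_det g
    by_cases hc : g.1 1 0 = 0
    · rw [hc, mul_zero, sub_zero] at hdet
      have ha : g.1 0 0 ≠ 0 := left_ne_zero_of_mul_eq_one hdet
      have : g = upper (g.1 0 0) * (weyl * upper (g.1 0 0)⁻¹ * weyl⁻¹) * upper (g.1 0 0) * weyl⁻¹ *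
          upper (g.1 0 1 / g.1 0 0) := by
        apply sl2_ext <;>
          simp [sl2_val_mul, sl2_val_inv, upper_val, weyl_val, Matrix.mul_apply, Fin.sum_univ_two, Matrix.adjugate_fin_two, hc] <;>
          field_simp
        all_goals first
          | linear_combination hdet
          | linear_combination -hdet
          | exact Or.inl (by ring)
          | simp
      rw [this]
      exact mul_mem (mul_mem (hWt _ ha) (inv_mem hW)) (hU _)
    · have ht : -(g.1 1 0)⁻¹ ≠ 0 := neg_ne_zero.mpr (inv_ne_zero hc)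
      have : g = upper (g.1 0 0 / g.1 1 0) * (upper (-(g.1 1 0)⁻¹) *
          (weyl * upper (-(g.1 1 0)⁻¹)⁻¹ * weyl⁻¹) * upper (-(g.1 1 0)⁻¹)) *
          upper (g.1 1 1 / g.1 1 0) := by
        apply sl2_ext <;>
          simp [sl2_val_mul, sl2_val_inv, upper_val, weyl_val, Matrix.mul_apply, Fin.sum_univ_two, Matrix.adjugate_fin_two] <;>
          field_simp
        all_goals first
          | linear_combination -hdet
          | linear_combination hdet
          | ring
      rw [this]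
      exact mul_mem (mul_mem (hU _) (hWt _ ht)) (hU _))

theorem Rel.hom_upper (r : Rel x y) (s : F) : r.hom (upper s) = x s := by
  show bruhat x y (upper s) = x s
  simp [bruhat, upper, Rel.tor_one]

theorem Rel.hom_lower (r : Rel x y) (s : F) : r.hom (lower s) = y s := by
  show bruhat x y (lower s) = y s
  by_cases hs : s = 0
  · simp [bruhat, lower, hs, Rel.tor_one, r.x_zero, r.y_zero]
  · simp [bruhat, lower, hs, w]
    rw [r.x_neg]; group

theorem Rel.hom_range (r : Rel x y) :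
    r.hom.range = Subgroup.closure (Set.range x ∪ Set.range y) := by
  have hmem : ∀ s : F, x s ∈ Subgroup.closure (Set.range x ∪ Set.range y) ∧
      y s ∈ Subgroup.closure (Set.range x ∪ Set.range y) := fun s =>
    ⟨Subgroup.subset_closure (Or.inl ⟨s, rfl⟩), Subgroup.subset_closure (Or.inr ⟨s, rfl⟩)⟩
  have hw : ∀ t, w x y t ∈ Subgroup.closure (Set.range x ∪ Set.range y) := fun t =>
    mul_mem (mul_mem (hmem t).1 (hmem t⁻¹).2) (hmem t).1
  refine le_antisymm ?_ ((Subgroup.closure_le _).mpr ?_)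
  · rintro _ ⟨g, rfl⟩
    show bruhat x y g ∈ _
    unfold bruhat
    split_ifs
    · exact mul_mem (mul_mem (hw _) (inv_mem (hw _))) (hmem _).1
    · exact mul_mem (mul_mem (hmem _).1 (hw _)) (hmem _).1
  · rintro _ (⟨s, rfl⟩ | ⟨s, rfl⟩)
    · exact ⟨upper s, r.hom_upper s⟩
    · exact ⟨lower s, r.hom_lower s⟩

theorem Rel.hom_ker_le (r : Rel x y) (hx : ∀ s, x s = 1 → s = 0)
    (hxy : ∀ s, x s * y 1 = y 1 * x s → s = 0) :
    r.hom.ker ≤ Subgroup.center (SpecialLinearGroup (Fin 2) F) := by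
  intro g hg
  have hg' : bruhat x y g = 1 := hg
  have hdet := sl2_det g
  unfold bruhat at hg'
  split_ifs at hg' with hc
  · rw [hc, mul_zero, sub_zero] at hdet
    have ha : g.1 0 0 ≠ 0 := left_ne_zero_of_mul_eq_one hdet
    have htor : tor x y (g.1 0 0) = x (-(g.1 0 1 / g.1 0 0)) := by
      rw [r.x_neg]; exact eq_inv_of_mul_eq_one_left hg'
    have h1 := r.tor_x ha 1
    rw [htor, ← r.x_add, ← r.x_add] at h1
    have hsq : g.1 0 0 ^ 2 = 1 := by
      have h2 : x (g.1 0 0 ^ 2 - 1) = 1 := by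
        rw [show g.1 0 0 ^ 2 - 1 = g.1 0 0 ^ 2 * 1 + -(g.1 0 1 / g.1 0 0) +
          -(-(g.1 0 1 / g.1 0 0) + 1) by ring, r.x_add, ← h1, ← r.x_add, add_neg_cancel, r.x_zero]
      exact sub_eq_zero.mp (hx _ h2)
    have h3 := r.tor_y ha 1
    rw [htor, hsq, div_one] at h3
    have hb := hxy _ h3
    rw [neg_eq_zero, div_eq_zero_iff] at hb
    have hb0 : g.1 0 1 = 0 := hb.resolve_right ha
    have hd : g.1 1 1 = g.1 0 0 := by
      have : g.1 0 0 * g.1 1 1 = g.1 0 0 * g.1 0 0 := by rw [hdet, ← sq, hsq]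
      exact mul_left_cancel₀ ha this
    rw [Subgroup.mem_center_iff]
    intro h
    apply sl2_ext <;> simp [Matrix.mul_apply, Fin.sum_univ_two, hc, hb0, hd] <;> ring
  · exfalso
    have hw : w x y (-(g.1 1 0)⁻¹) = x (-(g.1 0 0 / g.1 1 0) + -(g.1 1 1 / g.1 1 0)) := by
      rw [r.x_add, r.x_neg, r.x_neg, ← mul_one (x (g.1 0 0 / g.1 1 0))⁻¹, ← hg']; group
    have ht : -(g.1 1 0)⁻¹ ≠ 0 := neg_ne_zero.mpr (inv_ne_zero hc)
    have h1 := r.w_x ht ((-(g.1 1 0)⁻¹) ^ 2)
    rw [hw, div_self (pow_ne_zero 2 ht), ← r.x_add, add_comm, r.x_add] at h1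
    have h2 := mul_right_cancel h1
    have h3 := hxy ((-(g.1 1 0)⁻¹) ^ 2) (by rw [h2])
    exact pow_ne_zero 2 ht h3

end Finite

end CfsgLib.RootGroups.Steinberg
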