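import Cfsg.Agent.Lib.RootGroups.SL2Image
import Cfsg.Agent.Lib.RootGroups.Classes
import Cfsg.Agent.Helper57Transvec
import Cfsg.Agent.Classical.SLGen

/-!
The transvection groups of `SL_n` attached to incident point-hyperplane pairs, and how two of them
interact: they commute, generate an `SL₂`, or their commutator is a third one.
-/

set_option autoImplicit false

namespace CfsgLib.RootGroups.SLRoot

open Matrix CfsgLib.RootGroups CfsgLib.RootGroups.Steinberg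
open scoped commutatorElement

variable {n : ℕ} {F : Type*} [Field F]

/-- The transvection of an incident pair. -/
def tvOf {p f : Fin n → F} (h : f ⬝ᵥ p = 0) (c : F) : SpecialLinearGroup (Fin n) F :=
  ⟨1 + c • vecMulVec p f, by
    rw [← smul_vecMulVec, vecMulVec_eq (ι := Unit), det_one_add_replicateCol_mul_replicateRow,
      dotProduct_smul, h, smul_zero, add_zero]⟩

open Classical in
/-- The transvection with centre `p` and axis `f` (trivial if they are not incident). -/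
noncomputable def tv (p f : Fin n → F) (c : F) : SpecialLinearGroup (Fin n) F :=
  if h : f ⬝ᵥ p = 0 then tvOf h c else 1

theorem slExt {a b : SpecialLinearGroup (Fin n) F}
    (e : a.1 = b.1) : a = b := Subtype.ext e

theorem coe_mul' (a b : SpecialLinearGroup (Fin n) F) : (a * b).1 = a.1 * b.1 := rfl

theorem coe_one' : (1 : SpecialLinearGroup (Fin n) F).1 = 1 := rfl

variable {p q f h : Fin n → F}

theorem tv_val (hpf : f ⬝ᵥ p = 0) (c : F) :
    (tv p f c).1 = 1 + c • vecMulVec p f := by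
  rw [tv, dif_pos hpf]; rfl

theorem tv_mulVec (hpf : f ⬝ᵥ p = 0) (c : F) (x : Fin n → F) :
    (tv p f c).1 *ᵥ x = x + (c * (f ⬝ᵥ x)) • p := by
  rw [tv_val hpf, add_mulVec, one_mulVec, smul_mulVec, vecMulVec_mulVec]
  ext i
  simp [mul_comm, mul_left_comm]

theorem vecMul_tv (hpf : f ⬝ᵥ p = 0) (c : F) (x : Fin n → F) :
    x ᵥ* (tv p f c).1 = x + (c * (x ⬝ᵥ p)) • f := by
  rw [tv_val hpf, vecMul_add, vecMul_one, vecMul_smul, vecMul_vecMulVec, smul_smul]

theorem tv_zero (p f : Fin n → F) : tv p f 0 = 1 := by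
  by_cases hpf : f ⬝ᵥ p = 0
  · exact slExt (by rw [tv_val hpf, zero_smul, add_zero]; rfl)
  · rw [tv, dif_neg hpf]

theorem vm_mul (p f q h : Fin n → F) :
    vecMulVec p f * vecMulVec q h = (f ⬝ᵥ q) • vecMulVec p h := by
  ext i j
  simp only [Matrix.mul_apply, vecMulVec_apply, Matrix.smul_apply, smul_eq_mul, dotProduct,
    Finset.sum_mul]
  exact Finset.sum_congr rfl fun x _ => by ring

theorem tv_mul (hpf : f ⬝ᵥ p = 0) (c d : F) : tv p f c * tv p f d = tv p f (c + d) := by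
  refine slExt ?_
  rw [coe_mul', tv_val hpf, tv_val hpf, tv_val hpf, mul_add, mul_one, add_mul,
    one_mul, smul_mul_smul_comm, vm_mul, hpf, zero_smul, smul_zero, add_zero, add_smul, add_assoc]

theorem tv_inv (p f : Fin n → F) (c : F) : (tv p f c)⁻¹ = tv p f (-c) := by
  by_cases hpf : f ⬝ᵥ p = 0
  · exact inv_eq_of_mul_eq_one_right (by rw [tv_mul hpf, add_neg_cancel, tv_zero])
  · rw [tv, dif_neg hpf, tv, dif_neg hpf, inv_one]

theorem tv_smul_left (p f : Fin n → F) {a : F} (ha : a ≠ 0) (c : F) :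
    tv (a • p) f c = tv p f (c * a) := by
  have hiff : f ⬝ᵥ (a • p) = 0 ↔ f ⬝ᵥ p = 0 := by simp [dotProduct_smul, ha]
  by_cases hpf : f ⬝ᵥ p = 0
  · exact slExt (by rw [tv_val hpf, tv_val (hiff.2 hpf), smul_vecMulVec, smul_smul])
  · rw [tv, dif_neg (mt hiff.1 hpf), tv, dif_neg hpf]

theorem tv_eq_one {c : F} (hpf : f ⬝ᵥ p = 0) (hp : p ≠ 0) (hf : f ≠ 0) (e : tv p f c = 1) :
    c = 0 := by
  obtain ⟨i, hi⟩ := Function.ne_iff.1 hp
  obtain ⟨j, hj⟩ := Function.ne_iff.1 hf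
  have h1 := congrArg (fun g : SpecialLinearGroup (Fin n) F => g.1 i j) e
  simp only [tv_val hpf, coe_one', Matrix.add_apply, Matrix.smul_apply,
    vecMulVec_apply, smul_eq_mul, add_eq_left, mul_eq_zero] at h1
  rcases h1 with h1 | h1 | h1
  exacts [h1, absurd h1 hi, absurd h1 hj]

/-- Conjugates of transvections. -/
theorem conj_tv (g : SpecialLinearGroup (Fin n) F) (hpf : f ⬝ᵥ p = 0) (c : F) :
    g * tv p f c * g⁻¹ = tv (g.1 *ᵥ p) (f ᵥ* (g⁻¹).1) c := by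
  have hinv : (g⁻¹).1 * g.1 = 1 := by
    rw [← coe_mul', inv_mul_cancel, coe_one']
  have hinv' : g.1 * (g⁻¹).1 = 1 := by
    rw [← coe_mul', mul_inv_cancel, coe_one']
  have h0 : (f ᵥ* (g⁻¹).1) ⬝ᵥ (g.1 *ᵥ p) = 0 := by
    rw [dotProduct_mulVec, vecMul_vecMul, hinv, vecMul_one, hpf]
  refine slExt ?_
  rw [coe_mul', coe_mul', tv_val hpf, tv_val h0, mul_add,
    add_mul, mul_one, hinv', mul_smul_comm, smul_mul_assoc, mul_vecMulVec, vecMulVec_mul]

theorem tv_comm (hpf : f ⬝ᵥ p = 0) (hqh : h ⬝ᵥ q = 0) (ha : f ⬝ᵥ q = 0) (hb : h ⬝ᵥ p = 0)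
    (c d : F) : tv p f c * tv q h d = tv q h d * tv p f c := by
  refine slExt ?_
  simp only [coe_mul', tv_val hpf, tv_val hqh, mul_add, add_mul, mul_one, one_mul,
    smul_mul_smul_comm, vm_mul, ha, hb, zero_smul, smul_zero, add_zero]
  abel

/-- The commutator of two transvections with `f ⬝ q = 0`. -/
theorem tv_commutator (hpf : f ⬝ᵥ p = 0) (hqh : h ⬝ᵥ q = 0) (ha : f ⬝ᵥ q = 0) (c d : F) :
    tv p f c * tv q h d * (tv p f c)⁻¹ * (tv q h d)⁻¹ = tv q f (-(c * d * (h ⬝ᵥ p))) := by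
  rw [conj_tv _ hqh, tv_mulVec hpf, ha, mul_zero, zero_smul, add_zero, tv_inv, tv_inv, vecMul_tv hpf]
  have h1 : (h + (-c * (h ⬝ᵥ p)) • f) ⬝ᵥ q = 0 := by
    rw [add_dotProduct, smul_dotProduct, hqh, ha, smul_zero, add_zero]
  refine slExt ?_
  rw [coe_mul', tv_val h1, tv_val hqh, tv_val ha]
  simp only [mul_add, add_mul, mul_one, one_mul, smul_mul_smul_comm, vm_mul, h1, zero_smul,
    smul_zero, add_zero, vecMulVec_add, vecMulVec_smul, smul_add, smul_smul]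
  rw [show d * (-c * (h ⬝ᵥ p)) = -(c * d * (h ⬝ᵥ p)) by ring, neg_smul d]
  simp only [hqh, ha, mul_zero, zero_smul, add_zero]
  abel_nf

variable (p f) in
/-- The transvection group of a pair. -/
noncomputable def tsub : Subgroup (SpecialLinearGroup (Fin n) F) where
  carrier := {g | ∃ c, g = tv p f c}
  mul_mem' := by
    rintro _ _ ⟨c, rfl⟩ ⟨d, rfl⟩
    by_cases hpf : f ⬝ᵥ p = 0
    · exact ⟨c + d, tv_mul hpf c d⟩
    · exact ⟨0, by simp [tv, hpf]⟩
  one_mem' := ⟨0, (tv_zero p f).symm⟩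
  inv_mem' := by rintro _ ⟨c, rfl⟩; exact ⟨-c, tv_inv p f c⟩

theorem tv_mem (c : F) : tv p f c ∈ tsub p f := ⟨c, rfl⟩

theorem tsub_smul {a : F} (ha : a ≠ 0) (p f : Fin n → F) : tsub (a • p) f = tsub p f := by
  ext g
  constructor
  · rintro ⟨c, rfl⟩; exact ⟨c * a, tv_smul_left p f ha c⟩
  · rintro ⟨c, rfl⟩
    exact ⟨c / a, by rw [tv_smul_left p f ha, div_mul_cancel₀ _ ha]⟩

theorem conjBy_tsub (g : SpecialLinearGroup (Fin n) F) (hpf : f ⬝ᵥ p = 0) :
    Cfsg.conjBy (tsub p f) g = tsub (g.1 *ᵥ p) (f ᵥ* (g⁻¹).1) := by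
  ext x
  constructor
  · rintro ⟨_, ⟨c, rfl⟩, rfl⟩
    exact ⟨c, conj_tv g hpf c⟩
  · rintro ⟨c, rfl⟩
    exact ⟨_, tv_mem c, conj_tv g hpf c⟩

theorem tsub_ne_bot (hpf : f ⬝ᵥ p = 0) (hp : p ≠ 0) (hf : f ≠ 0) : tsub p f ≠ ⊥ := fun e =>
  one_ne_zero (tv_eq_one hpf hp hf (Subgroup.mem_bot.1 (e ▸ tv_mem (1 : F))))

/-! ### The three cases for two transvection groups -/

theorem commutator_of_both_zero (hpf : f ⬝ᵥ p = 0) (hqh : h ⬝ᵥ q = 0) (ha : f ⬝ᵥ q = 0)
    (hb : h ⬝ᵥ p = 0) : ⁅tsub p f, tsub q h⁆ = ⊥ := by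
  refine commutator_eq_bot_of_commute ?_
  rintro _ ⟨c, rfl⟩ _ ⟨d, rfl⟩
  exact tv_comm hpf hqh ha hb c d

theorem commutator_eq (hpf : f ⬝ᵥ p = 0) (hqh : h ⬝ᵥ q = 0) (ha : f ⬝ᵥ q = 0) (hb : h ⬝ᵥ p ≠ 0) :
    ⁅tsub p f, tsub q h⁆ = tsub q f := by
  refine le_antisymm (Subgroup.commutator_le.2 ?_) ?_
  · rintro _ ⟨c, rfl⟩ _ ⟨d, rfl⟩
    exact ⟨_, tv_commutator hpf hqh ha c d⟩
  · rintro _ ⟨e, rfl⟩
    have := Subgroup.commutator_mem_commutator (tv_mem (p := p) (f := f) (1 : F))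
      (tv_mem (p := q) (f := h) (-(e / (h ⬝ᵥ p))))
    rw [commutatorElement_def, tv_commutator hpf hqh ha, one_mul, neg_mul, neg_neg,
      div_mul_cancel₀ _ hb] at this
    exact this

theorem rootCase {S : Set (Subgroup (SpecialLinearGroup (Fin n) F))} (hpf : f ⬝ᵥ p = 0)
    (hqh : h ⬝ᵥ q = 0) (ha : f ⬝ᵥ q = 0) (hb : h ⬝ᵥ p ≠ 0) (hmem : tsub q f ∈ S) :
    Cfsg.RootCommutatorCase S (tsub p f) (tsub q h) := by
  rw [Cfsg.RootCommutatorCase, commutator_eq hpf hqh ha hb]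
  refine ⟨hmem, ?_, ?_, ?_⟩
  · intro z hz x hx
    obtain ⟨e, rfl⟩ := hz
    have hle : tsub p f ⊔ tsub q h ≤ Subgroup.centralizer {tv q f e} := by
      refine sup_le ?_ ?_ <;> rintro _ ⟨c, rfl⟩ <;> rw [Subgroup.mem_centralizer_singleton_iff]
      · exact (tv_comm ha hpf hpf ha e c).symm
      · exact (tv_comm ha hqh ha hqh e c).symm
    exact (Subgroup.mem_centralizer_singleton_iff.1 (hle hx)).symm
  · rintro _ ⟨c, rfl⟩ hc1
    have hc : c ≠ 0 := by rintro rfl; exact hc1 (tv_zero p f)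
    refine le_antisymm ((Subgroup.closure_le _).2 ?_) ?_
    · rintro _ ⟨_, ⟨d, rfl⟩, rfl⟩
      exact ⟨_, tv_commutator hpf hqh ha c d⟩
    · rintro _ ⟨e, rfl⟩
      refine Subgroup.subset_closure ⟨tv q h (-(e / (c * (h ⬝ᵥ p)))), tv_mem _, ?_⟩
      show _ * _ * _ * _ = _
      rw [tv_commutator hpf hqh ha]
      congr 1
      field_simp
  · rintro _ ⟨d, rfl⟩ hd1
    have hd : d ≠ 0 := by rintro rfl; exact hd1 (tv_zero q h)
    refine le_antisymm ((Subgroup.closure_le _).2 ?_) ?_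
    · rintro _ ⟨_, ⟨c, rfl⟩, rfl⟩
      exact ⟨_, tv_commutator hpf hqh ha c d⟩
    · rintro _ ⟨e, rfl⟩
      refine Subgroup.subset_closure ⟨tv p f (-(e / (d * (h ⬝ᵥ p)))), tv_mem _, ?_⟩
      show _ * _ * _ * _ = _
      rw [tv_commutator hpf hqh ha]
      congr 1
      field_simp

section Pair

/-- the two centres -/
def colMat (p q : Fin n → F) : Matrix (Fin n) (Fin 2) F := Matrix.of fun i j => ![p i, q i] j

/-- the two axes, in the order giving the dual basis -/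
def rowMat (f h : Fin n → F) : Matrix (Fin 2) (Fin n) F := Matrix.of fun i j => ![h j, f j] i

theorem row_mul_col (hpf : f ⬝ᵥ p = 0) (hqh : h ⬝ᵥ q = 0) (ha : f ⬝ᵥ q = 1) (hb : h ⬝ᵥ p = 1) :
    rowMat f h * colMat p q = 1 := by
  ext i j
  fin_cases i <;> fin_cases j <;>
    simp only [Matrix.mul_apply, rowMat, colMat, Matrix.of_apply] <;>
    simpa [dotProduct] using by assumption

variable (hpf : f ⬝ᵥ p = 0) (hqh : h ⬝ᵥ q = 0) (ha : f ⬝ᵥ q = 1) (hb : h ⬝ᵥ p = 1)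

/-- The `SL₂` of two transvection groups in general position. -/
noncomputable def pairHom : SpecialLinearGroup (Fin 2) F →* SpecialLinearGroup (Fin n) F where
  toFun g := ⟨SL2Image.embedMat (colMat p q) (rowMat f h) (row_mul_col hpf hqh ha hb) g.1, by
    show (1 + colMat p q * (g.1 - 1) * rowMat f h).det = 1
    rw [Matrix.mul_assoc, Matrix.det_one_add_mul_comm, Matrix.mul_assoc, row_mul_col hpf hqh ha hb,
      Matrix.mul_one, add_sub_cancel, g.2]⟩
  map_one' := Subtype.ext (by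
    show SL2Image.embedMat (colMat p q) (rowMat f h) (row_mul_col hpf hqh ha hb) 1 = 1
    rw [map_one])
  map_mul' a b := Subtype.ext (by
    show SL2Image.embedMat (colMat p q) (rowMat f h) (row_mul_col hpf hqh ha hb) (a.1 * b.1) = _
    rw [map_mul]
    rfl)

theorem pairHom_mulVec (g : SpecialLinearGroup (Fin 2) F) (x : Fin n → F) :
    (pairHom hpf hqh ha hb g).1 *ᵥ x =
      x + (((g.1 0 0 - 1) * (h ⬝ᵥ x) + g.1 0 1 * (f ⬝ᵥ x)) • p +
        (g.1 1 0 * (h ⬝ᵥ x) + (g.1 1 1 - 1) * (f ⬝ᵥ x)) • q) :=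
  SL2Image.embedMat_mulVec _ _ (row_mul_col hpf hqh ha hb) g.1 x

theorem pairHom_injective : Function.Injective (pairHom hpf hqh ha hb) := fun a b e =>
  Subtype.ext (SL2Image.embedMat_injective _ _ (row_mul_col hpf hqh ha hb) (congrArg Subtype.val e))

theorem sl_ext_mulVec {a b : SpecialLinearGroup (Fin n) F} (e : ∀ x, a.1 *ᵥ x = b.1 *ᵥ x) : a = b :=
  Subtype.ext (Matrix.toLin'.injective (LinearMap.ext e))

theorem pairHom_upper (t : F) : pairHom hpf hqh ha hb (upper t) = tv p f t := by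
  refine sl_ext_mulVec fun x => ?_
  rw [pairHom_mulVec, tv_mulVec hpf]
  simp [upper_val]

theorem pairHom_lower (t : F) : pairHom hpf hqh ha hb (lower t) = tv q h (-t) := by
  refine sl_ext_mulVec fun x => ?_
  rw [pairHom_mulVec, tv_mulVec hqh]
  simp [lower_val]

include hpf hqh ha hb in
theorem pair_normalised : Cfsg.IsRankOnePair (tsub p f) (tsub q h) ∧
    Cfsg.IsPSL2PairOver F (tsub p f) (tsub q h) := by
  refine SL2Image.rankOne_and_pslPair (pairHom hpf hqh ha hb) ?_ ?_ ?_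
  · rw [(MonoidHom.ker_eq_bot_iff _).2 (pairHom_injective hpf hqh ha hb)]
    exact bot_le
  · ext g
    constructor
    · rintro ⟨a, hm, rfl⟩
      obtain ⟨t, rfl⟩ := Cfsg.Agent.S5016.mem_upper_iff.mp hm
      exact ⟨t, pairHom_upper hpf hqh ha hb t⟩
    · rintro ⟨c, rfl⟩
      exact ⟨upper c, SL2Image.upper_mem _, pairHom_upper hpf hqh ha hb c⟩
  · ext g
    constructor
    · rintro ⟨a, hm, rfl⟩
      obtain ⟨t, rfl⟩ := Cfsg.Agent.S5016.mem_lower_iff.mp hm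
      exact ⟨-t, pairHom_lower hpf hqh ha hb t⟩
    · rintro ⟨c, rfl⟩
      exact ⟨lower (-c), SL2Image.lower_mem _, by rw [pairHom_lower, neg_neg]⟩

end Pair

theorem pair_of_ne (hpf : f ⬝ᵥ p = 0) (hqh : h ⬝ᵥ q = 0) (ha : f ⬝ᵥ q ≠ 0) (hb : h ⬝ᵥ p ≠ 0) :
    Cfsg.IsRankOnePair (tsub p f) (tsub q h) ∧ Cfsg.IsPSL2PairOver F (tsub p f) (tsub q h) := by
  rw [← tsub_smul (inv_ne_zero hb) p f, ← tsub_smul (inv_ne_zero ha) q h]
  refine pair_normalised ?_ ?_ ?_ ?_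
  · rw [dotProduct_smul, hpf, smul_zero]
  · rw [dotProduct_smul, hqh, smul_zero]
  · rw [dotProduct_smul, smul_eq_mul, inv_mul_cancel₀ ha]
  · rw [dotProduct_smul, smul_eq_mul, inv_mul_cancel₀ hb]

/-! ### Standard pairs and transitivity -/

theorem single_dot {i j : Fin n} (hij : i ≠ j) :
    (Pi.single j (1 : F) : Fin n → F) ⬝ᵥ Pi.single i 1 = 0 := by
  simp [Pi.single_eq_of_ne hij]

theorem single_ne (i : Fin n) : (Pi.single i (1 : F) : Fin n → F) ≠ 0 := fun e =>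
  one_ne_zero (α := F) (by simpa using congrFun e i)

theorem tv_single {i j : Fin n} (hij : i ≠ j) (c : F) :
    (tv (Pi.single i (1 : F)) (Pi.single j 1) c).1 = transvection i j c := by
  rw [tv_val (single_dot hij)]
  ext a b
  simp only [Matrix.add_apply, Matrix.smul_apply, vecMulVec_apply, transvection, Pi.single_apply,
    Matrix.single_apply, smul_eq_mul]
  by_cases ha : a = i
  · subst ha
    by_cases hb : b = j
    · subst hb; simp
    · simp [hb, Ne.symm hb]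
  · simp [ha, Ne.symm ha]

theorem exists_sl_map {m : ℕ} {F : Type*} [Field F] {p f : Fin (m + 3) → F} (hpf : f ⬝ᵥ p = 0)
    (hp : p ≠ 0) (hf : f ≠ 0) : ∃ g : SpecialLinearGroup (Fin (m + 3)) F,
      g.1 *ᵥ Pi.single 0 1 = p ∧ Pi.single 1 1 ᵥ* (g⁻¹).1 = f := by
  have h01 : (0 : Fin (m + 3)) ≠ 1 := by simp
  obtain ⟨M, hM1, hM2⟩ := Cfsg.Agent.Transvec57.exists_map
    ⟨((Pi.single 0 1 : Fin (m + 3) → F), (Pi.single 1 1 : Fin (m + 3) → F)), single_ne 0, single_ne 1,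
      single_dot h01⟩ ⟨(p, f), hp, hf, hpf⟩
  have h20 : (0 : Fin (m + 3)) ≠ 2 := by simp [Fin.ext_iff, Nat.mod_eq_of_lt (show 2 < m + 3 by omega)]
  have h21 : (1 : Fin (m + 3)) ≠ 2 := by simp [Fin.ext_iff, Nat.mod_eq_of_lt (show 2 < m + 3 by omega)]
  set δ := (M : Matrix (Fin (m + 3)) (Fin (m + 3)) F).det with hδ
  have hδ0 : δ ≠ 0 := M.det_ne_zero
  let D : Matrix (Fin (m + 3)) (Fin (m + 3)) F := diagonal (Function.update 1 2 δ⁻¹)
  have hdet : ((M : Matrix (Fin (m + 3)) (Fin (m + 3)) F) * D).det = 1 := by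
    rw [det_mul, det_diagonal, Finset.prod_update_of_mem (Finset.mem_univ _)]
    simp [← hδ, hδ0]
  let g : SpecialLinearGroup (Fin (m + 3)) F := ⟨(M : Matrix _ _ F) * D, hdet⟩
  have hgf : f ᵥ* g.1 = Pi.single 1 1 := by
    show f ᵥ* ((M : Matrix (Fin (m + 3)) (Fin (m + 3)) F) * D) = _
    rw [← vecMul_vecMul, hM2]
    ext i
    rw [vecMul_diagonal]
    rcases eq_or_ne i 1 with rfl | hi
    · simp [Function.update_of_ne h21]
    · simp [Pi.single_eq_of_ne hi]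
  refine ⟨g, ?_, ?_⟩
  · show ((M : Matrix (Fin (m + 3)) (Fin (m + 3)) F) * D) *ᵥ _ = p
    rw [← mulVec_mulVec, mulVec_single_one]
    refine Eq.trans (congrArg _ ?_) hM1
    ext i
    rcases eq_or_ne i 0 with rfl | hi
    · simp [D, Function.update_of_ne h20]
    · simp [D, hi]
  · rw [← hgf, vecMul_vecMul, ← coe_mul', mul_inv_cancel, coe_one',
      vecMul_one]

end CfsgLib.RootGroups.SLRoot
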