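import Cfsg.Agent.Lib.RootGroups.SiegelRoot

/-! The graph of opposite singular lines is connected; the statement about Siegel transvection groups. -/

set_option autoImplicit false

namespace CfsgLib.RootGroups.SiegelRoot

open Matrix QuadraticMap CfsgLib.RootGroups CfsgLib.Orth Cfsg

variable {ι : Type} [Fintype ι] [DecidableEq ι] {F : Type*} [Field F]
  {Q : QuadraticForm F (ι → F)} (hQ : Q.polarBilin.Nondegenerate) (hn : 6 ≤ Fintype.card ι)
include hQ hn

theorem exists_anisotropic {p r r' : ι → F} (hr : Q r = 0) (hr' : Q r' = 0) (hc : polar Q r r' ≠ 0) :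
    ∃ x, polar Q p x = 0 ∧ polar Q r x = 0 ∧ polar Q r' x = 0 ∧ Q x ≠ 0 := by
  by_contra! hall
  set U := Submodule.span F (Set.range ![p, r, r'])
  set W := LinearMap.BilinForm.orthogonal Q.polarBilin U
  have hW : ∀ x ∈ W, Q x = 0 := fun x hx => by
    rw [LinearMap.BilinForm.mem_orthogonal_iff] at hx
    exact hall x (hx p (Submodule.subset_span ⟨0, rfl⟩)) (hx r (Submodule.subset_span ⟨1, rfl⟩))
      (hx r' (Submodule.subset_span ⟨2, rfl⟩))
  have hWU : W ≤ U := by
    intro x hx
    rw [← LinearMap.BilinForm.orthogonal_orthogonal hQ (polarBilin_isRefl hQ) U,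
      LinearMap.BilinForm.mem_orthogonal_iff]
    intro y hy
    change polar Q y x = 0
    rw [QuadraticMap.polar, hW x hx, hW y hy, hW _ (W.add_mem hy hx), sub_zero, sub_zero]
  have hU3 : Module.finrank F U ≤ 3 := (finrank_range_le_card _).trans (by simp)
  have hWd : Module.finrank F W = Fintype.card ι - Module.finrank F U := by
    rw [LinearMap.BilinForm.finrank_orthogonal hQ, Module.finrank_fintype_fun_eq_card]
  have heq : W = U := Submodule.eq_of_le_of_finrank_le hWU (by omega)
  have h1 : r + r' ∈ W := heq ▸ add_mem (Submodule.subset_span ⟨1, rfl⟩) (Submodule.subset_span ⟨2, rfl⟩)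
  have h2 := hW _ h1
  rw [QuadraticMap.map_add ⇑Q, hr, hr', zero_add, zero_add] at h2
  exact hc h2

omit hn in
theorem adj_of_matrix {p r s w : ι → F} (h : Line Q p r) (h' : Line Q s w) (hps : polar Q p s = 1)
    (hpw : polar Q p w = 0) (hrw : polar Q r w ≠ 0) :
    FAdj (fam Q) (tsub Q p r) (tsub Q s w) := by
  set w' := (polar Q r w)⁻¹ • w with hw'
  have hm : Line Q s w' := h'.smul_right (inv_ne_zero hrw)
  have hm' : Line Q (s + (-(polar Q r s)) • w') w' := (hm.swap.shear _).swap
  have e : tsub Q (s + (-(polar Q r s)) • w') w' = tsub Q s w := by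
    rw [tsub_swap, tsub_shear, tsub_swap, hw', tsub_smul_right _ _ (inv_ne_zero hrw)]
  have hrw' : polar Q r w' = 1 := by rw [hw', polar_smul_right, smul_eq_mul, inv_mul_cancel₀ hrw]
  have hpw' : polar Q p w' = 0 := by rw [hw', polar_smul_right, hpw, smul_zero]
  have ho : Opp Q p r (s + (-(polar Q r s)) • w') w' :=
    ⟨h, hm', by rw [polar_add_right, polar_smul_right, hps, hpw', smul_zero, add_zero], hpw',
      by rw [polar_add_right, polar_smul_right, hrw', smul_eq_mul]; ring, hrw'⟩
  refine ⟨⟨p, r, h, rfl⟩, ⟨s, w, h', rfl⟩, ?_⟩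
  rw [← e]
  exact pair_of_opp hQ ho

theorem reach_of_meet {p r r' : ι → F} (h : Line Q p r) (h' : Line Q p r') :
    Relation.ReflTransGen (FAdj (fam Q)) (tsub Q p r) (tsub Q p r') := by
  obtain ⟨w₁, hpw₁, hrw₁⟩ := exists_polar_eq_zero_one hQ h.not_mem
  obtain ⟨w₂, hpw₂, hrw₂⟩ := exists_polar_eq_zero_one hQ h'.not_mem
  obtain ⟨w₀, hp0, hr0, hr'0⟩ :
      ∃ w, polar Q p w = 0 ∧ polar Q r w ≠ 0 ∧ polar Q r' w ≠ 0 := by
    by_cases e1 : polar Q r' w₁ = 0
    · by_cases e2 : polar Q r w₂ = 0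
      · exact ⟨w₁ + w₂, by rw [polar_add_right, hpw₁, hpw₂, add_zero],
          by rw [polar_add_right, hrw₁, e2, add_zero]; exact one_ne_zero,
          by rw [polar_add_right, hrw₂, e1, zero_add]; exact one_ne_zero⟩
      · exact ⟨w₂, hpw₂, e2, by rw [hrw₂]; exact one_ne_zero⟩
    · exact ⟨w₁, hpw₁, by rw [hrw₁]; exact one_ne_zero, e1⟩
  obtain ⟨w, hpw, hrw, hr'w, hw⟩ :
      ∃ w, polar Q p w = 0 ∧ polar Q r w ≠ 0 ∧ polar Q r' w ≠ 0 ∧ Q w = 0 := by
    by_cases hc : polar Q r r' = 0
    · refine ⟨w₀ + (-(Q w₀) / polar Q r w₀) • r, ?_, ?_, ?_, ?_⟩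
      · rw [polar_add_right, polar_smul_right, hp0, h.pr, smul_zero, add_zero]
      · rw [polar_add_right, polar_smul_right, h.rr, smul_zero, add_zero]; exact hr0
      · rw [polar_add_right, polar_smul_right, polar_comm (f := ⇑Q) r' r, hc, smul_zero, add_zero]
        exact hr'0
      · rw [QuadraticMap.map_add ⇑Q, QuadraticMap.map_smul, h.qr, smul_zero, polar_smul_right,
          polar_comm (f := ⇑Q) w₀ r, smul_eq_mul, div_mul_cancel₀ _ hr0]
        ring
    · obtain ⟨x, hpx, hrx, hr'x, hx⟩ := exists_anisotropic hQ hn (p := p) h.qr h'.qr hc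
      refine ⟨x + (r + (-(Q x) / polar Q r r') • r'), ?_, ?_, ?_, ?_⟩
      · rw [polar_add_right, polar_add_right, polar_smul_right, hpx, h.pr, h'.pr, smul_zero]
        simp
      · rw [polar_add_right, polar_add_right, polar_smul_right, hrx, h.rr, smul_eq_mul,
          div_mul_cancel₀ _ hc, zero_add, zero_add]
        exact neg_ne_zero.2 hx
      · rw [polar_add_right, polar_add_right, polar_smul_right, hr'x, h'.rr, smul_zero, zero_add,
          add_zero, polar_comm]
        exact hc
      · rw [QuadraticMap.map_add ⇑Q, QuadraticMap.map_add ⇑Q, QuadraticMap.map_smul, h.qr, h'.qr,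
          polar_add_right, polar_smul_right, polar_smul_right, polar_comm (f := ⇑Q) x r,
          polar_comm (f := ⇑Q) x r', hrx, hr'x, smul_zero, smul_eq_mul, div_mul_cancel₀ _ hc]
        ring
  obtain ⟨s₀, hs₀⟩ := exists_polar_eq_one hQ h.ne_left
  set s := s₀ + (-(Q s₀)) • p with hs
  have hps : polar Q p s = 1 := by rw [hs, polar_add_right, polar_smul_right, hs₀, h.pp]; simp
  have hqs : Q s = 0 := by
    rw [hs, QuadraticMap.map_add ⇑Q, QuadraticMap.map_smul, h.qp, polar_smul_right, polar_comm, hs₀]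
    simp
  set w' := w + (-(polar Q s w)) • p with hw'
  have hpw' : polar Q p w' = 0 := by rw [hw', polar_add_right, polar_smul_right, hpw, h.pp]; simp
  have hrw' : polar Q r w' ≠ 0 := by
    rw [hw', polar_add_right, polar_smul_right, h.rp, smul_zero, add_zero]; exact hrw
  have hr'w' : polar Q r' w' ≠ 0 := by
    rw [hw', polar_add_right, polar_smul_right, h'.rp, smul_zero, add_zero]; exact hr'w
  have hm : Line Q s w' := by
    refine ⟨LinearIndependent.pair_iff.2 fun a b hab => ?_, hqs, ?_, ?_⟩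
    · have h1 := congrArg (polar Q p) hab
      have h2 := congrArg (polar Q r) hab
      rw [polar_add_right, polar_smul_right, polar_smul_right, hps, hpw'] at h1
      rw [polar_add_right, polar_smul_right, polar_smul_right] at h2
      simp only [QuadraticMap.polar_zero_right, smul_eq_mul, mul_one, mul_zero, add_zero] at h1
      simp only [QuadraticMap.polar_zero_right, smul_eq_mul, h1, zero_mul, zero_add] at h2
      exact ⟨h1, (mul_eq_zero.1 h2).resolve_right hrw'⟩
    · rw [hw', QuadraticMap.map_add ⇑Q, QuadraticMap.map_smul, hw, h.qp, polar_smul_right,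
        polar_comm (f := ⇑Q) w p, hpw]
      simp
    · rw [hw', polar_add_right, polar_smul_right, polar_comm (f := ⇑Q) s p, hps, smul_eq_mul, mul_one,
        add_neg_cancel]
  have a1 := adj_of_matrix hQ h hm hps hpw' hrw'
  obtain ⟨b1, b2, b3⟩ := adj_of_matrix hQ h' hm hps hpw' hr'w'
  exact (Relation.ReflTransGen.single a1).tail ⟨b2, b1, RankOnePair_symm b3⟩

theorem connected : IsConnectedFamily (FAdj (fam Q)) (fam Q) := by
  rintro _ ⟨p, r, h, rfl⟩ _ ⟨s, w, h', rfl⟩
  obtain ⟨x, y, hxy, he, hpx⟩ : ∃ x y, Line Q x y ∧ tsub Q x y = tsub Q s w ∧ polar Q p x = 0 := by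
    by_cases hs : polar Q p s = 0
    · exact ⟨s, w, h', rfl, hs⟩
    · refine ⟨_, s, (h'.shear (-(polar Q p w) / polar Q p s)).swap, ?_, ?_⟩
      · rw [tsub_swap, tsub_shear]
      · rw [polar_add_right, polar_smul_right, smul_eq_mul, div_mul_cancel₀ _ hs, add_neg_cancel]
  rw [← he]
  by_cases hmem : x ∈ Submodule.span F {p}
  · obtain ⟨a, rfl⟩ := Submodule.mem_span_singleton.1 hmem
    have ha : a ≠ 0 := fun ha => hxy.ne_left (by rw [ha, zero_smul])
    have hm' : Line Q p y := by
      have := (hxy.swap.smul_right (inv_ne_zero ha)).swap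
      rwa [inv_smul_smul₀ ha] at this
    rw [tsub_swap (a • p) y, tsub_smul_right _ _ ha, tsub_swap y p]
    exact reach_of_meet hQ hn h hm'
  · have hk : Line Q p x := line_of_part h hxy hpx hmem
    refine (reach_of_meet hQ hn h hk).trans ?_
    rw [tsub_swap p x]
    exact reach_of_meet hQ hn hk.swap hxy

omit hQ hn

/-- The family of the statement. -/
def famStmt (q : (ι → F) → F) : Set (Subgroup (isometryGroup F q)) :=
  {A | ∃ p r : ι → F, LinearIndependent F ![p, r] ∧ q p = 0 ∧ q r = 0 ∧ q (p + r) = 0 ∧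
    A = Subgroup.closure {σ : isometryGroup F q | ∀ v : ι → F,
      q (v + p) - q v - q p = 0 → q (v + r) - q v - q r = 0 →
        ((σ : Matrix.GeneralLinearGroup ι F) : Matrix ι ι F) *ᵥ v = v}}

theorem famStmt_eq : famStmt (⇑Q) = fam Q := by
  ext A
  constructor
  · rintro ⟨p, r, h1, h2, h3, h4, rfl⟩
    exact ⟨p, r, ⟨h1, h2, h3, by simp [QuadraticMap.polar, h2, h3, h4]⟩, rfl⟩
  · rintro ⟨p, r, h, rfl⟩
    refine ⟨p, r, h.li, h.qp, h.qr, ?_, rfl⟩
    rw [QuadraticMap.map_add ⇑Q, h.qp, h.qr, h.pr]; simp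

theorem main {q : (ι → F) → F} (hQ : Q.polarBilin.Nondegenerate) (hn : 6 ≤ Fintype.card ι)
    (hq : ⇑Q = q) :
    IsKRootSubgroupSet F ((fun A : Subgroup (isometryGroup F q) =>
      A.subgroupOf (⨆ B ∈ famStmt q, B)) '' famStmt q) ∧
      IsConnectedFamily (FAdj (famStmt q)) (famStmt q) := by
  subst hq
  rw [famStmt_eq]
  exact ⟨main_kRoot hQ, connected hQ hn⟩

end CfsgLib.RootGroups.SiegelRoot
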