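import Cfsg.Agent.Lib.Orth.Siegel
import Cfsg.Agent.Lib.RootGroups.SL2Image
import Cfsg.Agent.Lib.RootGroups.RootSets

/-! Singular lines of a quadratic space and their Siegel transvection groups. -/

set_option autoImplicit false

namespace CfsgLib.RootGroups.SiegelRoot

open Matrix QuadraticMap CfsgLib.RootGroups CfsgLib.RootGroups.Steinberg CfsgLib.Orth Cfsg

variable {ι : Type} [Fintype ι] [DecidableEq ι] {F : Type*} [Field F]
  {Q : QuadraticForm F (ι → F)}

/-- A basis of a singular line. -/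
structure Line (Q : QuadraticForm F (ι → F)) (p r : ι → F) : Prop where
  li : LinearIndependent F ![p, r]
  qp : Q p = 0
  qr : Q r = 0
  pr : polar Q p r = 0

theorem Line.pp {p r : ι → F} (h : Line Q p r) : polar Q p p = 0 := by rw [polar_self', h.qp, mul_zero]

theorem Line.rr {p r : ι → F} (h : Line Q p r) : polar Q r r = 0 := by rw [polar_self', h.qr, mul_zero]

theorem Line.rp {p r : ι → F} (h : Line Q p r) : polar Q r p = 0 := by rw [polar_comm, h.pr]

theorem Line.swap {p r : ι → F} (h : Line Q p r) : Line Q r p :=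
  ⟨LinearIndependent.pair_symm_iff.1 h.li, h.qr, h.qp, h.rp⟩

theorem Line.ne_left {p r : ι → F} (h : Line Q p r) : p ≠ 0 := by
  simpa using h.li.ne_zero 0

theorem Line.ne_right {p r : ι → F} (h : Line Q p r) : r ≠ 0 := by
  simpa using h.li.ne_zero 1

theorem Line.not_mem {p r : ι → F} (h : Line Q p r) : r ∉ Submodule.span F {p} := by
  intro hr
  obtain ⟨a, ha⟩ := Submodule.mem_span_singleton.1 hr
  have h1 := (LinearIndependent.pair_iff.1 h.li a (-1) (by rw [ha, neg_smul, one_smul, add_neg_cancel])).2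
  simp at h1

/-- Changing the second basis vector by a multiple of the first. -/
theorem Line.shear {p r : ι → F} (h : Line Q p r) (k : F) : Line Q p (r + k • p) := by
  refine ⟨LinearIndependent.pair_iff.2 fun a b hab => ?_, h.qp, ?_, ?_⟩
  · have h1 := LinearIndependent.pair_iff.1 h.li (a + b * k) b (by
      rw [← hab]; module)
    exact ⟨by simpa [h1.2] using h1.1, h1.2⟩
  · rw [QuadraticMap.map_add ⇑Q, QuadraticMap.map_smul, h.qr, h.qp, polar_smul_right, h.rp]
    simp
  · rw [polar_add_right, polar_smul_right, h.pr, h.pp]; simp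

theorem Line.smul_right {p r : ι → F} (h : Line Q p r) {k : F} (hk : k ≠ 0) : Line Q p (k • r) := by
  refine ⟨LinearIndependent.pair_iff.2 fun a b hab => ?_, h.qp, ?_, ?_⟩
  · have h1 := LinearIndependent.pair_iff.1 h.li a (b * k) (by rw [← hab, smul_smul])
    exact ⟨h1.1, (mul_eq_zero.1 h1.2).resolve_right hk⟩
  · rw [QuadraticMap.map_smul, h.qr, smul_zero]
  · rw [polar_smul_right, h.pr, smul_zero]

/-- The transvection condition of the statement. -/
def tset (Q : QuadraticForm F (ι → F)) (p r : ι → F) : Set (O Q) :=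
  {σ | ∀ v : ι → F, polar Q v p = 0 → polar Q v r = 0 → app σ v = v}

/-- The Siegel transvection group of a line. -/
def tsub (Q : QuadraticForm F (ι → F)) (p r : ι → F) : Subgroup (O Q) :=
  Subgroup.closure (tset Q p r)

theorem tsub_congr {p r p' r' : ι → F}
    (h : ∀ v, (polar Q v p = 0 ∧ polar Q v r = 0) ↔ (polar Q v p' = 0 ∧ polar Q v r' = 0)) :
    tsub Q p r = tsub Q p' r' := by
  refine congrArg Subgroup.closure (Set.ext fun σ => ⟨fun hσ v h1 h2 => ?_, fun hσ v h1 h2 => ?_⟩)
  · exact hσ v ((h v).2 ⟨h1, h2⟩).1 ((h v).2 ⟨h1, h2⟩).2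
  · exact hσ v ((h v).1 ⟨h1, h2⟩).1 ((h v).1 ⟨h1, h2⟩).2

theorem tsub_swap (p r : ι → F) : tsub Q p r = tsub Q r p := tsub_congr fun _ => and_comm

theorem tsub_shear (p r : ι → F) (k : F) : tsub Q p (r + k • p) = tsub Q p r :=
  tsub_congr fun v => by
    simp only [polar_add_right, polar_smul_right]
    constructor <;> rintro ⟨h1, h2⟩ <;> simp_all

theorem tsub_smul_right (p r : ι → F) {k : F} (hk : k ≠ 0) : tsub Q p (k • r) = tsub Q p r :=
  tsub_congr fun v => by simp [polar_smul_right, hk]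

theorem map_tset (g : O Q) {p r : ι → F} {σ : O Q} (hσ : σ ∈ tset Q p r) :
    g * σ * g⁻¹ ∈ tset Q (app g p) (app g r) := by
  intro v h1 h2
  rw [app_mul, app_mul, hσ, app_app_inv]
  · rwa [← polar_app g, app_app_inv]
  · rwa [← polar_app g, app_app_inv]

theorem Line.map {p r : ι → F} (h : Line Q p r) (g : O Q) : Line Q (app g p) (app g r) := by
  refine ⟨LinearIndependent.pair_iff.2 fun a b hab => LinearIndependent.pair_iff.1 h.li a b
    (app_injective g ?_), ?_, ?_, ?_⟩
  · rw [map_add, map_smul, map_smul, hab, map_zero]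
  · rw [Q_app, h.qp]
  · rw [Q_app, h.qr]
  · rw [polar_app, h.pr]

theorem conjBy_tsub (g : O Q) (p r : ι → F) :
    conjBy (tsub Q p r) g = tsub Q (app g p) (app g r) := by
  show (Subgroup.closure (tset Q p r)).map (MulAut.conj g).toMonoidHom = Subgroup.closure _
  rw [MonoidHom.map_closure]
  refine congrArg Subgroup.closure (Set.ext fun σ => ?_)
  constructor
  · rintro ⟨τ, hτ, rfl⟩
    exact map_tset g hτ
  · intro hσ
    refine ⟨g⁻¹ * σ * g, ?_, by show g * (g⁻¹ * σ * g) * g⁻¹ = σ; group⟩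
    simpa [app_inv_app] using map_tset g⁻¹ hσ

/-- `g` is the Siegel transvection with parameter `t` on the basis `p, r`. -/
def IsSv (p r : ι → F) (t : F) (g : O Q) : Prop :=
  ∀ x, app g x = x + t • (polar Q x p • r - polar Q x r • p)

theorem isSv_unique {p r : ι → F} {t : F} {g g' : O Q} (h : IsSv p r t g) (h' : IsSv p r t g') :
    g = g' := ext_app fun x => by rw [h, h']

theorem exists_isSv {p r : ι → F} (h : Line Q p r) (t : F) : ∃ g : O Q, IsSv p r t g := by
  refine ⟨eich Q p (t • r), fun x => ?_⟩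
  rw [app_eich h.qp (by rw [polar_smul_right, h.pr, smul_zero]), QuadraticMap.map_smul, h.qr,
    polar_smul_right]
  simp only [smul_zero, zero_mul, sub_zero, smul_eq_mul]
  module

theorem isSv_add {p r : ι → F} (h : Line Q p r) {t u : F} {g k : O Q} (hg : IsSv p r t g)
    (hk : IsSv p r u k) : IsSv p r (t + u) (g * k) := by
  intro x
  rw [app_mul, hk, hg]
  simp only [polar_add_left, polar_smul_left, polar_sub_left, h.pp, h.rr, h.pr, h.rp, smul_eq_mul,
    mul_zero, sub_zero, add_zero]
  module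

theorem isSv_zero {p r : ι → F} : IsSv p r 0 (1 : O Q) := fun x => by simp

theorem isSv_inv {p r : ι → F} (h : Line Q p r) {t : F} {g : O Q} (hg : IsSv p r t g) :
    IsSv p r (-t) g⁻¹ := by
  obtain ⟨k, hk⟩ := exists_isSv h (-t)
  have h1 := isSv_add h hg hk
  rw [add_neg_cancel] at h1
  rwa [inv_eq_of_mul_eq_one_right (isSv_unique h1 isSv_zero)]

variable (hQ : Q.polarBilin.Nondegenerate)
include hQ

theorem tset_iff {p r : ι → F} (h : Line Q p r) {σ : O Q} :
    σ ∈ tset Q p r ↔ ∃ t, IsSv p r t σ := by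
  constructor
  · intro hσ
    obtain ⟨b, hpb, hrb⟩ := exists_polar_eq_zero_one hQ h.not_mem
    obtain ⟨a, hra, hpa⟩ := exists_polar_eq_zero_one hQ h.swap.not_mem
    have hap : polar Q a p = 1 := by rwa [polar_comm]
    have har : polar Q a r = 0 := by rwa [polar_comm]
    have hbp : polar Q b p = 0 := by rwa [polar_comm]
    have hbr : polar Q b r = 1 := by rwa [polar_comm]
    set A := app σ a - a with hA
    set B := app σ b - b with hB
    have hdec : ∀ x, app σ x = x + (polar Q x p • A + polar Q x r • B) := by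
      intro x
      have h1 := hσ (x - polar Q x p • a - polar Q x r • b)
        (by simp [polar_sub_left, polar_smul_left, hap, hbp])
        (by simp [polar_sub_left, polar_smul_left, har, hbr])
      rw [map_sub, map_sub, map_smul, map_smul] at h1
      have h2 : app σ a = a + A := by rw [hA]; abel
      have h3 : app σ b = b + B := by rw [hB]; abel
      rw [h2, h3] at h1
      linear_combination (norm := module) h1
    have hperp : ∀ v, polar Q v p = 0 → polar Q v r = 0 → ∀ w, polar Q (app σ w - w) v = 0 := by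
      intro v h1 h2 w
      have h3 := polar_app σ w v
      rw [hσ v h1 h2] at h3
      rw [polar_sub_left, h3, sub_self]
    have hline : ∀ w, (app σ w - w) = polar Q a (app σ w - w) • p + polar Q b (app σ w - w) • r := by
      intro w
      rw [← sub_eq_zero]
      refine eq_zero_of_polar hQ fun y => ?_
      have h4 := hperp (y - polar Q y p • a - polar Q y r • b)
        (by simp [polar_sub_left, polar_smul_left, hap, hbp])
        (by simp [polar_sub_left, polar_smul_left, har, hbr]) w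
      rw [polar_sub_right, polar_sub_right, polar_smul_right, polar_smul_right] at h4
      rw [polar_sub_left, polar_add_left, polar_smul_left, polar_smul_left, polar_comm (f := ⇑Q) a,
        polar_comm (f := ⇑Q) b, polar_comm (f := ⇑Q) p y, polar_comm (f := ⇑Q) r y]
      simp only [smul_eq_mul] at h4 ⊢
      linear_combination h4
    obtain ⟨α, β, hAeq⟩ : ∃ α β, A = α • p + β • r := ⟨_, _, hline a⟩
    obtain ⟨γ, ε, hBeq⟩ : ∃ γ ε, B = γ • p + ε • r := ⟨_, _, hline b⟩
    have hσa : app σ a = a + α • p + β • r := by rw [add_assoc, ← hAeq, hA]; abel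
    have hσb : app σ b = b + γ • p + ε • r := by rw [add_assoc, ← hBeq, hB]; abel
    have e1 : α = 0 := by
      have h5 := Q_app σ a
      rw [hσa, QuadraticMap.map_add ⇑Q, QuadraticMap.map_add ⇑Q, QuadraticMap.map_smul,
        QuadraticMap.map_smul, polar_add_left, polar_smul_right, polar_smul_left, polar_smul_right,
        polar_smul_right, h.qp, h.qr, h.pr, hap, har] at h5
      simpa using h5
    have e2 : ε = 0 := by
      have h5 := Q_app σ b
      rw [hσb, QuadraticMap.map_add ⇑Q, QuadraticMap.map_add ⇑Q, QuadraticMap.map_smul,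
        QuadraticMap.map_smul, polar_add_left, polar_smul_right, polar_smul_left, polar_smul_right,
        polar_smul_right, h.qp, h.qr, h.pr, hbp, hbr] at h5
      simpa using h5
    have e3 : γ = -β := by
      have h5 := polar_app σ a b
      rw [hσa, hσb] at h5
      simp [e1, e2, polar_add_left, polar_add_right, polar_smul_left, polar_smul_right, hap,
        polar_comm (f := ⇑Q) r b, hbr, h.rp] at h5
      linear_combination h5
    refine ⟨β, fun x => ?_⟩
    rw [hdec, hAeq, hBeq, e1, e2, e3]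
    module
  · rintro ⟨t, ht⟩ v h1 h2
    simp [ht v, h1, h2]

theorem mem_tsub {p r : ι → F} (h : Line Q p r) {σ : O Q} :
    σ ∈ tsub Q p r ↔ ∃ t, IsSv p r t σ := by
  refine ⟨fun hσ => ?_, fun hσ => Subgroup.subset_closure ((tset_iff hQ h).2 hσ)⟩
  induction hσ using Subgroup.closure_induction with
  | mem g hg => exact (tset_iff hQ h).1 hg
  | one => exact ⟨0, isSv_zero⟩
  | mul g k _ _ ihg ihk =>
    obtain ⟨t, ht⟩ := ihg
    obtain ⟨u, hu⟩ := ihk
    exact ⟨_, isSv_add h ht hu⟩
  | inv g _ ih =>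
    obtain ⟨t, ht⟩ := ih
    exact ⟨_, isSv_inv h ht⟩

theorem tsub_ne_bot {p r : ι → F} (h : Line Q p r) : tsub Q p r ≠ ⊥ := by
  intro hbot
  obtain ⟨g, hg⟩ := exists_isSv h (1 : F)
  have h1 : g = 1 := Subgroup.mem_bot.1 (hbot ▸ (mem_tsub hQ h).2 ⟨_, hg⟩)
  obtain ⟨b, hpb, hrb⟩ := exists_polar_eq_zero_one hQ h.not_mem
  have h2 := hg b
  rw [h1, app_one, polar_comm (f := ⇑Q) b p, polar_comm (f := ⇑Q) b r, hpb, hrb] at h2
  simp only [zero_smul, one_smul, zero_sub, left_eq_add, neg_eq_zero] at h2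
  exact h.ne_left h2

theorem tsub_commutative {p r : ι → F} (h : Line Q p r) {a b : O Q} (ha : a ∈ tsub Q p r)
    (hb : b ∈ tsub Q p r) : a * b = b * a := by
  obtain ⟨t, ht⟩ := (mem_tsub hQ h).1 ha
  obtain ⟨u, hu⟩ := (mem_tsub hQ h).1 hb
  have h1 := isSv_add h ht hu
  have h2 := isSv_add h hu ht
  rw [add_comm] at h2
  exact isSv_unique h1 h2

/-- Lines with a common point give commuting groups. -/
theorem commute_of_meet {p r s : ι → F} (h : Line Q p r) (h' : Line Q p s) {a b : O Q}
    (ha : a ∈ tsub Q p r) (hb : b ∈ tsub Q p s) : a * b = b * a := by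
  obtain ⟨t, ht⟩ := (mem_tsub hQ h).1 ha
  obtain ⟨u, hu⟩ := (mem_tsub hQ h').1 hb
  refine ext_app fun x => ?_
  rw [app_mul, app_mul, hu, ht, ht, hu]
  simp only [polar_add_left, polar_smul_left, polar_sub_left, h.pp, h.pr, h.rp, h'.pr, h'.rp,
    polar_comm (f := ⇑Q) s r, smul_eq_mul, mul_zero, sub_zero, add_zero, zero_sub]
  module

/-- Lines orthogonal to each other give commuting groups. -/
theorem commute_of_perp {p r s w : ι → F} (h : Line Q p r) (h' : Line Q s w)
    (hps : polar Q p s = 0) (hpw : polar Q p w = 0) (hrs : polar Q r s = 0)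
    (hrw : polar Q r w = 0) {a b : O Q} (ha : a ∈ tsub Q p r) (hb : b ∈ tsub Q s w) :
    a * b = b * a := by
  obtain ⟨t, ht⟩ := (mem_tsub hQ h).1 ha
  obtain ⟨u, hu⟩ := (mem_tsub hQ h').1 hb
  refine ext_app fun x => ?_
  rw [app_mul, app_mul, hu, ht, ht, hu]
  simp only [polar_add_left, polar_smul_left, polar_sub_left, polar_comm (f := ⇑Q) s p,
    polar_comm (f := ⇑Q) w p, polar_comm (f := ⇑Q) s r, polar_comm (f := ⇑Q) w r, hps, hpw, hrs, hrw,
    smul_eq_mul, mul_zero, sub_zero, add_zero]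
  module

omit hQ in
/-- The commutator of two partially orthogonal transvections. -/
theorem isSv_commutator {p r w s : ι → F} (h : Line Q p r) (h' : Line Q w s) (hC : Line Q p w)
    (hps : polar Q p s = 0) (hrw : polar Q r w = 0) (hrs : polar Q r s = 1) {t u : F} {a b : O Q}
    (ha : IsSv p r t a) (hb : IsSv w s u b) : IsSv p w (t * u) (a * b * a⁻¹ * b⁻¹) := by
  obtain ⟨c, hc⟩ := exists_isSv hC (t * u)
  have e : a * b = c * (b * a) := by
    refine ext_app fun x => ?_
    rw [app_mul, app_mul, app_mul, ha x, hb x, ha, hb, hc]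
    simp only [polar_add_left, polar_smul_left, polar_sub_left, polar_comm (f := ⇑Q) s p,
      polar_comm (f := ⇑Q) w p, polar_comm (f := ⇑Q) s r, polar_comm (f := ⇑Q) w r, hC.pr, hps, hrw,
      hrs, h.pp, h.rp, h'.pr, h'.pp, h'.rp, smul_eq_mul, mul_zero, mul_one, sub_zero, add_zero,
      zero_sub]
    module
  have : a * b * a⁻¹ * b⁻¹ = c := by rw [e]; group
  rwa [this]

omit hQ in
theorem normalize {p r s : ι → F} (h : Line Q p r) (hs : polar Q p s ≠ 0 ∨ polar Q r s ≠ 0) :
    ∃ p' r', Line Q p' r' ∧ tsub Q p' r' = tsub Q p r ∧ polar Q p' s = 0 ∧ polar Q r' s = 1 := by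
  by_cases hrs : polar Q r s = 0
  · have hps := hs.resolve_right (not_not.2 hrs)
    refine ⟨r, (polar Q p s)⁻¹ • p, h.swap.smul_right (inv_ne_zero hps), ?_, hrs, ?_⟩
    · rw [tsub_smul_right _ _ (inv_ne_zero hps), tsub_swap]
    · rw [polar_smul_left, smul_eq_mul, inv_mul_cancel₀ hps]
  · set r' := (polar Q r s)⁻¹ • r with hr'
    have h1 : Line Q p r' := h.smul_right (inv_ne_zero hrs)
    have h2 : Line Q (p + (-(polar Q p s)) • r') r' := (h1.swap.shear _).swap
    refine ⟨_, _, h2, ?_, ?_, ?_⟩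
    · rw [tsub_swap, tsub_shear, tsub_swap, tsub_smul_right _ _ (inv_ne_zero hrs)]
    · rw [polar_add_left, polar_smul_left, hr', polar_smul_left, smul_eq_mul, smul_eq_mul,
        inv_mul_cancel₀ hrs]
      ring
    · rw [hr', polar_smul_left, smul_eq_mul, inv_mul_cancel₀ hrs]

omit hQ in
/-- Two singular lines are orthogonal, opposite, or orthogonal in exactly one point each. -/
theorem classify {p r s w : ι → F} (h : Line Q p r) (h' : Line Q s w) :
    (polar Q p s = 0 ∧ polar Q p w = 0 ∧ polar Q r s = 0 ∧ polar Q r w = 0) ∨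
    (∃ p' r' s' w', Line Q p' r' ∧ Line Q s' w' ∧ tsub Q p' r' = tsub Q p r ∧
      tsub Q s' w' = tsub Q s w ∧ polar Q p' s' = 1 ∧ polar Q p' w' = 0 ∧ polar Q r' s' = 0 ∧
      polar Q r' w' = 1) ∨
    ∃ p' r' w' s', Line Q p' r' ∧ Line Q w' s' ∧ tsub Q p' r' = tsub Q p r ∧
      tsub Q w' s' = tsub Q s w ∧ polar Q p' s' = 0 ∧ polar Q p' w' = 0 ∧ polar Q r' w' = 0 ∧
      polar Q r' s' = 1 := by
  have key : ∀ s w, Line Q s w → (polar Q p s ≠ 0 ∨ polar Q r s ≠ 0) →
      (∃ p' r' s' w', Line Q p' r' ∧ Line Q s' w' ∧ tsub Q p' r' = tsub Q p r ∧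
        tsub Q s' w' = tsub Q s w ∧ polar Q p' s' = 1 ∧ polar Q p' w' = 0 ∧ polar Q r' s' = 0 ∧
        polar Q r' w' = 1) ∨
      ∃ p' r' w' s', Line Q p' r' ∧ Line Q w' s' ∧ tsub Q p' r' = tsub Q p r ∧
        tsub Q w' s' = tsub Q s w ∧ polar Q p' s' = 0 ∧ polar Q p' w' = 0 ∧ polar Q r' w' = 0 ∧
        polar Q r' s' = 1 := by
    intro s w hm hs
    obtain ⟨p', r', hl, he, hp's, hr's⟩ := normalize h hs
    set w₁ := w + (-(polar Q r' w)) • s with hw₁
    have hm₁ : Line Q s w₁ := hm.shear _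
    have hrw₁ : polar Q r' w₁ = 0 := by
      rw [hw₁, polar_add_right, polar_smul_right, hr's, smul_eq_mul, mul_one, add_neg_cancel]
    have hpw₁ : polar Q p' w₁ = polar Q p' w := by
      rw [hw₁, polar_add_right, polar_smul_right, hp's, smul_zero, add_zero]
    by_cases hz : polar Q p' w = 0
    · exact Or.inr ⟨p', r', w₁, s, hl, hm₁.swap, he, by rw [tsub_swap, tsub_shear],
        hp's, hpw₁.trans hz, hrw₁, hr's⟩
    · refine Or.inl ⟨p', r', (polar Q p' w)⁻¹ • w₁, s, hl, (hm₁.smul_right (inv_ne_zero hz)).swap, he,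
        by rw [tsub_swap, tsub_smul_right _ _ (inv_ne_zero hz), tsub_shear], ?_, hp's, ?_, hr's⟩
      · rw [polar_smul_right, hpw₁, smul_eq_mul, inv_mul_cancel₀ hz]
      · rw [polar_smul_right, hrw₁, smul_zero]
  by_cases hs : polar Q p s ≠ 0 ∨ polar Q r s ≠ 0
  · exact Or.inr (key s w h' hs)
  by_cases hw : polar Q p w ≠ 0 ∨ polar Q r w ≠ 0
  · have := key w s h'.swap hw
    rw [tsub_swap w s] at this
    exact Or.inr this
  push Not at hs hw
  exact Or.inl ⟨hs.1, hw.1, hs.2, hw.2⟩

end CfsgLib.RootGroups.SiegelRoot
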