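import Cfsg.Agent.Lib.RootGroups.SiegelLines
import Cfsg.Agent.Lib.Orth.NegOne

/-! The Siegel transvection groups of the singular lines as a set of root subgroups of their span. -/

set_option autoImplicit false

namespace CfsgLib.RootGroups.SiegelRoot

open Matrix QuadraticMap CfsgLib.RootGroups CfsgLib.RootGroups.Steinberg CfsgLib.Orth Cfsg

variable {ι : Type} [Fintype ι] [DecidableEq ι] {F : Type*} [Field F]
  {Q : QuadraticForm F (ι → F)}

/-- the two columns -/
def colMat (u v : ι → F) : Matrix ι (Fin 2) F := Matrix.of fun i j => ![u i, v i] j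

/-- the coordinate rows: pairing with `a` and `b` -/
def rowMat (Q : QuadraticForm F (ι → F)) (a b : ι → F) : Matrix (Fin 2) ι F :=
  Matrix.of fun i j => ![Cfsg.polarVec (⇑Q) a j, Cfsg.polarVec (⇑Q) b j] i

theorem rowMat_mulVec (a b x : ι → F) : (rowMat Q a b *ᵥ x) 0 = polar Q x a ∧
    (rowMat Q a b *ᵥ x) 1 = polar Q x b := by
  constructor
  · show Cfsg.polarVec (⇑Q) a ⬝ᵥ x = polar Q x a
    rw [CfsgLib.Orth.polarVec_dotProduct, polar_comm]
  · show Cfsg.polarVec (⇑Q) b ⬝ᵥ x = polar Q x b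
    rw [CfsgLib.Orth.polarVec_dotProduct, polar_comm]

theorem row_mul_col_apply (a b u v : ι → F) :
    rowMat Q a b * colMat u v = !![polar Q u a, polar Q v a; polar Q u b, polar Q v b] := by
  ext i j
  have key : (rowMat Q a b * colMat u v) i j = (rowMat Q a b *ᵥ ![u, v] j) i := by
    simp only [Matrix.mul_apply, Matrix.mulVec, dotProduct, colMat, Matrix.of_apply]
    fin_cases j <;> simp
  rw [key]
  fin_cases i <;> fin_cases j <;> simp [(rowMat_mulVec a b _).1, (rowMat_mulVec a b _).2]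

/-- Two opposite singular lines with dual bases. -/
structure Opp (Q : QuadraticForm F (ι → F)) (p r s w : ι → F) : Prop where
  left : Line Q p r
  right : Line Q s w
  ps : polar Q p s = 1
  pw : polar Q p w = 0
  rs : polar Q r s = 0
  rw' : polar Q r w = 1

section Pair

variable {p r s w : ι → F}

theorem Opp.row1 (h : Opp Q p r s w) : rowMat Q w p * colMat r s = 1 := by
  rw [row_mul_col_apply, h.rw', h.right.pr, h.left.rp, polar_comm (f := ⇑Q) s p, h.ps,
    Matrix.one_fin_two]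

theorem Opp.row2 (h : Opp Q p r s w) : rowMat Q (-s) r * colMat (-p) w = 1 := by
  rw [row_mul_col_apply, polar_neg_left, polar_neg_right, h.ps, polar_neg_right,
    polar_neg_left, h.right.rp, h.left.pr, polar_comm (f := ⇑Q) w r, h.rw', Matrix.one_fin_two]
  simp

theorem Opp.row12 (h : Opp Q p r s w) : rowMat Q w p * colMat (-p) w = 0 := by
  rw [row_mul_col_apply, polar_neg_left, polar_neg_left, h.pw, h.right.swap.pp, h.left.pp,
    polar_comm (f := ⇑Q) w p, h.pw]
  ext i j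
  fin_cases i <;> fin_cases j <;> simp

theorem Opp.row21 (h : Opp Q p r s w) : rowMat Q (-s) r * colMat r s = 0 := by
  rw [row_mul_col_apply, polar_neg_right, polar_neg_right, h.rs, h.right.pp, h.left.rr,
    polar_comm (f := ⇑Q) s r, h.rs]
  ext i j
  fin_cases i <;> fin_cases j <;> simp

theorem embed_commute {R : Type*} [CommRing R] {P₁ P₂ : Matrix ι (Fin 2) R}
    {Q₁ Q₂ : Matrix (Fin 2) ι R} (h1 : Q₁ * P₁ = 1) (h2 : Q₂ * P₂ = 1) (h12 : Q₁ * P₂ = 0)
    (h21 : Q₂ * P₁ = 0) (g g' : Matrix (Fin 2) (Fin 2) R) :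
    Commute (SL2Image.embedMat P₁ Q₁ h1 g) (SL2Image.embedMat P₂ Q₂ h2 g') := by
  show (1 + P₁ * (g - 1) * Q₁) * (1 + P₂ * (g' - 1) * Q₂) =
    (1 + P₂ * (g' - 1) * Q₂) * (1 + P₁ * (g - 1) * Q₁)
  have e1 : P₁ * (g - 1) * Q₁ * (P₂ * (g' - 1) * Q₂) = 0 := by
    rw [show P₁ * (g - 1) * Q₁ * (P₂ * (g' - 1) * Q₂) = P₁ * (g - 1) * (Q₁ * P₂) * (g' - 1) * Q₂ by
      simp only [Matrix.mul_assoc], h12]
    simp
  have e2 : P₂ * (g' - 1) * Q₂ * (P₁ * (g - 1) * Q₁) = 0 := by
    rw [show P₂ * (g' - 1) * Q₂ * (P₁ * (g - 1) * Q₁) = P₂ * (g' - 1) * (Q₂ * P₁) * (g - 1) * Q₁ by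
      simp only [Matrix.mul_assoc], h21]
    simp
  rw [Matrix.add_mul, Matrix.add_mul, Matrix.mul_add, Matrix.mul_add, Matrix.mul_add, Matrix.mul_add,
    e1, e2]
  simp only [Matrix.one_mul, Matrix.mul_one, add_zero]
  abel

/-- The double embedding of two by two matrices. -/
def dblMat (h : Opp Q p r s w) : Matrix (Fin 2) (Fin 2) F →* Matrix ι ι F where
  toFun g := SL2Image.embedMat (colMat r s) (rowMat Q w p) h.row1 g *
    SL2Image.embedMat (colMat (-p) w) (rowMat Q (-s) r) h.row2 g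
  map_one' := by rw [map_one, map_one, mul_one]
  map_mul' g g' := by
    rw [map_mul, map_mul]
    exact (embed_commute h.row1 h.row2 h.row12 h.row21 g' g).mul_mul_mul_comm _ _

theorem dblMat_mulVec (h : Opp Q p r s w) (g : Matrix (Fin 2) (Fin 2) F) (x : ι → F) :
    dblMat h g *ᵥ x = x +
      (((g 0 0 - 1) * polar Q x w + g 0 1 * polar Q x p) • r +
        (g 1 0 * polar Q x w + (g 1 1 - 1) * polar Q x p) • s) +
      (((g 0 0 - 1) * polar Q x (-s) + g 0 1 * polar Q x r) • (-p) +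
        (g 1 0 * polar Q x (-s) + (g 1 1 - 1) * polar Q x r) • w) := by
  show (SL2Image.embedMat (colMat r s) (rowMat Q w p) h.row1 g *
    SL2Image.embedMat (colMat (-p) w) (rowMat Q (-s) r) h.row2 g) *ᵥ x = _
  rw [← Matrix.mulVec_mulVec]
  simp only [SL2Image.embedMat_mulVec, (rowMat_mulVec _ _ _).1, (rowMat_mulVec _ _ _).2]
  have e0 : ∀ u v : ι → F, (fun i => colMat u v i 0) = u := fun u v => funext fun i => by simp [colMat]
  have e1 : ∀ u v : ι → F, (fun i => colMat u v i 1) = v := fun u v => funext fun i => by simp [colMat]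
  simp only [e0, e1, polar_add_left, polar_smul_left, polar_neg_left, h.pw, h.left.pp,
    h.right.swap.pp, polar_comm (f := ⇑Q) w p, smul_eq_mul, mul_zero, neg_zero, add_zero]
  abel

theorem dblMat_preserves (h : Opp Q p r s w) (g : SpecialLinearGroup (Fin 2) F) (x : ι → F) :
    Q (dblMat h g.1 *ᵥ x) = Q x := by
  have hdet := sl2_det g
  rw [dblMat_mulVec]
  simp only [QuadraticMap.map_add ⇑Q, QuadraticMap.map_smul, QuadraticMap.map_neg, polar_add_left,
    polar_smul_left, polar_smul_right, polar_add_right, polar_neg_right, polar_neg_left, h.left.qp,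
    h.left.qr, h.right.qp, h.right.qr, h.left.pp, h.left.rr, h.left.pr, h.left.rp, h.right.pp,
    h.right.rr, h.right.pr, h.right.rp, h.ps, h.pw, h.rs, h.rw', polar_comm (f := ⇑Q) s p,
    polar_comm (f := ⇑Q) w p, polar_comm (f := ⇑Q) s r, polar_comm (f := ⇑Q) w r, smul_eq_mul]
  linear_combination (polar Q x w * polar Q x r + polar Q x p * polar Q x s) * hdet

/-- The SL₂ of two opposite lines. -/
def pairHom (h : Opp Q p r s w) : SpecialLinearGroup (Fin 2) F →* O Q where
  toFun g := ⟨⟨dblMat h g.1, dblMat h (g⁻¹).1,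
    by rw [← map_mul, ← sl2_val_mul, mul_inv_cancel]; exact map_one _,
    by rw [← map_mul, ← sl2_val_mul, inv_mul_cancel]; exact map_one _⟩,
    fun x _ => dblMat_preserves h g x⟩
  map_one' := Subtype.ext (Units.ext (map_one (dblMat h)))
  map_mul' a b := Subtype.ext (Units.ext (map_mul (dblMat h) a.1 b.1))

theorem app_pairHom (h : Opp Q p r s w) (g : SpecialLinearGroup (Fin 2) F) (x : ι → F) :
    app (pairHom h g) x = dblMat h g.1 *ᵥ x := rfl

theorem pairHom_injective (h : Opp Q p r s w) : Function.Injective (pairHom h) := by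
  have key : ∀ g : SpecialLinearGroup (Fin 2) F,
      g.1 0 0 = polar Q (app (pairHom h g) r) w ∧ g.1 1 0 = polar Q (app (pairHom h g) r) p ∧
      g.1 0 1 = polar Q (app (pairHom h g) s) w ∧ g.1 1 1 = polar Q (app (pairHom h g) s) p := by
    intro g
    simp only [app_pairHom, dblMat_mulVec, polar_add_left, polar_smul_left, polar_neg_left,
      polar_neg_right, h.left.pp, h.left.rr, h.left.pr, h.left.rp, h.right.pp, h.right.rr, h.right.pr,
      h.right.rp, h.ps, h.pw, h.rs, h.rw', polar_comm (f := ⇑Q) s p, polar_comm (f := ⇑Q) w p,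
      polar_comm (f := ⇑Q) s r, polar_comm (f := ⇑Q) w r, smul_eq_mul]
    refine ⟨?_, ?_, ?_, ?_⟩ <;> ring
  intro a b e
  obtain ⟨a1, a2, a3, a4⟩ := key a
  obtain ⟨b1, b2, b3, b4⟩ := key b
  rw [e] at a1 a2 a3 a4
  exact sl2_ext (a1.trans b1.symm) (a3.trans b3.symm) (a2.trans b2.symm) (a4.trans b4.symm)

theorem pairHom_upper (h : Opp Q p r s w) (t : F) : IsSv p r t (pairHom h (upper t)) := by
  intro x
  rw [app_pairHom, dblMat_mulVec]
  simp only [upper_val, Matrix.of_apply, Matrix.cons_val', Matrix.cons_val_zero, Matrix.cons_val_one,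
    Matrix.empty_val', Matrix.cons_val_fin_one, polar_neg_right, sub_self, zero_mul, zero_add,
    add_zero, zero_smul]
  module

theorem pairHom_lower (h : Opp Q p r s w) (t : F) : IsSv s w t (pairHom h (lower t)) := by
  intro x
  rw [app_pairHom, dblMat_mulVec]
  simp only [lower_val, Matrix.of_apply, Matrix.cons_val', Matrix.cons_val_zero, Matrix.cons_val_one,
    Matrix.empty_val', Matrix.cons_val_fin_one, polar_neg_right, sub_self, zero_mul, zero_add,
    add_zero, zero_smul]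
  module

variable (hQ : Q.polarBilin.Nondegenerate)
include hQ

theorem map_upper (h : Opp Q p r s w) : (upperUnipotentSL2 F).map (pairHom h) = tsub Q p r := by
  ext g
  rw [mem_tsub hQ h.left]
  constructor
  · rintro ⟨a, ha, rfl⟩
    obtain ⟨t, rfl⟩ := Cfsg.Agent.S5016.mem_upper_iff.mp ha
    exact ⟨t, pairHom_upper h t⟩
  · rintro ⟨t, ht⟩
    exact ⟨upper t, SL2Image.upper_mem t, isSv_unique (pairHom_upper h t) ht⟩

theorem map_lower (h : Opp Q p r s w) : (lowerUnipotentSL2 F).map (pairHom h) = tsub Q s w := by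
  ext g
  rw [mem_tsub hQ h.right]
  constructor
  · rintro ⟨a, ha, rfl⟩
    obtain ⟨t, rfl⟩ := Cfsg.Agent.S5016.mem_lower_iff.mp ha
    exact ⟨t, pairHom_lower h t⟩
  · rintro ⟨t, ht⟩
    exact ⟨lower t, SL2Image.lower_mem t, isSv_unique (pairHom_lower h t) ht⟩

theorem pair_of_opp (h : Opp Q p r s w) : IsRankOnePair (tsub Q p r) (tsub Q s w) :=
  (SL2Image.rankOne_and_pslPair (pairHom h)
    (by rw [(MonoidHom.ker_eq_bot_iff _).2 (pairHom_injective h)]; exact bot_le)
    (map_upper hQ h) (map_lower hQ h)).1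

end Pair

/-- The family of Siegel transvection groups. -/
def fam (Q : QuadraticForm F (ι → F)) : Set (Subgroup (O Q)) :=
  {A | ∃ p r : ι → F, Line Q p r ∧ A = tsub Q p r}

/-- The subgroup generated by the family. -/
def span (Q : QuadraticForm F (ι → F)) : Subgroup (O Q) := ⨆ B ∈ fam Q, B

/-- The family inside the subgroup it generates. -/
def famG (Q : QuadraticForm F (ι → F)) : Set (Subgroup (span Q)) :=
  (fun A : Subgroup (O Q) => A.subgroupOf (span Q)) '' fam Q

theorem tsub_le_span {p r : ι → F} (h : Line Q p r) : tsub Q p r ≤ span Q :=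
  le_iSup₂_of_le (tsub Q p r) ⟨p, r, h, rfl⟩ le_rfl

theorem mem_famG {A : Subgroup (span Q)} :
    A ∈ famG Q ↔ ∃ p r, Line Q p r ∧ A = (tsub Q p r).subgroupOf (span Q) := by
  constructor
  · rintro ⟨_, ⟨p, r, h, rfl⟩, rfl⟩
    exact ⟨p, r, h, rfl⟩
  · rintro ⟨p, r, h, rfl⟩
    exact ⟨_, ⟨p, r, h, rfl⟩, rfl⟩

variable (hQ : Q.polarBilin.Nondegenerate)
include hQ

theorem pairG_of_opp {p r s w : ι → F} (h : Opp Q p r s w) :
    IsRankOnePair ((tsub Q p r).subgroupOf (span Q)) ((tsub Q s w).subgroupOf (span Q)) ∧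
      IsPSL2PairOver F ((tsub Q p r).subgroupOf (span Q)) ((tsub Q s w).subgroupOf (span Q)) := by
  have hrange : ∀ g, pairHom h g ∈ span Q := by
    intro g
    have hg : g ∈ upperUnipotentSL2 F ⊔ lowerUnipotentSL2 F := by
      rw [SL2Image.upper_sup_lower]; trivial
    have := Subgroup.mem_map_of_mem (pairHom h) hg
    rw [Subgroup.map_sup, map_upper hQ h, map_lower hQ h] at this
    exact sup_le (tsub_le_span h.left) (tsub_le_span h.right) this
  refine SL2Image.rankOne_and_pslPair ((pairHom h).codRestrict _ hrange) ?_ ?_ ?_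
  · rw [MonoidHom.ker_codRestrict, (MonoidHom.ker_eq_bot_iff _).2 (pairHom_injective h)]
    exact bot_le
  · rw [← map_upper hQ h]
    ext g
    constructor
    · rintro ⟨a, ha, rfl⟩; exact ⟨a, ha, rfl⟩
    · rintro ⟨a, ha, hag⟩; exact ⟨a, ha, Subtype.ext hag⟩
  · rw [← map_lower hQ h]
    ext g
    constructor
    · rintro ⟨a, ha, rfl⟩; exact ⟨a, ha, rfl⟩
    · rintro ⟨a, ha, hag⟩; exact ⟨a, ha, Subtype.ext hag⟩

theorem subgroupOf_ne_bot {p r : ι → F} (h : Line Q p r) :
    (tsub Q p r).subgroupOf (span Q) ≠ ⊥ := by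
  intro hb
  apply tsub_ne_bot hQ h
  rw [← Subgroup.map_subgroupOf_eq_of_le (tsub_le_span h), hb, Subgroup.map_bot]

theorem commG_of_meet {p r s : ι → F} (h : Line Q p r) (h' : Line Q p s) :
    ⁅(tsub Q p r).subgroupOf (span Q), (tsub Q p s).subgroupOf (span Q)⁆ = ⊥ :=
  commutator_eq_bot_of_commute fun _ ha _ hb => Subtype.ext (commute_of_meet hQ h h' ha hb)

theorem commG_of_perp {p r s w : ι → F} (h : Line Q p r) (h' : Line Q s w)
    (hz : polar Q p s = 0 ∧ polar Q p w = 0 ∧ polar Q r s = 0 ∧ polar Q r w = 0) :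
    ⁅(tsub Q p r).subgroupOf (span Q), (tsub Q s w).subgroupOf (span Q)⁆ = ⊥ :=
  commutator_eq_bot_of_commute fun _ ha _ hb =>
    Subtype.ext (commute_of_perp hQ h h' hz.1 hz.2.1 hz.2.2.1 hz.2.2.2 ha hb)

/-- The commutator case. -/
theorem case_of_part {p r w s : ι → F} (h : Line Q p r) (h' : Line Q w s) (hC : Line Q p w)
    (hps : polar Q p s = 0) (hrw : polar Q r w = 0) (hrs : polar Q r s = 1) :
    RootCommutatorCase (famG Q) ((tsub Q p r).subgroupOf (span Q))
      ((tsub Q w s).subgroupOf (span Q)) := by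
  set A := (tsub Q p r).subgroupOf (span Q) with hAdef
  set B := (tsub Q w s).subgroupOf (span Q) with hBdef
  set K := (tsub Q p w).subgroupOf (span Q) with hKdef
  have hcomm : ∀ a : span Q, ∀ b : span Q, ∀ t u, IsSv p r t a.1 → IsSv w s u b.1 →
      IsSv p w (t * u) (a * b * a⁻¹ * b⁻¹).1 :=
    fun a b t u ha hb => isSv_commutator h h' hC hps hrw hrs ha hb
  have hle : ⁅A, B⁆ ≤ K := by
    rw [Subgroup.commutator_le]
    intro a ha b hb
    obtain ⟨t, ht⟩ := (mem_tsub hQ h).1 ha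
    obtain ⟨u, hu⟩ := (mem_tsub hQ h').1 hb
    rw [commutatorElement_def]
    exact (mem_tsub hQ hC).2 ⟨_, hcomm a b t u ht hu⟩
  have hfix : ∀ a ∈ A, a ≠ 1 → K ≤ Subgroup.closure ((fun b => a * b * a⁻¹ * b⁻¹) '' (B : Set _)) := by
    intro a ha ha1 c hc
    obtain ⟨t, ht⟩ := (mem_tsub hQ h).1 ha
    obtain ⟨k, hk⟩ := (mem_tsub hQ hC).1 hc
    have ht0 : t ≠ 0 := by
      rintro rfl
      exact ha1 (Subtype.ext (isSv_unique ht isSv_zero))
    obtain ⟨b, hb⟩ := exists_isSv h' (k / t)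
    have hbm : b ∈ tsub Q w s := (mem_tsub hQ h').2 ⟨_, hb⟩
    refine Subgroup.subset_closure ⟨⟨b, tsub_le_span h' hbm⟩, hbm, Subtype.ext ?_⟩
    have h1 := hcomm a ⟨b, tsub_le_span h' hbm⟩ t _ ht hb
    rw [mul_div_cancel₀ k ht0] at h1
    exact isSv_unique h1 hk
  have hfix' : ∀ b ∈ B, b ≠ 1 → K ≤ Subgroup.closure ((fun a => a * b * a⁻¹ * b⁻¹) '' (A : Set _)) := by
    intro b hb hb1 c hc
    obtain ⟨u, hu⟩ := (mem_tsub hQ h').1 hb
    obtain ⟨k, hk⟩ := (mem_tsub hQ hC).1 hc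
    have hu0 : u ≠ 0 := by
      rintro rfl
      exact hb1 (Subtype.ext (isSv_unique hu isSv_zero))
    obtain ⟨a, ha⟩ := exists_isSv h (k / u)
    have ham : a ∈ tsub Q p r := (mem_tsub hQ h).2 ⟨_, ha⟩
    refine Subgroup.subset_closure ⟨⟨a, tsub_le_span h ham⟩, ham, Subtype.ext ?_⟩
    have h1 := hcomm ⟨a, tsub_le_span h ham⟩ b _ u ha hu
    rw [div_mul_cancel₀ k hu0] at h1
    exact isSv_unique h1 hk
  have hcl : ∀ a ∈ A, Subgroup.closure ((fun b => a * b * a⁻¹ * b⁻¹) '' (B : Set _)) ≤ ⁅A, B⁆ := by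
    intro a ha
    rw [Subgroup.closure_le]
    rintro _ ⟨b, hb, rfl⟩
    exact Subgroup.commutator_mem_commutator ha hb
  have hcl' : ∀ b ∈ B, Subgroup.closure ((fun a => a * b * a⁻¹ * b⁻¹) '' (A : Set _)) ≤ ⁅A, B⁆ := by
    intro b hb
    rw [Subgroup.closure_le]
    rintro _ ⟨a, ha, rfl⟩
    exact Subgroup.commutator_mem_commutator ha hb
  have heq : ⁅A, B⁆ = K := by
    refine le_antisymm hle ?_
    obtain ⟨a, ha, ha1⟩ : ∃ a ∈ A, a ≠ 1 := by
      by_contra! hall
      exact subgroupOf_ne_bot hQ h ((Subgroup.eq_bot_iff_forall A).2 hall)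
    exact (hfix a ha ha1).trans (hcl a ha)
  refine ⟨heq ▸ mem_famG.2 ⟨p, w, hC, rfl⟩, ?_, fun a ha ha1 => ?_, fun b hb hb1 => ?_⟩
  · intro c hc x hx
    rw [heq] at hc
    have hxc : A ⊔ B ≤ Subgroup.centralizer ({c} : Set (span Q)) := by
      refine sup_le (fun a ha => ?_) (fun b hb => ?_) <;> rw [Subgroup.mem_centralizer_singleton_iff]
      · exact Subtype.ext (commute_of_meet hQ h hC ha hc)
      · refine Subtype.ext (commute_of_meet hQ h' hC.swap hb ?_)
        rw [tsub_swap]; exact hc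
    exact (Subgroup.mem_centralizer_singleton_iff.1 (hxc hx)).symm
  · exact le_antisymm (hcl a ha) (heq ▸ hfix a ha ha1)
  · exact le_antisymm (hcl' b hb) (heq ▸ hfix' b hb hb1)

omit hQ in
theorem line_of_part {p r w s : ι → F} (h : Line Q p r) (h' : Line Q w s) (hpw : polar Q p w = 0)
    (hne : w ∉ Submodule.span F {p}) : Line Q p w := by
  refine ⟨LinearIndependent.pair_iff.2 fun a b hab => ?_, h.qp, h'.qp, hpw⟩
  rcases eq_or_ne b 0 with rfl | hb
  · rw [zero_smul, add_zero, smul_eq_zero] at hab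
    exact ⟨hab.resolve_right h.ne_left, rfl⟩
  · refine absurd (Submodule.mem_span_singleton.2 ⟨-(a / b), ?_⟩) hne
    rw [neg_smul, div_eq_inv_mul, ← smul_smul, eq_neg_of_add_eq_zero_left hab, smul_neg, neg_neg,
      smul_smul, inv_mul_cancel₀ hb, one_smul]

theorem trichotomy {p r s w : ι → F} (h : Line Q p r) (h' : Line Q s w) :
    ⁅(tsub Q p r).subgroupOf (span Q), (tsub Q s w).subgroupOf (span Q)⁆ = ⊥ ∨
    (∃ p' r' s' w', Opp Q p' r' s' w' ∧ tsub Q p' r' = tsub Q p r ∧ tsub Q s' w' = tsub Q s w) ∨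
    RootCommutatorCase (famG Q) ((tsub Q p r).subgroupOf (span Q))
      ((tsub Q s w).subgroupOf (span Q)) := by
  rcases classify h h' with hz | ⟨p', r', s', w', hl, hm, e1, e2, h1, h2, h3, h4⟩ |
    ⟨p', r', w', s', hl, hm, e1, e2, h1, h2, h3, h4⟩
  · exact Or.inl (commG_of_perp hQ h h' hz)
  · exact Or.inr (Or.inl ⟨p', r', s', w', ⟨hl, hm, h1, h2, h3, h4⟩, e1, e2⟩)
  · rw [← e1, ← e2]
    by_cases hmem : w' ∈ Submodule.span F {p'}
    · left
      obtain ⟨a, rfl⟩ := Submodule.mem_span_singleton.1 hmem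
      have ha : a ≠ 0 := fun ha => hm.ne_left (by rw [ha, zero_smul])
      have hm' : Line Q p' s' := by
        have := (hm.swap.smul_right (inv_ne_zero ha)).swap
        rwa [inv_smul_smul₀ ha] at this
      rw [tsub_swap (a • p') s', tsub_smul_right _ _ ha, tsub_swap s' p']
      exact commG_of_meet hQ hl hm'
    · exact Or.inr (Or.inr (case_of_part hQ hl hm (line_of_part hl hm h2 hmem) h1 h3 h4))

theorem isRootSubgroupSet : IsRootSubgroupSet (famG Q) := by
  refine ⟨?_, ?_, ?_, ?_, ?_⟩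
  · intro A hA
    obtain ⟨p, r, h, rfl⟩ := mem_famG.1 hA
    refine ⟨⟨?_⟩⟩
    rintro ⟨a, ha⟩ ⟨b, hb⟩
    exact Subtype.ext (Subtype.ext (tsub_commutative hQ h ha hb))
  · intro A hA
    obtain ⟨p, r, h, rfl⟩ := mem_famG.1 hA
    exact subgroupOf_ne_bot hQ h
  · refine Subgroup.map_injective (span Q).subtype_injective ?_
    rw [Subgroup.map_iSup, ← MonoidHom.range_eq_map, Subgroup.range_subtype]
    apply le_antisymm
    · exact iSup_le fun A => by
        rw [Subgroup.map_iSup]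
        exact iSup_le fun _ => Subgroup.map_subtype_le _
    · refine iSup₂_le fun B hB => ?_
      refine le_iSup_of_le (B.subgroupOf (span Q)) ?_
      rw [Subgroup.map_iSup]
      refine le_iSup_of_le ⟨B, hB, rfl⟩ ?_
      exact (Subgroup.map_subgroupOf_eq_of_le (show B ≤ span Q from le_iSup₂_of_le B hB le_rfl)).ge
  · intro A hA g
    obtain ⟨p, r, h, rfl⟩ := mem_famG.1 hA
    refine mem_famG.2 ⟨app g.1 p, app g.1 r, h.map g.1, ?_⟩
    rw [← conjBy_tsub g.1 p r]
    ext x
    rw [mem_conjBy, Subgroup.mem_subgroupOf, Subgroup.mem_subgroupOf, mem_conjBy]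
    rfl
  · intro A hA B hB
    obtain ⟨p, r, h, rfl⟩ := mem_famG.1 hA
    obtain ⟨s, w, h', rfl⟩ := mem_famG.1 hB
    rcases trichotomy hQ h h' with hc | ⟨p', r', s', w', ho, e1, e2⟩ | hc
    · exact Or.inl hc
    · rw [← e1, ← e2]
      exact Or.inr (Or.inl (pairG_of_opp hQ ho).1)
    · exact Or.inr (Or.inr hc)

omit hQ in
theorem not_rankOne_of_case {G : Type*} [Group G] {S : Set (Subgroup G)} (hS : IsRootSubgroupSet S)
    {A B : Subgroup G} (hA : A ∈ S) (hB : B ∈ S) (hcase : RootCommutatorCase S A B) :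
    ¬ IsRankOnePair A B := by
  intro hpair
  obtain ⟨a, ha, ha1⟩ := exists_ne_one_mem (hS.ne_bot A hA)
  obtain ⟨b, hb, hb1, he⟩ := hpair.cond_left a ha ha1
  set a' := b * (a⁻¹ * b * a) * b⁻¹ with ha'
  have hmem : a' ∈ A := by
    have h1 : a⁻¹ * b * a ∈ conjBy B a⁻¹ := mem_conjBy.2 (by simpa [mul_assoc] using hb)
    rw [← he, mem_conjBy, inv_inv] at h1
    exact h1
  set z := a⁻¹ * b * a * b⁻¹ with hz
  have hzK : z ∈ ⁅A, B⁆ := by
    have := Subgroup.commutator_mem_commutator (inv_mem ha) hb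
    rwa [commutatorElement_def, inv_inv] at this
  have hzb := rootCase_commute_right hcase hzK hb
  have ha'eq : a' = z * b := by
    rw [ha', show a⁻¹ * b * a = z * b by rw [hz]; group, show b * (z * b) * b⁻¹ = b * z by group, hzb]
  have h1 : a' = 1 := rootCase_not_centralize hS hcase hmem fun y hy => by
    rw [ha'eq]
    calc z * b * y = z * (y * b) := by rw [mul_assoc, root_comm hS hB hb hy]
      _ = y * z * b := by rw [← mul_assoc, rootCase_commute_right hcase hzK hy]
      _ = y * (z * b) := mul_assoc _ _ _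
  have h2 : a⁻¹ * b * a = 1 := by
    rw [show a⁻¹ * b * a = b⁻¹ * a' * b by rw [ha']; group, h1]
    group
  apply hb1
  rw [show b = a * (a⁻¹ * b * a) * a⁻¹ by group, h2]
  group

theorem main_kRoot : IsKRootSubgroupSet F (famG Q) := by
  refine ⟨isRootSubgroupSet hQ, fun A hA B hB hpair => ?_⟩
  obtain ⟨p, r, h, rfl⟩ := mem_famG.1 hA
  obtain ⟨s, w, h', rfl⟩ := mem_famG.1 hB
  rcases trichotomy hQ h h' with hc | ⟨p', r', s', w', ho, e1, e2⟩ | hc
  · exact absurd hpair (not_rankOne_of_commute hc)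
  · rw [← e1, ← e2]
    exact (pairG_of_opp hQ ho).2
  · exact absurd hpair (not_rankOne_of_case (isRootSubgroupSet hQ) hA hB hc)

end CfsgLib.RootGroups.SiegelRoot
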