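import Mathlib

/-!
`SL₂(k(α))` is generated by the upper unitriangular matrices over `k` and the lower ones over `k α`:
setting, reduction, and the case of an infinite field.
-/

set_option autoImplicit false

namespace CfsgLib.RootGroups.SimpleExt

open Matrix

variable {k F : Type*} [Field k] [Field F] [Algebra k F]

/-- Upper unitriangular matrix. -/
def U (x : F) : SpecialLinearGroup (Fin 2) F := ⟨!![1, x; 0, 1], by simp [det_fin_two]⟩

/-- Lower unitriangular matrix. -/
def L (x : F) : SpecialLinearGroup (Fin 2) F := ⟨!![1, 0; x, 1], by simp [det_fin_two]⟩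

theorem U_val (x : F) : (U x).1 = !![1, x; 0, 1] := rfl

theorem L_val (x : F) : (L x).1 = !![1, 0; x, 1] := rfl

@[simp] theorem U_00 (x : F) : (U x).1 0 0 = 1 := rfl
@[simp] theorem U_01 (x : F) : (U x).1 0 1 = x := rfl
@[simp] theorem U_10 (x : F) : (U x).1 1 0 = 0 := rfl
@[simp] theorem U_11 (x : F) : (U x).1 1 1 = 1 := rfl
@[simp] theorem L_00 (x : F) : (L x).1 0 0 = 1 := rfl
@[simp] theorem L_01 (x : F) : (L x).1 0 1 = 0 := rfl
@[simp] theorem L_10 (x : F) : (L x).1 1 0 = x := rfl
@[simp] theorem L_11 (x : F) : (L x).1 1 1 = 1 := rfl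

theorem mul_00 (g h : SpecialLinearGroup (Fin 2) F) :
    (g * h).1 0 0 = g.1 0 0 * h.1 0 0 + g.1 0 1 * h.1 1 0 :=
  (Matrix.mul_apply).trans (Fin.sum_univ_two _)

theorem mul_01 (g h : SpecialLinearGroup (Fin 2) F) :
    (g * h).1 0 1 = g.1 0 0 * h.1 0 1 + g.1 0 1 * h.1 1 1 :=
  (Matrix.mul_apply).trans (Fin.sum_univ_two _)

theorem mul_10 (g h : SpecialLinearGroup (Fin 2) F) :
    (g * h).1 1 0 = g.1 1 0 * h.1 0 0 + g.1 1 1 * h.1 1 0 :=
  (Matrix.mul_apply).trans (Fin.sum_univ_two _)

theorem mul_11 (g h : SpecialLinearGroup (Fin 2) F) :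
    (g * h).1 1 1 = g.1 1 0 * h.1 0 1 + g.1 1 1 * h.1 1 1 :=
  (Matrix.mul_apply).trans (Fin.sum_univ_two _)

theorem inv_00 (g : SpecialLinearGroup (Fin 2) F) : (g⁻¹).1 0 0 = g.1 1 1 := by
  refine (congrFun (congrFun (adjugate_fin_two g.1) _) _).trans ?_; rfl

theorem inv_01 (g : SpecialLinearGroup (Fin 2) F) : (g⁻¹).1 0 1 = -g.1 0 1 := by
  refine (congrFun (congrFun (adjugate_fin_two g.1) _) _).trans ?_; rfl

theorem inv_10 (g : SpecialLinearGroup (Fin 2) F) : (g⁻¹).1 1 0 = -g.1 1 0 := by
  refine (congrFun (congrFun (adjugate_fin_two g.1) _) _).trans ?_; rfl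

theorem inv_11 (g : SpecialLinearGroup (Fin 2) F) : (g⁻¹).1 1 1 = g.1 0 0 := by
  refine (congrFun (congrFun (adjugate_fin_two g.1) _) _).trans ?_; rfl

theorem sl_ext {g h : SpecialLinearGroup (Fin 2) F} (h00 : g.1 0 0 = h.1 0 0)
    (h01 : g.1 0 1 = h.1 0 1) (h10 : g.1 1 0 = h.1 1 0) (h11 : g.1 1 1 = h.1 1 1) : g = h := by
  refine Subtype.ext (Matrix.ext fun i j => ?_)
  fin_cases i <;> fin_cases j <;> assumption

theorem U_add (x y : F) : U (x + y) = U x * U y := by
  refine sl_ext ?_ ?_ ?_ ?_ <;> simp [mul_00, mul_01, mul_10, mul_11, add_comm]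

theorem U_zero : U (0 : F) = 1 := by
  refine sl_ext ?_ ?_ ?_ ?_ <;> simp

theorem U_neg (x : F) : U (-x) = (U x)⁻¹ :=
  eq_inv_of_mul_eq_one_left (by rw [← U_add, neg_add_cancel, U_zero])

variable (k) in
/-- The group generated by the upper matrices over `k` and the lower ones over `k α`. -/
def gens (α : F) : Subgroup (SpecialLinearGroup (Fin 2) F) :=
  Subgroup.closure ((Set.range fun c : k => U (algebraMap k F c)) ∪
    (Set.range fun c : k => L (algebraMap k F c * α)))

variable {α : F}

theorem U_mem (c : k) : U (algebraMap k F c) ∈ gens k α :=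
  Subgroup.subset_closure (Or.inl ⟨c, rfl⟩)

theorem L_mem (c : k) : L (algebraMap k F c * α) ∈ gens k α :=
  Subgroup.subset_closure (Or.inr ⟨c, rfl⟩)

/-- The underlying map of `scale`. -/
def scaleFun (e : F) (he : e ≠ 0) (g : SpecialLinearGroup (Fin 2) F) :
    SpecialLinearGroup (Fin 2) F :=
  ⟨!![g.1 0 0, e * g.1 0 1; g.1 1 0 / e, g.1 1 1], by
    have := g.2; rw [det_fin_two] at this; rw [det_fin_two_of]; field_simp; linear_combination this⟩

@[simp] theorem scaleFun_00 (e : F) (he : e ≠ 0) (g : SpecialLinearGroup (Fin 2) F) :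
    (scaleFun e he g).1 0 0 = g.1 0 0 := rfl
@[simp] theorem scaleFun_01 (e : F) (he : e ≠ 0) (g : SpecialLinearGroup (Fin 2) F) :
    (scaleFun e he g).1 0 1 = e * g.1 0 1 := rfl
@[simp] theorem scaleFun_10 (e : F) (he : e ≠ 0) (g : SpecialLinearGroup (Fin 2) F) :
    (scaleFun e he g).1 1 0 = g.1 1 0 / e := rfl
@[simp] theorem scaleFun_11 (e : F) (he : e ≠ 0) (g : SpecialLinearGroup (Fin 2) F) :
    (scaleFun e he g).1 1 1 = g.1 1 1 := rfl

/-- The conjugation by `diag (e, 1)`. -/
def scale (e : F) (he : e ≠ 0) :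
    SpecialLinearGroup (Fin 2) F →* SpecialLinearGroup (Fin 2) F :=
  MonoidHom.mk' (scaleFun e he) fun g h => by
    refine sl_ext ?_ ?_ ?_ ?_ <;> simp [mul_00, mul_01, mul_10, mul_11] <;> field_simp

@[simp] theorem scale_apply (e : F) (he : e ≠ 0) (g : SpecialLinearGroup (Fin 2) F) :
    scale e he g = scaleFun e he g := rfl

/-- The underlying map of `flip`. -/
def flipFun (a : F) (ha : a ≠ 0) (g : SpecialLinearGroup (Fin 2) F) :
    SpecialLinearGroup (Fin 2) F :=
  ⟨!![g.1 1 1, g.1 1 0 / a; a * g.1 0 1, g.1 0 0], by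
    have := g.2; rw [det_fin_two] at this; rw [det_fin_two_of]; field_simp; linear_combination this⟩

@[simp] theorem flipFun_00 (a : F) (ha : a ≠ 0) (g : SpecialLinearGroup (Fin 2) F) :
    (flipFun a ha g).1 0 0 = g.1 1 1 := rfl
@[simp] theorem flipFun_01 (a : F) (ha : a ≠ 0) (g : SpecialLinearGroup (Fin 2) F) :
    (flipFun a ha g).1 0 1 = g.1 1 0 / a := rfl
@[simp] theorem flipFun_10 (a : F) (ha : a ≠ 0) (g : SpecialLinearGroup (Fin 2) F) :
    (flipFun a ha g).1 1 0 = a * g.1 0 1 := rfl
@[simp] theorem flipFun_11 (a : F) (ha : a ≠ 0) (g : SpecialLinearGroup (Fin 2) F) :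
    (flipFun a ha g).1 1 1 = g.1 0 0 := rfl

/-- The symmetry exchanging the two families of generators. -/
def flip (a : F) (ha : a ≠ 0) :
    SpecialLinearGroup (Fin 2) F →* SpecialLinearGroup (Fin 2) F :=
  MonoidHom.mk' (flipFun a ha) fun g h => by
    refine sl_ext ?_ ?_ ?_ ?_ <;> simp [mul_00, mul_01, mul_10, mul_11] <;> field_simp <;> ring

@[simp] theorem flip_apply (a : F) (ha : a ≠ 0) (g : SpecialLinearGroup (Fin 2) F) :
    flip a ha g = flipFun a ha g := rfl

theorem scale_mem {c : k} (hc : c ≠ 0) {g : SpecialLinearGroup (Fin 2) F} (hg : g ∈ gens k α) :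
    scale (algebraMap k F c) (by simpa using hc) g ∈ gens k α := by
  have hle : gens k α ≤ (gens k α).comap (scale (algebraMap k F c) (by simpa using hc)) := by
    rw [gens, Subgroup.closure_le]
    rintro _ (⟨d, rfl⟩ | ⟨d, rfl⟩) <;> rw [SetLike.mem_coe, Subgroup.mem_comap]
    · rw [show scale (algebraMap k F c) (by simpa using hc) (U (algebraMap k F d)) =
        U (algebraMap k F (c * d)) by refine sl_ext ?_ ?_ ?_ ?_ <;> simp]
      exact U_mem _
    · rw [show scale (algebraMap k F c) (by simpa using hc) (L (algebraMap k F d * α)) =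
        L (algebraMap k F (d / c) * α) by
          refine sl_ext ?_ ?_ ?_ ?_ <;> simp
          ring]
      exact L_mem _
  exact hle hg

theorem flip_mem (hα : α ≠ 0) {g : SpecialLinearGroup (Fin 2) F} (hg : g ∈ gens k α) :
    flip α hα g ∈ gens k α := by
  have hle : gens k α ≤ (gens k α).comap (flip α hα) := by
    rw [gens, Subgroup.closure_le]
    rintro _ (⟨d, rfl⟩ | ⟨d, rfl⟩) <;> rw [SetLike.mem_coe, Subgroup.mem_comap]
    · rw [show flip α hα (U (algebraMap k F d)) = L (algebraMap k F d * α) by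
        refine sl_ext ?_ ?_ ?_ ?_ <;> simp [mul_comm]]
      exact L_mem _
    · rw [show flip α hα (L (algebraMap k F d * α)) = U (algebraMap k F d) by
        refine sl_ext ?_ ?_ ?_ ?_ <;> simp [hα]]
      exact U_mem _
  exact hle hg

/-- If all upper unitriangular matrices are present then so is everything. -/
theorem gens_eq_top_of_upper (hα : α ≠ 0) (h : ∀ y : F, U y ∈ gens k α) : gens k α = ⊤ := by
  have hL : ∀ y : F, L y ∈ gens k α := fun y => by
    convert flip_mem hα (h (y / α)) using 1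
    refine sl_ext ?_ ?_ ?_ ?_ <;> simp
    field_simp
  have key : ∀ g : SpecialLinearGroup (Fin 2) F, g.1 1 0 ≠ 0 → g ∈ gens k α := by
    intro g hc
    have hd := g.2
    rw [det_fin_two] at hd
    have : g = U ((g.1 0 0 - 1) / g.1 1 0) * L (g.1 1 0) * U ((g.1 1 1 - 1) / g.1 1 0) := by
      refine sl_ext ?_ ?_ ?_ ?_ <;> simp [mul_00, mul_01, mul_10, mul_11] <;>
        field_simp <;> first | ring1 | linear_combination -hd | linear_combination hd
    rw [this]
    exact mul_mem (mul_mem (h _) (hL _)) (h _)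
  refine (Subgroup.eq_top_iff' _).mpr fun g => ?_
  by_cases hc : g.1 1 0 = 0
  · have ha : g.1 0 0 ≠ 0 := fun e => by
      have := g.2; rw [det_fin_two, hc, e] at this; simp at this
    have h1 : (L 1 * g).1 1 0 ≠ 0 := by simp [mul_10, hc, ha]
    exact (Subgroup.mul_mem_cancel_left _ (hL 1)).mp (key _ h1)
  · exact key g hc

/-! ### The translations in the group -/

variable (k) in
/-- The `k`-space of `y` with `U y` in the group. -/
def radical (α : F) : Submodule k F where
  carrier := {y | U y ∈ gens k α}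
  add_mem' {x y} hx hy := by
    show U (x + y) ∈ gens k α
    rw [U_add]; exact mul_mem hx hy
  zero_mem' := by show U (0 : F) ∈ gens k α; rw [U_zero]; exact one_mem _
  smul_mem' c y hy := by
    show U (c • y) ∈ gens k α
    by_cases hc : c = 0
    · rw [hc, zero_smul, U_zero]; exact one_mem _
    · convert scale_mem hc hy using 1
      refine sl_ext ?_ ?_ ?_ ?_ <;> simp [Algebra.smul_def]

theorem one_mem_radical : (1 : F) ∈ radical k α := by
  have := U_mem (k := k) (α := α) 1
  rwa [map_one] at this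

/-! ### Generic functionals on `k(α)` -/

/-- The Hankel matrix of a functional. -/
def hankel (φ : F →ₗ[k] k) (α : F) (j s : ℕ) : Matrix (Fin j) (Fin j) k :=
  fun a b => φ (α ^ ((a : ℕ) + (b : ℕ) + s))

theorem hankel_add (φ ψ : F →ₗ[k] k) (e : k) (α : F) (j s : ℕ) :
    hankel (φ + e • ψ) α j s = hankel φ α j s + e • hankel ψ α j s := by
  ext a b; simp [hankel]

theorem det_line {n : ℕ} (A B : Matrix (Fin n) (Fin n) k) (e₀ : k) (h : (A + e₀ • B).det ≠ 0) :
    Set.Finite {e : k | (A + e • B).det = 0} := by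
  let P : Polynomial k :=
    (A.map (Polynomial.C : k →+* Polynomial k) + (Polynomial.X : Polynomial k) •
      B.map (Polynomial.C : k →+* Polynomial k)).det
  have hev : ∀ e, P.eval e = (A + e • B).det := fun e => by
    show (Polynomial.evalRingHom e) P = _
    rw [RingHom.map_det]
    congr 1
    ext i j
    simp
    ring
  have hP : P ≠ 0 := fun h0 => h (by rw [← hev, h0, Polynomial.eval_zero])
  exact (P.finite_setOfPred_isRoot hP).subset fun e he => by
    show P.eval e = 0
    rw [hev]; exact he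

theorem exists_common [Infinite k] {T : Type*} (cond : T → ℕ × ℕ) (α : F) (s : Finset T)
    (h : ∀ t ∈ s, ∃ φ : F →ₗ[k] k, (hankel φ α (cond t).1 (cond t).2).det ≠ 0) :
    ∃ φ : F →ₗ[k] k, ∀ t ∈ s, (hankel φ α (cond t).1 (cond t).2).det ≠ 0 := by
  classical
  induction s using Finset.induction_on with
  | empty => exact ⟨0, by simp⟩
  | @insert t s ht ih =>
    obtain ⟨φ, hφ⟩ := ih fun u hu => h u (Finset.mem_insert_of_mem hu)
    obtain ⟨ψ, hψ⟩ := h t (Finset.mem_insert_self t s)
    have hfin : ∀ u ∈ insert t s, Set.Finite {e : k |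
        (hankel φ α (cond u).1 (cond u).2 + e • hankel (ψ - φ) α (cond u).1 (cond u).2).det = 0} := by
      intro u hu
      rcases Finset.mem_insert.mp hu with rfl | hu
      · refine det_line _ _ 1 ?_
        rwa [← hankel_add, one_smul, add_sub_cancel]
      · refine det_line _ _ 0 ?_
        rw [zero_smul, add_zero]; exact hφ u hu
    obtain ⟨e, he⟩ := (((insert t s).finite_toSet.biUnion hfin).infinite_compl).nonempty
    refine ⟨φ + e • (ψ - φ), fun u hu => ?_⟩
    rw [hankel_add]
    intro h0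
    exact he (Set.mem_biUnion hu h0)

/-- The span of the first `j` powers. -/
def low (k : Type*) [Field k] {F : Type*} [Field F] [Algebra k F] (α : F) (j : ℕ) : Submodule k F :=
  Submodule.span k ((fun i : ℕ => α ^ i) '' Set.Iio j)

theorem pow_mem_low {j i : ℕ} (h : i < j) : α ^ i ∈ low k α j :=
  Submodule.subset_span ⟨i, h, rfl⟩

theorem low_mono {i j : ℕ} (h : i ≤ j) : low k α i ≤ low k α j :=
  Submodule.span_mono (Set.image_mono (Set.Iio_subset_Iio h))

theorem mul_low {j : ℕ} {v : F} (hv : v ∈ low k α j) : α * v ∈ low k α (j + 1) := by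
  have : (low k α j).map (LinearMap.mulLeft k α) ≤ low k α (j + 1) := by
    rw [low, Submodule.map_span, Submodule.span_le]
    rintro _ ⟨_, ⟨i, hi, rfl⟩, rfl⟩
    simp only [LinearMap.mulLeft_apply, SetLike.mem_coe, ← pow_succ']
    exact pow_mem_low (Nat.succ_lt_succ hi)
  exact this ⟨v, hv, rfl⟩

theorem mem_low_iff {j : ℕ} {v : F} :
    v ∈ low k α j ↔ ∃ c : Fin j → k, ∑ i, c i • α ^ (i : ℕ) = v := by
  have : (fun i : ℕ => α ^ i) '' Set.Iio j = Set.range fun i : Fin j => α ^ (i : ℕ) := by
    ext x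
    exact ⟨fun ⟨i, hi, e⟩ => ⟨⟨i, hi⟩, e⟩, fun ⟨i, e⟩ => ⟨i, i.2, e⟩⟩
  rw [low, this, Submodule.mem_span_range_iff_exists_fun]

theorem eq_zero_of_orth {φ : F →ₗ[k] k} {j s : ℕ} (h : (hankel φ α j s).det ≠ 0) {v : F}
    (hv : v ∈ low k α j) (ho : ∀ a < j, φ (v * α ^ (a + s)) = 0) : v = 0 := by
  obtain ⟨c, rfl⟩ := mem_low_iff.mp hv
  have : hankel φ α j s *ᵥ c = 0 := by
    ext a
    have := ho a a.2
    rw [Finset.sum_mul, map_sum] at this
    rw [Pi.zero_apply, ← this]
    simp only [Matrix.mulVec, dotProduct, hankel]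
    refine Finset.sum_congr rfl fun b _ => ?_
    rw [smul_mul_assoc, map_smul, smul_eq_mul, ← pow_add, mul_comm]
    congr 2
    congr 1
    omega
  have hc : c = 0 := eq_zero_of_mulVec_eq_zero h this
  simp [hc]

variable (pb : PowerBasis k F)

theorem low_top : low k pb.gen pb.dim = ⊤ := by
  rw [eq_top_iff, ← pb.basis.span_eq, Submodule.span_le]
  rintro _ ⟨i, rfl⟩
  rw [pb.basis_eq_pow]
  exact pow_mem_low i.2

theorem independent_low {j : ℕ} (hj : j < pb.dim) : pb.gen ^ j ∉ low k pb.gen j := by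
  intro h
  have hle : low k pb.gen j ≤ LinearMap.ker (pb.basis.coord ⟨j, hj⟩) := by
    rw [low, Submodule.span_le]
    rintro _ ⟨i, hi, rfl⟩
    show pb.gen ^ i ∈ LinearMap.ker _
    rw [LinearMap.mem_ker,
      ← pb.basis_eq_pow ⟨i, lt_trans hi hj⟩, Module.Basis.coord_apply, Module.Basis.repr_self,
      Finsupp.single_eq_of_ne]
    intro e
    exact (ne_of_lt hi) (Fin.mk.inj_iff.mp e.symm)
  have := hle h
  rw [LinearMap.mem_ker, ← pb.basis_eq_pow ⟨j, hj⟩, Module.Basis.coord_apply,
    Module.Basis.repr_self, Finsupp.single_eq_same] at this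
  exact one_ne_zero this

theorem exists_hankel (hα : pb.gen ≠ 0) {j s : ℕ} (hj1 : 1 ≤ j) (hj : j ≤ pb.dim) (hs : s ≤ 1) :
    ∃ φ : F →ₗ[k] k, (hankel φ pb.gen j s).det ≠ 0 := by
  classical
  have hs' : j - 1 + s < pb.dim ∨ j = pb.dim := by omega
  rcases hs' with h | rfl
  · refine ⟨pb.basis.coord ⟨j - 1 + s, h⟩, fun h0 => ?_⟩
    obtain ⟨v, hv, hmul⟩ := exists_mulVec_eq_zero_iff.mpr h0
    let S := Finset.univ.filter fun b => v b ≠ 0
    have hS : S.Nonempty := by
      obtain ⟨b, hb⟩ := Function.ne_iff.mp hv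
      exact ⟨b, by simp only [S, Finset.mem_filter, Finset.mem_univ, true_and]; exact hb⟩
    set b₁ := S.max' hS
    have hb₁ : v b₁ ≠ 0 := (Finset.mem_filter.mp (Finset.max'_mem S hS)).2
    have hrow := congrFun hmul ⟨j - 1 - b₁, by omega⟩
    rw [Pi.zero_apply] at hrow
    simp only [Matrix.mulVec, dotProduct] at hrow
    rw [Finset.sum_eq_single b₁] at hrow
    · simp only [hankel] at hrow
      have e : j - 1 - (b₁ : ℕ) + b₁ + s = j - 1 + s := by omega
      rw [e, ← pb.basis_eq_pow ⟨j - 1 + s, h⟩, Module.Basis.coord_apply, Module.Basis.repr_self,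
        Finsupp.single_eq_same, one_mul] at hrow
      exact hb₁ hrow
    · intro b _ hne
      by_cases hvb : v b = 0
      · rw [hvb, mul_zero]
      have hbS : b ∈ S := by simp only [S, Finset.mem_filter, Finset.mem_univ, true_and]; exact hvb
      have hlt : (b : ℕ) < b₁ :=
        lt_of_le_of_ne (Finset.le_max' S b hbS) fun e => hne (Fin.ext e)
      simp only [hankel]
      have hidx : j - 1 - (b₁ : ℕ) + b + s < pb.dim := by omega
      rw [← pb.basis_eq_pow ⟨_, hidx⟩, Module.Basis.coord_apply, Module.Basis.repr_self,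
        Finsupp.single_eq_of_ne, zero_mul]
      intro e
      have := Fin.mk.inj_iff.mp e.symm
      omega
    · exact fun h => absurd (Finset.mem_univ _) h
  · refine ⟨pb.basis.coord ⟨0, by omega⟩, fun h0 => ?_⟩
    set φ := pb.basis.coord (⟨0, by omega⟩ : Fin pb.dim)
    obtain ⟨v, hv, hmul⟩ := exists_mulVec_eq_zero_iff.mpr h0
    set c := ∑ b, v b • pb.gen ^ (b : ℕ) with hc
    have hc0 : c ≠ 0 := by
      intro h
      apply hv
      funext b
      refine Fintype.linearIndependent_iff.mp pb.basis.linearIndependent v ?_ b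
      rw [← h, hc]
      exact Finset.sum_congr rfl fun i _ => by rw [pb.basis_eq_pow]
    have hz : ∀ y : F, φ (pb.gen ^ s * c * y) = 0 := by
      have hle : low k pb.gen pb.dim ≤
          LinearMap.ker (φ.comp (LinearMap.mulLeft k (pb.gen ^ s * c))) := by
        rw [low, Submodule.span_le]
        rintro _ ⟨a, ha, rfl⟩
        rw [SetLike.mem_coe, LinearMap.mem_ker, LinearMap.comp_apply, LinearMap.mulLeft_apply]
        have hrow := congrFun hmul ⟨a, ha⟩
        rw [Pi.zero_apply] at hrow
        rw [← hrow, hc, Finset.mul_sum, Finset.sum_mul, map_sum]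
        simp only [Matrix.mulVec, dotProduct, hankel]
        refine Finset.sum_congr rfl fun b _ => ?_
        rw [mul_smul_comm, smul_mul_assoc, map_smul, smul_eq_mul, mul_comm]
        congr 2
        ring
      rw [low_top] at hle
      exact fun y => LinearMap.mem_ker.mp (hle (Submodule.mem_top (x := y)))
    have h1 := hz (pb.gen ^ s * c)⁻¹
    rw [mul_inv_cancel₀ (mul_ne_zero (pow_ne_zero _ hα) hc0), ← pow_zero pb.gen,
      ← pb.basis_eq_pow ⟨0, by omega⟩, Module.Basis.coord_apply, Module.Basis.repr_self,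
      Finsupp.single_eq_same] at h1
    exact one_ne_zero h1

/-- A functional all whose relevant Hankel determinants are nonzero. -/
def Good (φ : F →ₗ[k] k) : Prop :=
  ∀ t ∈ (Finset.range pb.dim) ×ˢ Finset.range 2, (hankel φ pb.gen (t.1 + 1) t.2).det ≠ 0

theorem exists_good [Infinite k] (hα : pb.gen ≠ 0) : ∃ φ, Good pb φ :=
  exists_common (fun t : ℕ × ℕ => (t.1 + 1, t.2)) pb.gen _ fun t ht => by
    simp only [Finset.mem_product, Finset.mem_range] at ht
    exact exists_hankel pb hα (by omega) (by omega) (by omega)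

/-! ### The word of a good functional -/

/-- `(μ r, lam p)` is the second column of an element of the group. -/
def Reach (α p r : F) : Prop :=
  ∃ h ∈ gens k α, ∃ lam μ : k, lam ≠ 0 ∧ μ ≠ 0 ∧
    h.1 0 1 = algebraMap k F μ * r ∧ h.1 1 1 = algebraMap k F lam * p

theorem reach_top {φ : F →ₗ[k] k} (hφ : Good pb φ) :
    ∃ r, Reach (k := k) pb.gen 0 r ∧ (∀ a < pb.dim - 1, φ (pb.gen * r * pb.gen ^ a) = 0) ∧
      φ (pb.gen * r * pb.gen ^ (pb.dim - 1)) ≠ 0 := by
  set α := pb.gen
  have hn : 0 < pb.dim := pb.dim_pos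
  have hG : ∀ j s, 1 ≤ j → j ≤ pb.dim → s ≤ 1 → (hankel φ α j s).det ≠ 0 := fun j s h1 h2 h3 => by
    have := hφ (j - 1, s) (by simp only [Finset.mem_product, Finset.mem_range]; omega)
    rwa [show j - 1 + 1 = j by omega] at this
  have hh : ∀ j < pb.dim, ∀ p, p - α ^ j ∈ low k α j → (∀ a < j, φ (p * α ^ a) = 0) →
      φ (p * α ^ j) ≠ 0 := by
    intro j hj p hp ho h0
    have hpl : p ∈ low k α (j + 1) := by
      have := add_mem (low_mono (Nat.le_succ j) hp) (pow_mem_low (k := k) (α := α) (Nat.lt_succ_self j))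
      simpa using this
    have hz := eq_zero_of_orth (s := 0) (hG (j + 1) 0 (by omega) (by omega) (by omega)) hpl (fun a ha => by
      rcases Nat.lt_succ_iff_lt_or_eq.mp ha with h | rfl
      · exact ho a h
      · exact h0)
    rw [hz, zero_sub, neg_mem_iff] at hp
    exact independent_low pb hj hp
  have hg : ∀ j < pb.dim, ∀ r, r - α ^ j ∈ low k α j → (∀ a < j, φ (α * r * α ^ a) = 0) →
      φ (α * r * α ^ j) ≠ 0 := by
    intro j hj r hr ho h0
    have hrl : r ∈ low k α (j + 1) := by
      have := add_mem (low_mono (Nat.le_succ j) hr) (pow_mem_low (k := k) (α := α) (Nat.lt_succ_self j))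
      simpa using this
    have hz := eq_zero_of_orth (s := 1) (hG (j + 1) 1 (by omega) (by omega) le_rfl) hrl (fun a ha => by
      rw [pow_succ', ← mul_assoc, mul_comm r α]
      rcases Nat.lt_succ_iff_lt_or_eq.mp ha with h | rfl
      · exact ho a h
      · exact h0)
    rw [hz, zero_sub, neg_mem_iff] at hr
    exact independent_low pb hj hr
  have main : ∀ j < pb.dim, ∃ p r, Reach (k := k) α p r ∧
      p - α ^ j ∈ low k α j ∧ (∀ a < j, φ (p * α ^ a) = 0) ∧
      r - α ^ j ∈ low k α j ∧ (∀ a < j, φ (α * r * α ^ a) = 0) := by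
    intro j
    induction j with
    | zero =>
      refine fun _ => ⟨1, 1, ⟨U 1, by simpa using U_mem (k := k) (α := α) 1, 1, 1, one_ne_zero,
        one_ne_zero, by simp, by simp⟩, by simp, fun a ha => absurd ha (Nat.not_lt_zero a),
        by simp, fun a ha => absurd ha (Nat.not_lt_zero a)⟩
    | succ j ih =>
      intro hj
      obtain ⟨p, r, ⟨h, hmem, lam, μ, hlam, hμ, he0, he1⟩, hp, hpo, hr, hro⟩ := ih (by omega)
      have hh' := hh j (by omega) p hp hpo
      have hg' := hg j (by omega) r hr hro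
      set a := φ (α * r * α ^ j) / φ (p * α ^ j) with ha_def
      have ha : a ≠ 0 := div_ne_zero hg' hh'
      set p' := α * r - a • p with hp'
      have hp'low : p' - α ^ (j + 1) ∈ low k α (j + 1) := by
        have e : p' - α ^ (j + 1) = α * (r - α ^ j) - a • p := by rw [hp']; ring
        rw [e]
        refine sub_mem (mul_low hr) (Submodule.smul_mem _ _ ?_)
        have := add_mem (low_mono (Nat.le_succ j) hp) (pow_mem_low (k := k) (α := α) (Nat.lt_succ_self j))
        simpa using this
      have hp'o : ∀ i < j + 1, φ (p' * α ^ i) = 0 := by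
        intro i hi
        rw [hp', sub_mul, smul_mul_assoc, map_sub, map_smul, smul_eq_mul]
        rcases Nat.lt_succ_iff_lt_or_eq.mp hi with h | rfl
        · rw [hro i h, hpo i h, mul_zero, sub_zero]
        · rw [ha_def, div_mul_cancel₀ _ hh', sub_self]
      have hh2 := hh (j + 1) hj p' hp'low hp'o
      set e := φ (α * p' * α ^ j) / φ (α * r * α ^ j) with he_def
      have he : e ≠ 0 := by
        refine div_ne_zero ?_ hg'
        rwa [mul_comm α p', mul_assoc, ← pow_succ']
      set r' := p' - e • r with hr'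
      have hr'low : r' - α ^ (j + 1) ∈ low k α (j + 1) := by
        have e1 : r' - α ^ (j + 1) = (p' - α ^ (j + 1)) - e • r := by rw [hr']; ring
        rw [e1]
        refine sub_mem hp'low (Submodule.smul_mem _ _ ?_)
        have := add_mem (low_mono (Nat.le_succ j) hr) (pow_mem_low (k := k) (α := α) (Nat.lt_succ_self j))
        simpa using this
      have hr'o : ∀ i < j + 1, φ (α * r' * α ^ i) = 0 := by
        intro i hi
        rw [hr', mul_sub, sub_mul, map_sub, mul_smul_comm, smul_mul_assoc, map_smul, smul_eq_mul]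
        rcases Nat.lt_succ_iff_lt_or_eq.mp hi with h | rfl
        · rw [mul_comm α p', mul_assoc, ← pow_succ', hp'o (i + 1) (by omega), hro i h, mul_zero,
            sub_zero]
        · rw [he_def, div_mul_cancel₀ _ hg', sub_self]
      refine ⟨p', r', ⟨U (algebraMap k F (μ * a / (e * lam))) *
          (L (algebraMap k F (-lam / (a * μ)) * α) * h),
        mul_mem (U_mem _) (mul_mem (L_mem _) hmem), -lam / a, -μ / e,
        div_ne_zero (neg_ne_zero.mpr hlam) ha, div_ne_zero (neg_ne_zero.mpr hμ) he, ?_, ?_⟩,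
        hp'low, hp'o, hr'low, hr'o⟩
      · have : algebraMap k F e ≠ 0 := by simpa using he
        have : algebraMap k F a ≠ 0 := by simpa using ha
        have : algebraMap k F lam ≠ 0 := by simpa using hlam
        have : algebraMap k F μ ≠ 0 := by simpa using hμ
        simp only [mul_01, mul_11, U_00, U_01, L_00, L_01, L_10, L_11, he0, he1,
          hr', hp', Algebra.smul_def, map_mul, map_div₀, map_neg]
        field_simp
        ring
      · have : algebraMap k F a ≠ 0 := by simpa using ha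
        have : algebraMap k F μ ≠ 0 := by simpa using hμ
        simp only [mul_01, mul_11, U_10, U_11, L_00, L_01, L_10, L_11, he0, he1,
          hp', Algebra.smul_def, map_mul, map_div₀, map_neg]
        field_simp
        ring
  obtain ⟨p, r, ⟨h, hmem, lam, μ, hlam, hμ, he0, he1⟩, hp, hpo, hr, hro⟩ := main (pb.dim - 1) (by omega)
  have hh' := hh _ (by omega) p hp hpo
  have hg' := hg _ (by omega) r hr hro
  refine ⟨r, ?_, hro, hg'⟩
  set a := φ (α * r * α ^ (pb.dim - 1)) / φ (p * α ^ (pb.dim - 1)) with ha_def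
  have ha : a ≠ 0 := div_ne_zero hg' hh'
  have hzero : α * r - a • p = 0 := by
    refine eq_zero_of_orth (s := 0) (hG pb.dim 0 hn le_rfl (by omega)) (low_top pb ▸ Submodule.mem_top)
      fun i hi => ?_
    show φ ((α * r - a • p) * α ^ i) = 0
    rw [sub_mul, smul_mul_assoc, map_sub, map_smul, smul_eq_mul]
    rcases Nat.lt_or_ge i (pb.dim - 1) with h | h
    · rw [hro i h, hpo i h, mul_zero, sub_zero]
    · obtain rfl : i = pb.dim - 1 := by omega
      rw [ha_def, div_mul_cancel₀ _ hh', sub_self]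
  refine ⟨L (algebraMap k F (-lam / (a * μ)) * α) * h, mul_mem (L_mem _) hmem, 1, μ, one_ne_zero,
    hμ, ?_, ?_⟩
  · simp [mul_01, he0]
  · have hA : algebraMap k F a ≠ 0 := by simpa using ha
    have hM : algebraMap k F μ ≠ 0 := by simpa using hμ
    have h2 : α * r = algebraMap k F a * p := by rw [← Algebra.smul_def]; exact sub_eq_zero.mp hzero
    simp only [mul_11, L_10, L_11, he0, he1, map_mul, map_div₀, map_neg, map_one, mul_zero]
    field_simp
    linear_combination (-algebraMap k F lam) * h2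

theorem top_of_infinite [Infinite k] (h2 : (2 : k) ≠ 0) (hα : pb.gen ≠ 0) :
    gens k pb.gen = ⊤ := by
  classical
  set α := pb.gen
  obtain ⟨φ, hφ⟩ := exists_good pb hα
  let ψ : F →ₗ[k] k := φ.comp (LinearMap.mulLeft k α)
  have hfin : Set.Finite {e : k | ¬ Good pb (φ + e • ψ) ∨ 1 + algebraMap k F e * α = 0} := by
    have h1 : Set.Finite (⋃ t ∈ (Finset.range pb.dim) ×ˢ Finset.range 2,
        {e : k | (hankel φ α (t.1 + 1) t.2 + e • hankel ψ α (t.1 + 1) t.2).det = 0}) :=
      (Finset.finite_toSet _).biUnion fun t ht => det_line _ _ 0 (by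
        rw [zero_smul, add_zero]; exact hφ t ht)
    have h2 : Set.Finite {e : k | 1 + algebraMap k F e * α = 0} :=
      Set.Subsingleton.finite fun e he e' he' => by
        have : algebraMap k F e * α = algebraMap k F e' * α :=
          add_left_cancel (he.trans he'.symm)
        exact (algebraMap k F).injective (mul_right_cancel₀ hα this)
    refine (h1.union h2).subset fun e he => ?_
    rcases he with he | he
    · left
      simp only [Good, not_forall, not_not] at he
      obtain ⟨t, ht, hdet⟩ := he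
      rw [hankel_add] at hdet
      exact Set.mem_biUnion ht hdet
    · exact Or.inr he
  obtain ⟨r₀, ⟨h₀, hm₀, lam₀, μ₀, -, hμ₀, h₀a, h₀b⟩, ho₀, hg₀⟩ := reach_top pb hφ
  rw [mul_zero] at h₀b
  have key : ∀ e, e ∉ {e : k | ¬ Good pb (φ + e • ψ) ∨ 1 + algebraMap k F e * α = 0} →
      ∀ y ∈ radical k α, (1 + algebraMap k F e * α) ^ 2 * y ∈ radical k α := by
    intro e he y hy
    simp only [Set.mem_setOf_eq, not_or, not_not] at he
    obtain ⟨hgood, hw⟩ := he
    set w := 1 + algebraMap k F e * α with hwdef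
    have hφe : ∀ z, (φ + e • ψ) z = φ (w * z) := fun z => by
      simp only [LinearMap.add_apply, LinearMap.smul_apply, ψ, LinearMap.comp_apply,
        LinearMap.mulLeft_apply]
      rw [hwdef, add_mul, one_mul, map_add, ← map_smul, Algebra.smul_def, mul_assoc]
    obtain ⟨r, ⟨h, hm, lam, μ, -, hμ, ha, hb⟩, ho, hg⟩ := reach_top pb hgood
    rw [mul_zero] at hb
    set c := φ (w * (α * r * α ^ (pb.dim - 1))) / φ (α * r₀ * α ^ (pb.dim - 1)) with hc
    have hc0 : c ≠ 0 := div_ne_zero (by rw [← hφe]; exact hg) hg₀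
    have hrel : w * r = c • r₀ := by
      rw [← sub_eq_zero]
      have hdet : (hankel φ α pb.dim 1).det ≠ 0 := by
        have := hφ (pb.dim - 1, 1) (by
          have := pb.dim_pos
          simp only [Finset.mem_product, Finset.mem_range]; omega)
        rwa [show pb.dim - 1 + 1 = pb.dim by have := pb.dim_pos; omega] at this
      refine eq_zero_of_orth hdet (low_top pb ▸ Submodule.mem_top) fun i hi => ?_
      have e1 : (w * r - c • r₀) * α ^ (i + 1) = w * (α * r * α ^ i) - c • (α * r₀ * α ^ i) := by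
        simp only [Algebra.smul_def]; ring
      rw [e1, map_sub, map_smul, smul_eq_mul]
      rcases Nat.lt_or_ge i (pb.dim - 1) with h | h
      · rw [← hφe, ho i h, ho₀ i h, mul_zero, sub_zero]
      · obtain rfl : i = pb.dim - 1 := by omega
        rw [hc, div_mul_cancel₀ _ hg₀, sub_self]
    have hR : algebraMap k F μ * r ≠ 0 := by
      intro h0
      have hd := h.2
      rw [det_fin_two, ha, hb, h0] at hd
      simp at hd
    have hR0 : algebraMap k F μ₀ * r₀ ≠ 0 := by
      intro h0
      have hd := h₀.2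
      rw [det_fin_two, h₀a, h₀b, h0] at hd
      simp at hd
    set κ := μ * c / μ₀ with hκ
    have hκ0 : κ ≠ 0 := div_ne_zero (mul_ne_zero hμ hc0) hμ₀
    set g := h₀ * h⁻¹ with hgdef
    have hgm : g ∈ gens k α := mul_mem hm₀ (inv_mem hm)
    have hd := h.2
    rw [det_fin_two, ha, hb] at hd
    have hh10 : h.1 1 0 = -(algebraMap k F μ * r)⁻¹ := by
      apply mul_left_cancel₀ hR
      rw [mul_neg, mul_inv_cancel₀ hR]
      linear_combination -hd
    have hg00 : g.1 0 0 = (algebraMap k F μ₀ * r₀) / (algebraMap k F μ * r) := by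
      simp only [hgdef, mul_00, inv_00, inv_10, hb, h₀a, hh10]
      field_simp
      ring
    have hg10 : g.1 1 0 = 0 := by
      simp only [hgdef, mul_10, inv_00, inv_10, hb, h₀b]
      simp
    have hmem := mul_mem (mul_mem hgm hy) (inv_mem hgm)
    have hval : g * U y * g⁻¹ = U ((g.1 0 0) ^ 2 * y) := by
      have hdg := g.2
      rw [det_fin_two, hg10] at hdg
      simp only [mul_zero, sub_zero] at hdg
      refine sl_ext ?_ ?_ ?_ ?_ <;>
        simp [mul_00, mul_01, mul_10, mul_11, inv_00, inv_01, inv_10, inv_11, hg10] <;>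
        first | ring1 | linear_combination hdg | linear_combination -hdg
    rw [hval] at hmem
    have hx : g.1 0 0 = (algebraMap k F κ)⁻¹ * w := by
      have hK : algebraMap k F μ₀ ≠ 0 := by simpa using hμ₀
      have hC : algebraMap k F c ≠ 0 := by simpa using hc0
      have hrel' : w * r = algebraMap k F c * r₀ := by rw [hrel, Algebra.smul_def]
      have hM : algebraMap k F μ ≠ 0 := by simpa using hμ
      have hr : r ≠ 0 := fun e => hR (by rw [e, mul_zero])
      rw [hg00, hκ, map_div₀, map_mul]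
      field_simp
      linear_combination -hrel'
    have hres := Submodule.smul_mem (radical k α) (κ ^ 2) (show (g.1 0 0) ^ 2 * y ∈ radical k α from hmem)
    have hK : algebraMap k F κ ≠ 0 := by simpa using hκ0
    have e2 : κ ^ 2 • ((g.1 0 0) ^ 2 * y) = w ^ 2 * y := by
      rw [Algebra.smul_def, map_pow, hx]
      field_simp
    rwa [e2] at hres
  obtain ⟨e₁, he₁⟩ := hfin.infinite_compl.nonempty
  obtain ⟨e₂, he₂, hne₂⟩ := hfin.infinite_compl.exists_notMem_finset {e₁}
  obtain ⟨e₃, he₃, hne₃⟩ := hfin.infinite_compl.exists_notMem_finset {e₁, e₂}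
  simp only [Finset.mem_singleton, Finset.mem_insert, not_or] at hne₂ hne₃
  have hmul : ∀ y ∈ radical k α, α * y ∈ radical k α := by
    intro y hy
    have d1 : ∀ u v, u ∉ {e : k | ¬ Good pb (φ + e • ψ) ∨ 1 + algebraMap k F e * α = 0} →
        v ∉ {e : k | ¬ Good pb (φ + e • ψ) ∨ 1 + algebraMap k F e * α = 0} → u ≠ v →
        2 * α * y + (algebraMap k F u + algebraMap k F v) * α ^ 2 * y ∈ radical k α := by
      intro u v hu hv huv
      have := Submodule.smul_mem _ (u - v)⁻¹ (sub_mem (key u hu y hy) (key v hv y hy))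
      convert this using 1
      have hne : algebraMap k F u - algebraMap k F v ≠ 0 :=
        sub_ne_zero.mpr fun h => huv ((algebraMap k F).injective h)
      rw [Algebra.smul_def, map_inv₀, map_sub, eq_inv_mul_iff_mul_eq₀ hne]
      ring
    have a12 := d1 e₁ e₂ he₁ he₂ (Ne.symm hne₂)
    have a13 := d1 e₁ e₃ he₁ he₃ (Ne.symm hne₃.1)
    have hα2 : α ^ 2 * y ∈ radical k α := by
      have := Submodule.smul_mem _ (e₂ - e₃)⁻¹ (sub_mem a12 a13)
      convert this using 1
      have hne : algebraMap k F e₂ - algebraMap k F e₃ ≠ 0 :=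
        sub_ne_zero.mpr fun h => hne₃.2 ((algebraMap k F).injective h).symm
      rw [Algebra.smul_def, map_inv₀, map_sub, eq_inv_mul_iff_mul_eq₀ hne]
      ring
    have h3 := Submodule.smul_mem _ (2 : k)⁻¹
      (sub_mem a12 (Submodule.smul_mem _ (e₁ + e₂) hα2))
    convert h3 using 1
    have hne : (2 : F) ≠ 0 := by
      have := (algebraMap k F).injective.ne h2
      rwa [map_zero, map_ofNat] at this
    rw [Algebra.smul_def, Algebra.smul_def, map_inv₀, map_ofNat, map_add, eq_inv_mul_iff_mul_eq₀ hne]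
    ring
  refine gens_eq_top_of_upper hα fun y => ?_
  have hpow : ∀ i, α ^ i ∈ radical k α := by
    intro i
    induction i with
    | zero => rw [pow_zero]; exact one_mem_radical
    | succ i ih => rw [pow_succ']; exact hmul _ ih
  have hle : low k α pb.dim ≤ radical k α :=
    Submodule.span_le.mpr (by rintro _ ⟨i, -, rfl⟩; exact hpow i)
  exact hle (low_top pb ▸ Submodule.mem_top)

end CfsgLib.RootGroups.SimpleExt
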