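import Mathlib
import Cfsg.Prelude.Def_RootSubgroups
import Cfsg.Agent.Lib.RootGroups.RankOne
import Cfsg.Agent.Lib.RootGroups.SL2Steinberg
set_option autoImplicit false

/-!
Special rank one groups with abelian unipotent subgroups: swaps, divisibility, `[A, H] = A`, and
the minimal subgroups `(P)SL₂(p)`.

`c ∈ B` is the mate of `a ∈ A` when `conjBy A c = conjBy B a⁻¹`; thus `c⁻¹` is the `b(a)` of the
definition.
-/

namespace CfsgLib.RootGroups

open Cfsg (conjBy unipotentSubgroups)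
open scoped commutatorElement

variable {G : Type*} [Group G]

/-- `c` is the mate of `a`: `a ≠ 1` in `A`, `c ≠ 1` in `B` and `c A c⁻¹ = a⁻¹ B a`. -/
structure Mate (A B : Subgroup G) (a c : G) : Prop where
  memA : a ∈ A
  neA : a ≠ 1
  memB : c ∈ B
  neB : c ≠ 1
  eq : conjBy A c = conjBy B a⁻¹

/-- The swap attached to a mated pair. -/
def swapEl (a c : G) : G := a * c * a

variable {A B : Subgroup G} {a b c d : G}

theorem exists_mate (h : Cfsg.IsRankOnePair A B) (ha : a ∈ A) (ha1 : a ≠ 1) :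
    ∃ c, Mate A B a c := by
  obtain ⟨b, hb, hb1, he⟩ := h.cond_left a ha ha1
  exact ⟨b⁻¹, ha, ha1, inv_mem hb, inv_ne_one.mpr hb1, he⟩

theorem Mate.unique (m : Mate A B a c) (h : Cfsg.IsRankOnePair A B) {c' : G}
    (m' : Mate A B a c') : c = c' := by
  have := rankOne_partner_unique h (inv_mem m.memB) (inv_mem m'.memB)
    (by rw [inv_inv, inv_inv, m.eq, m'.eq])
  simpa using this

theorem Mate.conj_special (m : Mate A B a c) (hs : Cfsg.IsSpecialRankOnePair A B) :
    c * a * c⁻¹ = a⁻¹ * c * a := by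
  have := hs.2 a m.memA m.neA c⁻¹ (inv_mem m.memB) (inv_ne_one.mpr m.neB) (by rw [inv_inv]; exact m.eq)
  rwa [inv_inv] at this

theorem Mate.braid (m : Mate A B a c) (hs : Cfsg.IsSpecialRankOnePair A B) :
    a * c * a = c * a * c := by
  calc a * c * a = a * (c * a * c⁻¹) * c := by group
    _ = c * a * c := by rw [m.conj_special hs]; group

theorem Mate.swap_left (m : Mate A B a c) : conjBy A (swapEl a c) = B := by
  rw [swapEl, ← conjBy_conjBy, conjBy_eq_self m.memA, ← conjBy_conjBy, m.eq, conjBy_conjBy_inv]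

theorem Mate.swap_a (m : Mate A B a c) (hs : Cfsg.IsSpecialRankOnePair A B) :
    swapEl a c * a * (swapEl a c)⁻¹ = c := by
  calc swapEl a c * a * (swapEl a c)⁻¹ = a * (c * a * c⁻¹) * a⁻¹ := by rw [swapEl]; group
    _ = c := by rw [m.conj_special hs]; group

theorem Mate.swap_c (m : Mate A B a c) (hs : Cfsg.IsSpecialRankOnePair A B) :
    swapEl a c * c * (swapEl a c)⁻¹ = a := by
  calc swapEl a c * c * (swapEl a c)⁻¹ = (a * c * a) * c * (c * a * c)⁻¹ := by
        rw [← m.braid hs]; rfl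
    _ = c * a * c * c * (c * a * c)⁻¹ := by rw [m.braid hs]
    _ = c * (a * c * a⁻¹) * c⁻¹ := by group
    _ = a := by
      have e : a * c * a⁻¹ = c⁻¹ * a * c := by
        calc a * c * a⁻¹ = c⁻¹ * (c * a * c) * a⁻¹ := by group
          _ = c⁻¹ * (a * c * a) * a⁻¹ := by rw [m.braid hs]
          _ = c⁻¹ * a * c := by group
      rw [e]; group

theorem Mate.swap_right (m : Mate A B a c) (hs : Cfsg.IsSpecialRankOnePair A B)
    (hA : IsMulCommutative A) : conjBy B (swapEl a c) = A := by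
  have hmem : a ∈ conjBy B (swapEl a c) := by
    have := conj_mem_conjBy (g := swapEl a c) m.memB
    rwa [m.swap_c hs] at this
  refine eq_of_mem_of_mem hs.1 hA (self_mem_unipotent A B) (conjBy_mem_unipotent
    (right_mem_unipotent hs.1) ?_) m.memA hmem m.neA
  exact mul_mem (mul_mem (Subgroup.mem_sup_left m.memA) (Subgroup.mem_sup_right m.memB))
    (Subgroup.mem_sup_left m.memA)

theorem Mate.inv (m : Mate A B a c) (hs : Cfsg.IsSpecialRankOnePair A B)
    (hA : IsMulCommutative A) : Mate A B a⁻¹ c⁻¹ := by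
  refine ⟨inv_mem m.memA, inv_ne_one.mpr m.neA, inv_mem m.memB, inv_ne_one.mpr m.neB, ?_⟩
  rw [inv_inv]
  have h1 := m.swap_right hs hA
  rw [swapEl, m.braid hs, ← conjBy_conjBy, conjBy_eq_self m.memB, ← conjBy_conjBy] at h1
  exact (conjBy_eq_iff.mp h1).symm

theorem special_symm (hs : Cfsg.IsSpecialRankOnePair A B) (hA : IsMulCommutative A) :
    Cfsg.IsSpecialRankOnePair B A := by
  refine ⟨Cfsg.RankOnePair_symm hs.1, fun b hb hb1 a ha ha1 he => ?_⟩
  have m : Mate A B a b⁻¹ := ⟨ha, ha1, inv_mem hb, inv_ne_one.mpr hb1, he.symm⟩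
  have h2 : b⁻¹ * a * b = a⁻¹ * b⁻¹ * a := by simpa using m.conj_special hs
  calc a⁻¹ * b * a = (a⁻¹ * b⁻¹ * a)⁻¹ := by group
    _ = (b⁻¹ * a * b)⁻¹ := by rw [h2]
    _ = b⁻¹ * a⁻¹ * b := by group

theorem comm_of_isMulCommutative (hA : IsMulCommutative A) (ha : a ∈ A) (hb : b ∈ A) :
    a * b = b * a :=
  congrArg Subtype.val (hA.is_comm.comm (⟨a, ha⟩ : A) ⟨b, hb⟩)

/-- The addition rule for mates. -/
theorem Mate.add (hs : Cfsg.IsSpecialRankOnePair A B) (hA : IsMulCommutative A)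
    (hB : IsMulCommutative B) {ca cb cs : G} (ma : Mate A B a ca) (mb : Mate A B b cb)
    (ms : Mate A B (a * b) cs) :
    Mate A B (swapEl a ca * (ca * cb) * (swapEl a ca)⁻¹) (ca * cs⁻¹) := by
  have hbr : ∀ {x z : G}, Mate A B x z → x = z⁻¹ * swapEl x z * z⁻¹ := by
    intro x z m; rw [swapEl, m.braid hs]; group
  set na := swapEl a ca with hna
  set nb := swapEl b cb with hnb
  set ns := swapEl (a * b) cs with hns
  set d := na * (ca⁻¹ * cb⁻¹) * na⁻¹ with hd
  have hdA : d ∈ A := by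
    rw [← ma.swap_right hs hA, hd]
    exact conj_mem_conjBy (mul_mem (inv_mem ma.memB) (inv_mem mb.memB))
  set e := ns * (cb * cs⁻¹) * ns⁻¹ with he
  have heA : e ∈ A := by
    rw [← ms.swap_right hs hA, he]
    exact conj_mem_conjBy (mul_mem mb.memB (inv_mem ms.memB))
  have key : d * na * nb = ca * cs⁻¹ * e * ns := by
    have h1 : ca⁻¹ * (d * na * nb) * cb⁻¹ = cs⁻¹ * ns * cs⁻¹ := by
      calc ca⁻¹ * (d * na * nb) * cb⁻¹ = (ca⁻¹ * na * ca⁻¹) * (cb⁻¹ * nb * cb⁻¹) := by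
            rw [hd]; group
        _ = a * b := by rw [hna, hnb, ← hbr ma, ← hbr mb]
        _ = cs⁻¹ * ns * cs⁻¹ := by rw [hns, ← hbr ms]
    have hcc : cs⁻¹ * cb = cb * cs⁻¹ :=
      comm_of_isMulCommutative hB (inv_mem ms.memB) mb.memB
    calc d * na * nb = ca * (ca⁻¹ * (d * na * nb) * cb⁻¹) * cb := by group
      _ = ca * (cs⁻¹ * ns * (cs⁻¹ * cb)) := by rw [h1]; group
      _ = ca * cs⁻¹ * e * ns := by rw [hcc, he]; group
  -- the element `d⁻¹ * (ca * cs⁻¹) * e` moves `A` to `B`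
  have hswap : conjBy A (d⁻¹ * (ca * cs⁻¹) * e) = B := by
    have e1 : d⁻¹ * (ca * cs⁻¹) * e = na * nb * ns⁻¹ := by
      calc d⁻¹ * (ca * cs⁻¹) * e = d⁻¹ * (ca * cs⁻¹ * e * ns) * ns⁻¹ := by group
        _ = na * nb * ns⁻¹ := by rw [← key]; group
    have hsi : conjBy A ns⁻¹ = B := (conjBy_eq_iff.mp (ms.swap_right hs hA)).symm
    rw [e1, mul_assoc, ← conjBy_conjBy, ← conjBy_conjBy, hsi, mb.swap_right hs hA, ma.swap_left]
  rw [mul_assoc, ← conjBy_conjBy, ← conjBy_conjBy, conjBy_eq_self heA, conjBy_eq_iff, inv_inv]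
    at hswap
  have hc' : ca * cs⁻¹ ∈ B := mul_mem ma.memB (inv_mem ms.memB)
  have hd' : na * (ca * cb) * na⁻¹ = d⁻¹ := by
    rw [hd, comm_of_isMulCommutative hB ma.memB mb.memB]; group
  rw [hd']
  refine ⟨inv_mem hdA, ?_, hc', ?_, by rw [inv_inv]; exact hswap⟩
  · intro h0
    rw [inv_eq_one.mp h0, conjBy_one, conjBy_eq_iff, conjBy_eq_self (inv_mem hc')] at hswap
    exact hs.1.ne hswap
  · intro h0
    rw [h0, conjBy_one, eq_comm, conjBy_eq_iff, conjBy_eq_self (inv_mem hdA)] at hswap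
    exact hs.1.ne hswap.symm

/-- `φ(a ^ k) ^ k = φ(a)`. -/
theorem Mate.pow (hs : Cfsg.IsSpecialRankOnePair A B) (hA : IsMulCommutative A)
    (hB : IsMulCommutative B) : ∀ (k : ℕ) {a c σ : G}, Mate A B a c → Mate A B (a ^ k) σ →
      σ ^ k = c := by
  intro k
  induction k with
  | zero => intro a c σ _ m'; exact absurd (pow_zero a) m'.neA
  | succ k ih =>
    intro a c σ m m'
    by_cases hk : a ^ k = 1
    · have hck : c ^ k = 1 := by rw [← m.swap_a hs, conj_pow, hk]; group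
      rw [pow_succ, hk, one_mul] at m'
      rw [m'.unique hs.1 m, pow_succ, hck, one_mul]
    · obtain ⟨τ, hτ⟩ := exists_mate hs.1 (pow_mem m.memA k) hk
      rw [pow_succ'] at m'
      have madd := Mate.add hs hA hB m hτ m'
      have hτk : τ ^ k = c := ih m hτ
      set n := swapEl a c
      set z := n * (c * τ) * n⁻¹
      have hzk : z ^ k = a ^ (k + 1) := by
        have hcomm : Commute c τ := comm_of_isMulCommutative hB m.memB hτ.memB
        have hc1 : n * c ^ k * n⁻¹ = a ^ k := by rw [← conj_pow, m.swap_c hs]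
        calc z ^ k = (n * c ^ k * n⁻¹) * (n * τ ^ k * n⁻¹) := by
              rw [conj_pow, hcomm.mul_pow]; group
          _ = a ^ (k + 1) := by rw [hc1, hτk, m.swap_c hs, pow_succ]
      have := ih madd (by rw [hzk, pow_succ']; exact m')
      rw [pow_succ, this, inv_mul_cancel_right]

/-- Timmesfeld: if `a ^ k ≠ 1` then `a` is a `k`-th power in `A`. -/
theorem special_exists_root (hs : Cfsg.IsSpecialRankOnePair A B) (hA : IsMulCommutative A)
    (hB : IsMulCommutative B) {k : ℕ} (ha : a ∈ A) (hk : a ^ k ≠ 1) :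
    ∃ y ∈ A, y ^ k = a := by
  have ha1 : a ≠ 1 := fun h0 => hk (by rw [h0, one_pow])
  obtain ⟨c, m⟩ := exists_mate hs.1 ha ha1
  obtain ⟨τ, hτ⟩ := exists_mate hs.1 (pow_mem ha k) hk
  refine ⟨swapEl a c * τ * (swapEl a c)⁻¹, ?_, ?_⟩
  · rw [← m.swap_right hs hA]; exact conj_mem_conjBy hτ.memB
  · rw [conj_pow, Mate.pow hs hA hB k m hτ, m.swap_c hs]

theorem special_elementary_or_divisible (hs : Cfsg.IsSpecialRankOnePair A B)
    (hA : IsMulCommutative A) (hB : IsMulCommutative B) :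
    (∃ p : ℕ, p.Prime ∧ ∀ a ∈ A, a ^ p = 1) ∨
      ((∀ a ∈ A, a ≠ 1 → ¬ IsOfFinOrder a) ∧ ∀ a ∈ A, ∀ n : ℕ, 0 < n → ∃ c ∈ A, c ^ n = a) := by
  by_cases hfin : ∀ a ∈ A, a ≠ 1 → ¬ IsOfFinOrder a
  · refine Or.inr ⟨hfin, fun a ha n hn => ?_⟩
    by_cases ha1 : a = 1
    · exact ⟨1, A.one_mem, by rw [one_pow, ha1]⟩
    · refine special_exists_root hs hA hB ha fun h0 => hfin a ha ha1 ?_
      exact isOfFinOrder_iff_pow_eq_one.mpr ⟨n, hn, h0⟩
  · push Not at hfin
    obtain ⟨a₁, ha₁, ha₁1, hord⟩ := hfin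
    obtain ⟨p, hp, hdvd⟩ := Nat.exists_prime_and_dvd (n := orderOf a₁)
      (fun h0 => ha₁1 (orderOf_eq_one_iff.mp h0))
    refine Or.inl ⟨p, hp, fun a ha => ?_⟩
    by_contra hap
    set a₀ := a₁ ^ (orderOf a₁ / p)
    have ha₀ : a₀ ∈ A := pow_mem ha₁ _
    have ho : orderOf a₀ = p := orderOf_pow_orderOf_div (orderOf_pos_iff.mpr hord).ne' hdvd
    have ha₀1 : a₀ ≠ 1 := fun h0 => hp.ne_one (ho ▸ orderOf_eq_one_iff.mpr h0)
    have hpow : a₀ ^ p = 1 := ho ▸ pow_orderOf_eq_one a₀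
    have hcomm : Commute a₀ a := comm_of_isMulCommutative hA ha₀ ha
    -- `a₀` is a `p`-th power
    obtain ⟨y₁, hy₁, e₁⟩ := special_exists_root hs hA hB (mul_mem ha₀ ha)
      (k := p) (by rwa [hcomm.mul_pow, hpow, one_mul])
    obtain ⟨y₂, hy₂, e₂⟩ := special_exists_root hs hA hB ha hap
    set z := y₁ * y₂⁻¹
    have hzA : z ∈ A := mul_mem hy₁ (inv_mem hy₂)
    have hz : z ^ p = a₀ := by
      rw [(show Commute y₁ y₂⁻¹ from comm_of_isMulCommutative hA hy₁ (inv_mem hy₂)).mul_pow,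
        inv_pow, e₁, e₂, mul_inv_cancel_right]
    obtain ⟨c₀, m₀⟩ := exists_mate hs.1 ha₀ ha₀1
    obtain ⟨cz, mz⟩ := exists_mate hs.1 hzA (fun h0 => ha₀1 (by rw [← hz, h0, one_pow]))
    have h1 := Mate.pow hs hA hB p mz (by rw [hz]; exact m₀)
    rw [← m₀.swap_a hs, conj_pow, hpow] at h1
    exact mz.neB (by rw [← h1]; group)

/-- Timmesfeld: if `|A| > 3` then `A = ⁅A, H⁆` for the diagonal subgroup `H`. -/
theorem special_commutator_diagonal (hs : Cfsg.IsSpecialRankOnePair A B)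
    (hA : IsMulCommutative A) (hB : IsMulCommutative B) (hcard : 3 < ENat.card A) :
    ⁅A, Cfsg.rankOneDiagonal A B⁆ = A := by
  set H := Cfsg.rankOneDiagonal A B
  set K := ⁅A, H⁆
  have hHA : ∀ h ∈ H, conjBy A h = A := fun h hh => mem_normalizer_iff_conjBy.mp hh.1.2
  have hKA : K ≤ A := Subgroup.commutator_le.mpr fun x hx h hh => by
    rw [commutatorElement_def, mul_assoc, mul_assoc]
    refine mul_mem hx ?_
    have := conj_mem_conjBy (g := h) (inv_mem hx)
    rw [hHA h hh] at this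
    simpa [mul_assoc] using this
  refine le_antisymm hKA ?_
  -- congruence modulo `K`
  have cong : ∀ {x z u w : G}, Mate A B x z → Mate A B u w →
      (swapEl x z * w * (swapEl x z)⁻¹) * u⁻¹ ∈ K := by
    intro x z u w mx mu
    set g := swapEl x z * swapEl u w
    have hg : g ∈ H := by
      refine ⟨⟨?_, mem_normalizer_iff_conjBy.mpr ?_⟩, mem_normalizer_iff_conjBy.mpr ?_⟩
      · have hmem : ∀ {p q : G}, Mate A B p q → swapEl p q ∈ A ⊔ B := fun m =>
          mul_mem (mul_mem (Subgroup.mem_sup_left m.memA) (Subgroup.mem_sup_right m.memB))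
            (Subgroup.mem_sup_left m.memA)
        exact mul_mem (hmem mx) (hmem mu)
      · rw [← conjBy_conjBy, mu.swap_left, mx.swap_right hs hA]
      · rw [← conjBy_conjBy, mu.swap_right hs hA, mx.swap_left]
    have e : swapEl x z * w * (swapEl x z)⁻¹ = g * u * g⁻¹ := by
      rw [← mu.swap_a hs]; simp only [g]; group
    rw [e]
    have h2 : ⁅g, u⁆ ∈ K := by
      show ⁅g, u⁆ ∈ ⁅A, H⁆
      rw [Subgroup.commutator_comm]; exact Subgroup.commutator_mem_commutator hg mu.memA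
    rwa [commutatorElement_def] at h2
  have cA : ∀ {x y : G}, x ∈ A → y ∈ A → Commute x y := fun hx hy =>
    comm_of_isMulCommutative hA hx hy
  -- `x * y * y ∈ K`
  have key : ∀ x ∈ A, ∀ y ∈ A, x ≠ 1 → y ≠ 1 → x * y ≠ 1 → x * y * y ∈ K := by
    intro x hx y hy hx1 hy1 hxy
    obtain ⟨cx, mx⟩ := exists_mate hs.1 hx hx1
    obtain ⟨cy, my⟩ := exists_mate hs.1 hy hy1
    obtain ⟨cs, ms⟩ := exists_mate hs.1 (mul_mem hx hy) hxy
    have madd := Mate.add hs hA hB mx my ms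
    set n := swapEl x cx
    set M := n * cy * n⁻¹ with hMdef
    set N := n * cs * n⁻¹ with hNdef
    have hM : M ∈ A := by rw [← mx.swap_right hs hA]; exact conj_mem_conjBy my.memB
    have hN : N ∈ A := by rw [← mx.swap_right hs hA]; exact conj_mem_conjBy ms.memB
    have h1 := cong mx madd
    have e1 : n * (cx * cs⁻¹) * n⁻¹ = x * N⁻¹ := by
      calc n * (cx * cs⁻¹) * n⁻¹ = (n * cx * n⁻¹) * (n * cs * n⁻¹)⁻¹ := by group
        _ = x * N⁻¹ := by rw [mx.swap_c hs, hNdef]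
    have e2 : n * (cx * cy) * n⁻¹ = x * M := by
      calc n * (cx * cy) * n⁻¹ = (n * cx * n⁻¹) * (n * cy * n⁻¹) := by group
        _ = x * M := by rw [mx.swap_c hs, hMdef]
    rw [e1, e2] at h1
    have h2 : N * (x * y)⁻¹ ∈ K := cong mx ms
    have h3 : M * y⁻¹ ∈ K := cong mx my
    -- `x * y * y = ((x * N⁻¹ * (x * M)⁻¹) * (N * (x*y)⁻¹) * (M * y⁻¹))⁻¹`
    have e3 : x * y * y = ((x * N⁻¹ * (x * M)⁻¹) * (N * (x * y)⁻¹) * (M * y⁻¹))⁻¹ := by
      have c1 : x * N⁻¹ * (x * M)⁻¹ = N⁻¹ * M⁻¹ := by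
        rw [(cA hx (inv_mem hN)).eq, (cA hx hM).eq]; group
      have c2 : (N⁻¹ * M⁻¹) * (N * (x * y)⁻¹) * (M * y⁻¹) = (x * y)⁻¹ * y⁻¹ := by
        rw [(cA hN (inv_mem (mul_mem hx hy))).eq, (cA hM (inv_mem hy)).eq,
          ((cA (inv_mem hN) (inv_mem hM))).eq]
        calc M⁻¹ * N⁻¹ * ((x * y)⁻¹ * N) * (y⁻¹ * M)
            = M⁻¹ * ((N⁻¹ * (x * y)⁻¹) * N) * y⁻¹ * M := by group
          _ = M⁻¹ * ((x * y)⁻¹ * y⁻¹) * M := by
              rw [(cA (inv_mem hN) (inv_mem (mul_mem hx hy))).eq]; group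
          _ = (x * y)⁻¹ * y⁻¹ := by
              rw [(cA (inv_mem hM) (mul_mem (inv_mem (mul_mem hx hy)) (inv_mem hy))).eq]; group
      rw [c1, c2, (cA (inv_mem (mul_mem hx hy)) (inv_mem hy)).eq]
      simp [mul_assoc]
    rw [e3]
    exact inv_mem (mul_mem (mul_mem h1 h2) h3)
  have hcong : ∀ x ∈ A, ∀ y ∈ A, x ≠ 1 → y ≠ 1 → x * y ≠ 1 → y * x⁻¹ ∈ K := by
    intro x hx y hy hx1 hy1 hxy
    have h1 := key x hx y hy hx1 hy1 hxy
    have h2 := key y hy x hx hy1 hx1 (by rwa [(cA hy hx).eq])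
    have e : y * x⁻¹ = (y * x * x)⁻¹ * (x * y * y) := by
      rw [(cA hy hx).eq]
      calc y * x⁻¹ = x⁻¹ * y := (cA hy (inv_mem hx)).eq
        _ = (x * y * x)⁻¹ * (x * y * y) := by group
    rw [e]; exact mul_mem (inv_mem h2) h1
  have hfour : ∀ a : G, ∃ y ∈ A, y ≠ 1 ∧ y ≠ a ∧ y ≠ a⁻¹ := by
    intro a
    by_contra hcon
    push Not at hcon
    have hsub : (A : Set G) ⊆ {1, a, a⁻¹} := by
      intro y hy
      by_cases h1 : y = 1
      · exact Or.inl h1
      · by_cases h2 : y = a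
        · exact Or.inr (Or.inl h2)
        · exact Or.inr (Or.inr (hcon y hy h1 h2))
    have h1 : ENat.card A = (A : Set G).encard := rfl
    have h2 : ({1, a, a⁻¹} : Set G).encard ≤ 3 := by
      calc ({1, a, a⁻¹} : Set G).encard ≤ ({a, a⁻¹} : Set G).encard + 1 := Set.encard_insert_le _ _
        _ ≤ ({a⁻¹} : Set G).encard + 1 + 1 := by gcongr; exact Set.encard_insert_le _ _
        _ = 3 := by rw [Set.encard_singleton]; rfl
    exact absurd (h1.le.trans ((Set.encard_mono hsub).trans h2)) (not_le.mpr hcard)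
  intro a ha
  by_cases ha1 : a = 1
  · rw [ha1]; exact one_mem _
  obtain ⟨y, hy, hy1, hya, hyai⟩ := hfour a
  have hay : a * y ≠ 1 := fun h0 => hyai (eq_inv_of_mul_eq_one_right h0)
  -- `a * y` and `y` are congruent to each other
  have hay' : (a * y) * a⁻¹ ∈ K → y ∈ K := fun h => by
    rwa [(cA ha hy).eq, mul_inv_cancel_right] at h
  by_cases h3 : a * (a * y) = 1
  · have h4 := hcong a ha y hy ha1 hy1 hay
    have h5 : y = (a * a)⁻¹ := eq_inv_of_mul_eq_one_right (by rwa [mul_assoc])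
    -- then use the pair `(a⁻¹, y)`
    have h6 : a⁻¹ * y ≠ 1 := fun h0 => hya (inv_mul_eq_one.mp h0).symm
    have h7 := hcong a⁻¹ (inv_mem ha) y hy (inv_ne_one.mpr ha1) hy1 h6
    rw [inv_inv] at h7
    have h8 : a * a ∈ K := by
      have := mul_mem (inv_mem h4) h7
      rw [mul_inv_rev, inv_inv] at this
      simpa [mul_assoc] using this
    have h9 : y ∈ K := h5 ▸ inv_mem h8
    have := mul_mem (inv_mem h4) h9
    rw [mul_inv_rev, inv_inv] at this
    simpa [mul_assoc] using this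
  · have hyK : y ∈ K := hay' (hcong a ha (a * y) (mul_mem ha hy) ha1 hay h3)
    have := mul_mem (inv_mem (hcong a ha y hy ha1 hy1 hay)) hyK
    rw [mul_inv_rev, inv_inv] at this
    simpa [mul_assoc] using this

theorem special_mem_derived (hs : Cfsg.IsSpecialRankOnePair A B)
    (hA : IsMulCommutative A) (hB : IsMulCommutative B) (hcard : 3 < ENat.card A) :
    A ≤ ⁅A ⊔ B, A ⊔ B⁆ := by
  conv_lhs => rw [← special_commutator_diagonal hs hA hB hcard]
  exact Subgroup.commutator_mono le_sup_left (inf_le_left.trans inf_le_left)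

theorem elemPow_zmod {p : ℕ} [Fact p.Prime] {g : G} (hg : g ^ p = 1) (s t : ZMod p) :
    g ^ (s + t).val = g ^ s.val * g ^ t.val := by
  rw [← pow_add, ZMod.val_add, ← pow_eq_pow_mod _ hg]

/-- The Steinberg relations generated by a mated pair in characteristic `p`. -/
theorem special_rel (hs : Cfsg.IsSpecialRankOnePair A B) (hA : IsMulCommutative A)
    (hB : IsMulCommutative B) {p : ℕ} [Fact p.Prime] (m : Mate A B a c) (hp : a ^ p = 1) :
    Steinberg.Rel (fun s : ZMod p => a ^ s.val) (fun s : ZMod p => c ^ s.val) := by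
  have hcp : c ^ p = 1 := by rw [← m.swap_a hs, conj_pow, hp]; group
  have hord : orderOf a = p := orderOf_eq_prime hp m.neA
  have hmod : ∀ {g : G}, g ^ p = 1 → ∀ {i j : ℕ}, (i : ZMod p) = (j : ZMod p) → g ^ i = g ^ j := by
    intro g hg i j hij
    rw [pow_eq_pow_mod i hg, pow_eq_pow_mod j hg, (ZMod.natCast_eq_natCast_iff' i j p).mp hij]
  -- mates of the powers
  have hmate : ∀ t : ZMod p, t ≠ 0 → Mate A B (a ^ t.val) (c ^ (t⁻¹).val) := by
    intro t ht
    have ha1 : a ^ t.val ≠ 1 := by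
      intro h0
      have hd := orderOf_dvd_of_pow_eq_one h0
      rw [hord] at hd
      exact ht ((ZMod.val_eq_zero t).mp (Nat.eq_zero_of_dvd_of_lt hd (ZMod.val_lt t)))
    obtain ⟨σ, hσ⟩ := exists_mate hs.1 (pow_mem m.memA _) ha1
    have hσp : σ ^ p = 1 := by
      rw [← hσ.swap_a hs, conj_pow, ← pow_mul, mul_comm, pow_mul, hp, one_pow]; group
    have h1 := Mate.pow hs hA hB _ m hσ
    have h2 : σ = c ^ (t⁻¹).val := by
      rw [← h1, ← pow_mul]
      nth_rewrite 1 [← pow_one σ]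
      refine hmod hσp ?_
      rw [Nat.cast_mul, ZMod.natCast_val, ZMod.natCast_val, ZMod.cast_id, ZMod.cast_id,
        mul_inv_cancel₀ ht, Nat.cast_one]
    rw [← h2]; exact hσ
  refine ⟨elemPow_zmod hp, elemPow_zmod hcp, fun t ht => (hmate t ht).braid hs, ?_, ?_⟩
  · intro t ht s
    have mt := hmate t ht
    have e1 : a ^ s.val = (a ^ t.val) ^ (s / t).val := by
      rw [← pow_mul]
      refine hmod hp ?_
      rw [Nat.cast_mul, ZMod.natCast_val, ZMod.natCast_val, ZMod.natCast_val, ZMod.cast_id,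
        ZMod.cast_id, ZMod.cast_id, mul_div_cancel₀ s ht]
    show swapEl (a ^ t.val) (c ^ (t⁻¹).val) * a ^ s.val *
      (swapEl (a ^ t.val) (c ^ (t⁻¹).val))⁻¹ = c ^ (s / t ^ 2).val
    rw [e1, ← conj_pow]
    show (swapEl (a ^ t.val) (c ^ (t⁻¹).val) * a ^ t.val *
      (swapEl (a ^ t.val) (c ^ (t⁻¹).val))⁻¹) ^ (s / t).val = _
    rw [mt.swap_a hs, ← pow_mul]
    refine hmod hcp ?_
    rw [Nat.cast_mul, ZMod.natCast_val, ZMod.natCast_val, ZMod.natCast_val, ZMod.cast_id,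
      ZMod.cast_id, ZMod.cast_id]
    field_simp
  · intro t ht s
    have mt := hmate t ht
    have e1 : c ^ s.val = (c ^ (t⁻¹).val) ^ (s * t).val := by
      rw [← pow_mul]
      refine hmod hcp ?_
      rw [Nat.cast_mul, ZMod.natCast_val, ZMod.natCast_val, ZMod.natCast_val, ZMod.cast_id,
        ZMod.cast_id, ZMod.cast_id]
      field_simp
    show swapEl (a ^ t.val) (c ^ (t⁻¹).val) * c ^ s.val *
      (swapEl (a ^ t.val) (c ^ (t⁻¹).val))⁻¹ = a ^ (s * t ^ 2).val
    rw [e1, ← conj_pow]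
    show (swapEl (a ^ t.val) (c ^ (t⁻¹).val) * c ^ (t⁻¹).val *
      (swapEl (a ^ t.val) (c ^ (t⁻¹).val))⁻¹) ^ (s * t).val = _
    rw [mt.swap_c hs, ← pow_mul]
    refine hmod hp ?_
    rw [Nat.cast_mul, ZMod.natCast_val, ZMod.natCast_val, ZMod.natCast_val, ZMod.cast_id,
      ZMod.cast_id, ZMod.cast_id]
    ring

theorem sl2_center_entries {F : Type*} [Field F] {g : Matrix.SpecialLinearGroup (Fin 2) F}
    (hg : g ∈ Subgroup.center (Matrix.SpecialLinearGroup (Fin 2) F)) :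
    g.1 0 1 = 0 ∧ g.1 1 0 = 0 ∧ g.1 1 1 = g.1 0 0 ∧ g.1 0 0 * g.1 0 0 = 1 := by
  have h1 := Subgroup.mem_center_iff.mp hg (Steinberg.upper 1)
  have h2 := Subgroup.mem_center_iff.mp hg (Steinberg.lower 1)
  have h10 : g.1 1 0 = 0 := by
    have := congrFun (congrFun (congrArg Subtype.val h1) 0) 0
    simpa [Steinberg.sl2_val_mul, Steinberg.upper_val, Matrix.mul_apply, Fin.sum_univ_two] using this
  have h01 : g.1 0 1 = 0 := by
    have := congrFun (congrFun (congrArg Subtype.val h2) 0) 0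
    simpa [Steinberg.sl2_val_mul, Steinberg.lower_val, Matrix.mul_apply, Fin.sum_univ_two] using this
  have h11 : g.1 1 1 = g.1 0 0 := by
    have := congrFun (congrFun (congrArg Subtype.val h1) 0) 1
    simp [Steinberg.sl2_val_mul, Steinberg.upper_val, Matrix.mul_apply, Fin.sum_univ_two, h01] at this
    exact this
  have hdet := Steinberg.sl2_det g
  rw [h01, h11, zero_mul, sub_zero] at hdet
  exact ⟨h01, h10, h11, hdet⟩

theorem sl2_ker_bot_or_center {F : Type*} [Field F] {Y : Type*} [Group Y]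
    (f : Matrix.SpecialLinearGroup (Fin 2) F →* Y)
    (hf : f.ker ≤ Subgroup.center (Matrix.SpecialLinearGroup (Fin 2) F)) :
    f.ker = ⊥ ∨ f.ker = Subgroup.center (Matrix.SpecialLinearGroup (Fin 2) F) := by
  by_cases h : f.ker = ⊥
  · exact Or.inl h
  obtain ⟨g, hg, hg1⟩ := exists_ne_one_mem h
  refine Or.inr (le_antisymm hf fun z hz => ?_)
  obtain ⟨g01, g10, g11, gsq⟩ := sl2_center_entries (hf hg)
  obtain ⟨z01, z10, z11, zsq⟩ := sl2_center_entries hz
  rcases mul_self_eq_one_iff.mp zsq with h1 | h1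
  · have : z = 1 := by
      apply Steinberg.sl2_ext <;> simp [z01, z10, z11, h1]
    rw [this]; exact one_mem _
  · by_cases hm : g.1 0 0 = -1
    · have : z = g := by
        apply Steinberg.sl2_ext <;> simp [z01, z10, z11, h1, g01, g10, g11, hm]
      rwa [this]
    · refine absurd ?_ hg1
      have h2 := (mul_self_eq_one_iff.mp gsq).resolve_right hm
      apply Steinberg.sl2_ext <;> simp [g01, g10, g11, h2]

/-- Timmesfeld: `⟨a, b(a)⟩ ≅ (P)SL₂(p)`. -/
theorem special_generate_sl2 (hs : Cfsg.IsSpecialRankOnePair A B) (hA : IsMulCommutative A)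
    (hB : IsMulCommutative B) {p : ℕ} [Fact p.Prime] (m : Mate A B a c) (hp : a ^ p = 1) :
    ∃ f : Matrix.SpecialLinearGroup (Fin 2) (ZMod p) →* G,
      f.range = Subgroup.closure ({a, c⁻¹} : Set G) ∧
      f.ker ≤ Subgroup.center (Matrix.SpecialLinearGroup (Fin 2) (ZMod p)) := by
  have r := special_rel hs hA hB m hp
  refine ⟨r.hom, ?_, r.hom_ker_le ?_ ?_⟩
  · rw [r.hom_range]
    refine le_antisymm ((Subgroup.closure_le _).mpr ?_) ((Subgroup.closure_le _).mpr ?_)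
    · rintro _ (⟨s, rfl⟩ | ⟨s, rfl⟩)
      · exact pow_mem (Subgroup.subset_closure (Set.mem_insert a _)) _
      · exact pow_mem (inv_mem_iff.mp
          (Subgroup.subset_closure (Set.mem_insert_of_mem a (Set.mem_singleton c⁻¹)))) _
    · rintro _ (rfl | rfl)
      · exact Subgroup.subset_closure (Or.inl ⟨1, by
          show _ ^ (1 : ZMod p).val = _; rw [ZMod.val_one, pow_one]⟩)
      · refine inv_mem (Subgroup.subset_closure (Or.inr ⟨1, ?_⟩))
        show _ ^ (1 : ZMod p).val = _; rw [ZMod.val_one, pow_one]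
  · intro s h0
    have hd := orderOf_dvd_of_pow_eq_one h0
    rw [orderOf_eq_prime hp m.neA] at hd
    exact (ZMod.val_eq_zero s).mp (Nat.eq_zero_of_dvd_of_lt hd (ZMod.val_lt s))
  · intro s h0
    by_contra hs0
    have ha1 : a ^ s.val ≠ 1 := by
      intro he
      have hd := orderOf_dvd_of_pow_eq_one he
      rw [orderOf_eq_prime hp m.neA] at hd
      exact hs0 ((ZMod.val_eq_zero s).mp (Nat.eq_zero_of_dvd_of_lt hd (ZMod.val_lt s)))
    simp only [ZMod.val_one, pow_one] at h0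
    refine rankOne_conj_ne hs.1 (pow_mem m.memA _) ha1 ?_
    have hBΩ := conjBy_mem_unipotent (right_mem_unipotent hs.1)
      (Subgroup.mem_sup_left (pow_mem m.memA s.val))
    refine eq_of_mem_of_mem hs.1 hA (right_mem_unipotent hs.1) hBΩ m.memB ?_ m.neB
    rw [mem_conjBy, mul_assoc, ← h0]; simpa using m.memB

theorem special_generate_iso (hs : Cfsg.IsSpecialRankOnePair A B) (hA : IsMulCommutative A)
    (hB : IsMulCommutative B) {p : ℕ} [Fact p.Prime] (m : Mate A B a c) (hp : a ^ p = 1) :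
    Nonempty (↥(Subgroup.closure ({a, c⁻¹} : Set G)) ≃* Matrix.SpecialLinearGroup (Fin 2) (ZMod p)) ∨
    Nonempty (↥(Subgroup.closure ({a, c⁻¹} : Set G)) ≃*
      Matrix.ProjectiveSpecialLinearGroup (Fin 2) (ZMod p)) := by
  obtain ⟨f, hr, hk⟩ := special_generate_sl2 hs hA hB m hp
  rcases sl2_ker_bot_or_center f hk with h | h
  · exact Or.inl ⟨(MulEquiv.subgroupCongr hr.symm).trans
      (MonoidHom.ofInjective ((MonoidHom.ker_eq_bot_iff f).mp h)).symm⟩
  · exact Or.inr ⟨((MulEquiv.subgroupCongr hr.symm).trans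
      (QuotientGroup.quotientKerEquivRange f).symm).trans (QuotientGroup.quotientMulEquivOfEq h)⟩

end CfsgLib.RootGroups
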