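import Cfsg.Agent.Lib.Sp.Group
import Cfsg.Agent.Lib.RootGroups.SL2Image
import Cfsg.Agent.Lib.RootGroups.RootSets

/-! The symplectic transvection groups as a degenerate class of root subgroups. -/

set_option autoImplicit false

namespace CfsgLib.RootGroups.SympRoot

open Matrix CfsgLib.RootGroups CfsgLib.RootGroups.Steinberg CfsgLib.Sp Cfsg

variable {m : ℕ} {F : Type*} [Field F]

local notation "V" => Fin m ⊕ Fin m → F

theorem sympForm_smul_left (a : F) (x y : V) : sympForm m F (a • x) y = a * sympForm m F x y := by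
  rw [← sympBilin_apply, ← sympBilin_apply]; simp

theorem sympForm_smul_right (a : F) (x y : V) : sympForm m F x (a • y) = a * sympForm m F x y := by
  rw [← sympBilin_apply, ← sympBilin_apply]; simp

theorem sympForm_add_left (x y z : V) :
    sympForm m F (x + y) z = sympForm m F x z + sympForm m F y z := by
  rw [← sympBilin_apply, ← sympBilin_apply, ← sympBilin_apply]; simp

theorem sympForm_add_right (x y z : V) :
    sympForm m F x (y + z) = sympForm m F x y + sympForm m F x z := by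
  rw [← sympBilin_apply, ← sympBilin_apply, ← sympBilin_apply]; simp

/-- The transvection group of a vector. -/
def tsub (p : Fin m ⊕ Fin m → F) : Subgroup (symplecticGroup (Fin m) F) where
  carrier := {g | ∃ c, g = tmat p c}
  mul_mem' := by rintro _ _ ⟨c, rfl⟩ ⟨d, rfl⟩; exact ⟨c + d, tmat_mul p c d⟩
  one_mem' := ⟨0, (tmat_zero p).symm⟩
  inv_mem' := by rintro _ ⟨c, rfl⟩; exact ⟨-c, tmat_inv p c⟩

theorem tmat_mem (p : V) (c : F) : tmat p c ∈ tsub p := ⟨c, rfl⟩

theorem closure_eq_tsub (p : V) :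
    Subgroup.closure {g : symplecticGroup (Fin m) F | ∃ c : F, ∀ v : V,
      (g : Matrix (Fin m ⊕ Fin m) (Fin m ⊕ Fin m) F) *ᵥ v =
        v + (c * (v ⬝ᵥ (Matrix.J (Fin m) F *ᵥ p))) • p} = tsub p := by
  conv_rhs => rw [← Subgroup.closure_eq (tsub p)]
  refine congrArg Subgroup.closure (Set.ext fun g => ?_)
  constructor
  · rintro ⟨c, hc⟩
    refine ⟨c, toEquiv_injective (LinearEquiv.ext fun v => ?_)⟩
    rw [toEquiv_apply, hc]
    exact (sympTransvection_mulVec p c v).symm
  · rintro ⟨c, rfl⟩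
    exact ⟨c, fun v => sympTransvection_mulVec p c v⟩

theorem tsub_smul {a : F} (ha : a ≠ 0) (p : V) : tsub (a • p) = tsub p := by
  ext g
  constructor
  · rintro ⟨c, rfl⟩; exact ⟨c * a * a, tmat_smul p a c⟩
  · rintro ⟨c, rfl⟩
    refine ⟨c / (a * a), ?_⟩
    rw [tmat_smul]
    congr 1
    field_simp

theorem conjBy_tsub (g : symplecticGroup (Fin m) F) (p : V) :
    conjBy (tsub p) g = tsub (g.1 *ᵥ p) := by
  ext x
  constructor
  · rintro ⟨_, ⟨c, rfl⟩, rfl⟩
    exact ⟨c, conj_tmat g p c⟩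
  · rintro ⟨c, rfl⟩
    exact ⟨_, tmat_mem p c, conj_tmat g p c⟩

theorem exists_form_ne {p : V} (hp : p ≠ 0) : ∃ x, sympForm m F x p ≠ 0 := by
  obtain ⟨v, hv⟩ := exists_pair_one hp
  exact ⟨v, by rw [sympForm_flip, hv]; exact neg_ne_zero.2 one_ne_zero⟩

theorem tsub_ne_bot {p : V} (hp : p ≠ 0) : tsub p ≠ ⊥ := by
  intro h
  have h1 : tmat p (1 : F) = 1 := Subgroup.mem_bot.1 (h ▸ tmat_mem p 1)
  obtain ⟨x, hx⟩ := exists_form_ne hp
  have h2 := congrArg (fun g : symplecticGroup (Fin m) F => g.1 *ᵥ x) h1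
  simp only [tmat, sympTransvection_mulVec, one_mul] at h2
  rw [Submonoid.coe_one, one_mulVec, add_eq_left, smul_eq_zero] at h2
  exact h2.elim hx hp

theorem commutator_tsub {p q : V} (h : sympForm m F p q = 0) : ⁅tsub p, tsub q⁆ = ⊥ := by
  refine commutator_eq_bot_of_commute ?_
  rintro _ ⟨c, rfl⟩ _ ⟨d, rfl⟩
  have h1 := conj_tmat (tmat p c) q d
  have hfix : (tmat p c).1 *ᵥ q = q := by
    rw [show (tmat p c).1 = sympTransvection m p c from rfl, sympTransvection_mulVec, sympForm_flip, h,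
      neg_zero, mul_zero, zero_smul, add_zero]
  rw [hfix, mul_inv_eq_iff_eq_mul] at h1
  exact h1

section Pair

variable {u v : Fin m ⊕ Fin m → F}

/-- the two columns -/
def colMat (u v : Fin m ⊕ Fin m → F) : Matrix (Fin m ⊕ Fin m) (Fin 2) F :=
  Matrix.of fun i j => ![u i, v i] j

/-- the coordinate rows -/
def rowMat (u v : Fin m ⊕ Fin m → F) : Matrix (Fin 2) (Fin m ⊕ Fin m) F :=
  Matrix.of fun i j => ![(Matrix.J (Fin m) F *ᵥ v) j, -(Matrix.J (Fin m) F *ᵥ u) j] i

theorem rowMat_mulVec (x : V) : (rowMat u v *ᵥ x) 0 = sympForm m F x v ∧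
    (rowMat u v *ᵥ x) 1 = -sympForm m F x u := by
  constructor
  · show (Matrix.J (Fin m) F *ᵥ v) ⬝ᵥ x = x ⬝ᵥ (Matrix.J (Fin m) F *ᵥ v)
    exact dotProduct_comm _ _
  · show (fun j => -(Matrix.J (Fin m) F *ᵥ u) j) ⬝ᵥ x = -(x ⬝ᵥ (Matrix.J (Fin m) F *ᵥ u))
    rw [dotProduct_comm, ← dotProduct_neg]
    rfl

theorem row_mul_col (h : sympForm m F u v = 1) : rowMat u v * colMat u v = 1 := by
  ext i j
  have key : (rowMat u v * colMat u v) i j = (rowMat u v *ᵥ ![u, v] j) i := by
    simp only [Matrix.mul_apply, Matrix.mulVec, dotProduct, colMat, Matrix.of_apply]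
    fin_cases j <;> simp
  rw [key]
  fin_cases i <;> fin_cases j <;>
    simp [(rowMat_mulVec _).1, (rowMat_mulVec _).2, h, sympForm_self, sympForm_flip u v]

theorem embed_mulVec (h : sympForm m F u v = 1) (g : Matrix (Fin 2) (Fin 2) F) (x : V) :
    SL2Image.embedMat (colMat u v) (rowMat u v) (row_mul_col h) g *ᵥ x =
      x + (((g 0 0 - 1) * sympForm m F x v - g 0 1 * sympForm m F x u) • u +
        (g 1 0 * sympForm m F x v - (g 1 1 - 1) * sympForm m F x u) • v) := by
  rw [SL2Image.embedMat_mulVec, (rowMat_mulVec x).1, (rowMat_mulVec x).2]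
  have e0 : (fun i => colMat u v i 0) = u := funext fun i => by simp [colMat]
  have e1 : (fun i => colMat u v i 1) = v := funext fun i => by simp [colMat]
  rw [e0, e1]
  simp only [mul_neg, sub_eq_add_neg]

theorem embed_mem (h : sympForm m F u v = 1) (g : SpecialLinearGroup (Fin 2) F) :
    SL2Image.embedMat (colMat u v) (rowMat u v) (row_mul_col h) g.1 ∈ symplecticGroup (Fin m) F := by
  rw [mem_symplecticGroup_iff]
  intro x y
  simp only [embed_mulVec h, sympForm_add_left, sympForm_add_right, sympForm_smul_left,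
    sympForm_smul_right, sympForm_self, h, sympForm_flip u v, sympForm_flip y u, sympForm_flip y v]
  have hdet := sl2_det g
  linear_combination (sympForm m F x v * sympForm m F y u - sympForm m F x u * sympForm m F y v) * (-hdet)

/-- The SL₂ of a hyperbolic pair. -/
noncomputable def pairHom (h : sympForm m F u v = 1) :
    SpecialLinearGroup (Fin 2) F →* symplecticGroup (Fin m) F where
  toFun g := ⟨SL2Image.embedMat (colMat u v) (rowMat u v) (row_mul_col h) g.1, embed_mem h g⟩
  map_one' := Subtype.ext (by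
    show SL2Image.embedMat (colMat u v) (rowMat u v) (row_mul_col h) 1 = 1
    rw [map_one])
  map_mul' a b := Subtype.ext (by
    show SL2Image.embedMat (colMat u v) (rowMat u v) (row_mul_col h) (a.1 * b.1) = _
    rw [map_mul]
    rfl)

theorem pairHom_fixes (h : sympForm m F u v = 1) (g : SpecialLinearGroup (Fin 2) F) {x : V}
    (hu : sympForm m F x u = 0) (hv : sympForm m F x v = 0) : (pairHom h g).1 *ᵥ x = x := by
  show SL2Image.embedMat (colMat u v) (rowMat u v) (row_mul_col h) g.1 *ᵥ x = x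
  rw [embed_mulVec h, hu, hv]
  simp

theorem pairHom_injective (h : sympForm m F u v = 1) : Function.Injective (pairHom h) := fun a b e =>
  Subtype.ext (SL2Image.embedMat_injective _ _ (row_mul_col h) (congrArg Subtype.val e))

theorem pairHom_upper (h : sympForm m F u v = 1) (t : F) : pairHom h (upper t) = tmat u (-t) := by
  refine toEquiv_injective (LinearEquiv.ext fun x => ?_)
  show SL2Image.embedMat (colMat u v) (rowMat u v) (row_mul_col h) (upper t).1 *ᵥ x =
    sympTransvection m u (-t) *ᵥ x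
  rw [embed_mulVec h, sympTransvection_mulVec]
  simp [upper_val]

theorem pairHom_lower (h : sympForm m F u v = 1) (t : F) : pairHom h (lower t) = tmat v (-t) := by
  refine toEquiv_injective (LinearEquiv.ext fun x => ?_)
  show SL2Image.embedMat (colMat u v) (rowMat u v) (row_mul_col h) (lower t).1 *ᵥ x =
    sympTransvection m v (-t) *ᵥ x
  rw [embed_mulVec h, sympTransvection_mulVec]
  simp [lower_val]

theorem pair_of_hyperbolic (h : sympForm m F u v = 1) :
    IsRankOnePair (tsub u) (tsub v) ∧ IsPSL2PairOver F (tsub u) (tsub v) := by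
  refine SL2Image.rankOne_and_pslPair (pairHom h) ?_ ?_ ?_
  · rw [(MonoidHom.ker_eq_bot_iff _).2 (pairHom_injective h)]
    exact bot_le
  · ext g
    constructor
    · rintro ⟨a, ha, rfl⟩
      obtain ⟨t, rfl⟩ := Cfsg.Agent.S5016.mem_upper_iff.mp ha
      exact ⟨-t, pairHom_upper h t⟩
    · rintro ⟨c, rfl⟩
      exact ⟨upper (-c), SL2Image.upper_mem _, by rw [pairHom_upper, neg_neg]⟩
  · ext g
    constructor
    · rintro ⟨a, ha, rfl⟩
      obtain ⟨t, rfl⟩ := Cfsg.Agent.S5016.mem_lower_iff.mp ha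
      exact ⟨-t, pairHom_lower h t⟩
    · rintro ⟨c, rfl⟩
      exact ⟨lower (-c), SL2Image.lower_mem _, by rw [pairHom_lower, neg_neg]⟩

theorem range_pairHom (h : sympForm m F u v = 1) : tsub u ⊔ tsub v ≤ (pairHom h).range := by
  refine sup_le ?_ ?_
  · rintro _ ⟨c, rfl⟩; exact ⟨upper (-c), by rw [pairHom_upper, neg_neg]⟩
  · rintro _ ⟨c, rfl⟩; exact ⟨lower (-c), by rw [pairHom_lower, neg_neg]⟩

/-- No non-trivial transvection inside a hyperbolic pair group commutes with it. -/
theorem eq_one_of_central (h : sympForm m F u v = 1) {r : V} (e : F)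
    (hmem : tmat r e ∈ tsub u ⊔ tsub v) (hc : ∀ x ∈ tsub u ⊔ tsub v, tmat r e * x = x * tmat r e) :
    tmat r e = 1 := by
  rcases eq_or_ne e 0 with rfl | he
  · exact tmat_zero r
  rcases eq_or_ne r 0 with rfl | hr
  · refine toEquiv_injective (LinearEquiv.ext fun x => ?_)
    rw [toEquiv_apply, map_one]
    show sympTransvection m 0 e *ᵥ x = x
    rw [sympTransvection_mulVec, smul_zero, add_zero]
  exfalso
  have hperp : ∀ w, w ≠ 0 → tsub w ≤ tsub u ⊔ tsub v → sympForm m F w r = 0 := by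
    intro w hw hle
    by_contra hwr
    have h1 := conj_tmat (tmat r e) w 1
    rw [hc _ (hle (tmat_mem w 1)), mul_inv_cancel_right] at h1
    set w' := (tmat r e).1 *ᵥ w with hw'
    have hw'eq : w' = w + (e * sympForm m F w r) • r := sympTransvection_mulVec r e w
    obtain ⟨x, hx⟩ := exists_form_ne hw
    have h2 := congrArg (fun g : symplecticGroup (Fin m) F => g.1 *ᵥ x) h1
    simp only [tmat, sympTransvection_mulVec, one_mul, add_right_inj] at h2
    -- `r` is a multiple of `w`, hence orthogonal to it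
    have hw's : w' ≠ 0 ∧ ∃ a : F, w = a • w' := by
      have hne : sympForm m F x w' • w' ≠ 0 := h2 ▸ smul_ne_zero hx hw
      refine ⟨fun h0 => hne (by rw [h0, smul_zero]), (sympForm m F x w)⁻¹ * sympForm m F x w', ?_⟩
      rw [← smul_smul, ← h2, smul_smul, inv_mul_cancel₀ hx, one_smul]
    obtain ⟨-, a, ha⟩ := hw's
    have h3 := congrArg (fun z => sympForm m F z w) ha
    simp only [hw'eq, sympForm_smul_left, sympForm_add_left, sympForm_self, zero_add] at h3
    rcases eq_or_ne a 0 with rfl | ha0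
    · exact hw (by rw [ha, zero_smul])
    rw [eq_comm, mul_eq_zero, or_iff_right ha0, mul_eq_zero] at h3
    rcases h3 with h3 | h3
    · exact (mul_ne_zero he hwr) h3
    · exact hwr (by rw [sympForm_flip, h3, neg_zero])
  have hu0 : u ≠ 0 := by
    rintro rfl
    rw [← zero_smul F (0 : V), sympForm_smul_left, zero_mul] at h
    exact zero_ne_one h
  have hv0 : v ≠ 0 := by
    rintro rfl
    rw [← zero_smul F (0 : V), sympForm_smul_right, zero_mul] at h
    exact zero_ne_one h
  have hur := hperp u hu0 le_sup_left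
  have hvr := hperp v hv0 le_sup_right
  obtain ⟨x, hx⟩ := exists_form_ne hr
  set x' := x + ((-(sympForm m F x v)) • u + (sympForm m F x u) • v) with hx'
  have h1 : sympForm m F x' r ≠ 0 := by
    rw [hx', sympForm_add_left, sympForm_add_left, sympForm_smul_left, sympForm_smul_left, hur, hvr,
      mul_zero, mul_zero, add_zero, add_zero]
    exact hx
  have h2 : sympForm m F x' u = 0 := by
    rw [hx', sympForm_add_left, sympForm_add_left, sympForm_smul_left, sympForm_smul_left,
      sympForm_self, sympForm_flip u v, h]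
    ring
  have h3 : sympForm m F x' v = 0 := by
    rw [hx', sympForm_add_left, sympForm_add_left, sympForm_smul_left, sympForm_smul_left,
      sympForm_self, h]
    ring
  obtain ⟨g, hg⟩ := range_pairHom h hmem
  have h4 := pairHom_fixes h g h2 h3
  rw [hg] at h4
  change sympTransvection m r e *ᵥ x' = x' at h4
  rw [sympTransvection_mulVec, add_eq_left, smul_eq_zero] at h4
  exact h4.elim (mul_ne_zero he h1) hr

end Pair

/-- The family of transvection groups. -/
def fam (m : ℕ) (F : Type*) [Field F] : Set (Subgroup (symplecticGroup (Fin m) F)) :=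
  {A | ∃ p : Fin m ⊕ Fin m → F, p ≠ 0 ∧ A = Subgroup.closure {g : symplecticGroup (Fin m) F |
    ∃ c : F, ∀ v : Fin m ⊕ Fin m → F, (g : Matrix (Fin m ⊕ Fin m) (Fin m ⊕ Fin m) F) *ᵥ v =
      v + (c * (v ⬝ᵥ (Matrix.J (Fin m) F *ᵥ p))) • p}}

theorem mem_fam {A : Subgroup (symplecticGroup (Fin m) F)} :
    A ∈ fam m F ↔ ∃ p, p ≠ 0 ∧ A = tsub p := by
  unfold fam
  simp only [Set.mem_ofPred_eq, closure_eq_tsub]

theorem pair_of_ne {p q : V} (h : sympForm m F p q ≠ 0) :
    IsRankOnePair (tsub p) (tsub q) ∧ IsPSL2PairOver F (tsub p) (tsub q) := by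
  have hv : sympForm m F p ((sympForm m F p q)⁻¹ • q) = 1 := by
    rw [sympForm_smul_right, inv_mul_cancel₀ h]
  rw [← tsub_smul (inv_ne_zero h) q]
  exact pair_of_hyperbolic hv

theorem isRootSubgroupSet : IsRootSubgroupSet (fam m F) := by
  refine ⟨?_, ?_, ?_, ?_, ?_⟩
  · intro A hA
    obtain ⟨p, -, rfl⟩ := mem_fam.1 hA
    refine ⟨⟨?_⟩⟩
    rintro ⟨_, c, rfl⟩ ⟨_, d, rfl⟩
    exact Subtype.ext (by show tmat p c * tmat p d = tmat p d * tmat p c; rw [tmat_mul, tmat_mul, add_comm])
  · intro A hA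
    obtain ⟨p, hp, rfl⟩ := mem_fam.1 hA
    exact tsub_ne_bot hp
  · refine le_of_tmat_mem fun v c => ?_
    rcases eq_or_ne v 0 with rfl | hv
    · rw [show tmat (0 : V) c = 1 from toEquiv_injective (LinearEquiv.ext fun x => by
        rw [toEquiv_apply, map_one]
        show sympTransvection m 0 c *ᵥ x = x
        rw [sympTransvection_mulVec, smul_zero, add_zero])]
      exact one_mem _
    · exact Subgroup.mem_iSup_of_mem (tsub v) (Subgroup.mem_iSup_of_mem (mem_fam.2 ⟨v, hv, rfl⟩) (tmat_mem v c))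
  · intro A hA g
    obtain ⟨p, hp, rfl⟩ := mem_fam.1 hA
    refine mem_fam.2 ⟨g.1 *ᵥ p, fun h0 => hp ?_, conjBy_tsub g p⟩
    exact (toEquiv m F g).map_eq_zero_iff.1 h0
  · intro A hA B hB
    obtain ⟨p, -, rfl⟩ := mem_fam.1 hA
    obtain ⟨q, -, rfl⟩ := mem_fam.1 hB
    by_cases h : sympForm m F p q = 0
    · exact Or.inl (commutator_tsub h)
    · exact Or.inr (Or.inl (pair_of_ne h).1)

theorem form_ne_of_pair {p q : V} (hp : p ≠ 0) (h : IsRankOnePair (tsub p) (tsub q)) :
    sympForm m F p q ≠ 0 := by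
  intro h0
  apply tsub_ne_bot hp
  rw [Subgroup.eq_bot_iff_forall]
  intro a ha
  exact rankOne_noncomm h ha fun b hb => commute_of_commutator_eq_bot (commutator_tsub h0) ha hb

theorem main :
    IsRootSubgroupClass (fam (m + 1) F) ∧ IsDegenerateRootSet (fam (m + 1) F) ∧
      IsKRootSubgroupSet F (fam (m + 1) F) ∧ IsConnectedFamily (FAdj (fam (m + 1) F)) (fam (m + 1) F) := by
  have hS := isRootSubgroupSet (m := m + 1) (F := F)
  refine ⟨⟨hS, ?_, ?_⟩, ?_, ⟨hS, ?_⟩, ?_⟩
  · refine ⟨_, mem_fam.2 ⟨Pi.single (Sum.inl 0) (1 : F), ?_, rfl⟩⟩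
    intro h0
    have := congrFun h0 (Sum.inl 0)
    simp at this
  · intro A hA B hB
    obtain ⟨p, hp, rfl⟩ := mem_fam.1 hA
    obtain ⟨q, hq, rfl⟩ := mem_fam.1 hB
    obtain ⟨g, hg⟩ := transitive_ne_zero_matrix p q hp hq
    exact ⟨g, by rw [conjBy_tsub, hg]⟩
  · intro A hA B hB hcase
    obtain ⟨hmem, hcent, -, -⟩ := hcase
    obtain ⟨p, hp, rfl⟩ := mem_fam.1 hA
    obtain ⟨q, hq, rfl⟩ := mem_fam.1 hB
    by_cases h : sympForm (m + 1) F p q = 0
    · exact hS.ne_bot _ hmem (commutator_tsub h)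
    · have hv : sympForm (m + 1) F p ((sympForm (m + 1) F p q)⁻¹ • q) = 1 := by
        rw [sympForm_smul_right, inv_mul_cancel₀ h]
      rw [← tsub_smul (inv_ne_zero h) q] at hmem hcent
      have hle : ⁅tsub p, tsub ((sympForm (m + 1) F p q)⁻¹ • q)⁆ ≤
          tsub p ⊔ tsub ((sympForm (m + 1) F p q)⁻¹ • q) :=
        (Subgroup.commutator_mono le_sup_left le_sup_right).trans (Subgroup.commutator_le_self _)
      obtain ⟨r, hr, hre⟩ := mem_fam.1 hmem
      apply hS.ne_bot _ hmem
      rw [Subgroup.eq_bot_iff_forall]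
      intro c hc
      obtain ⟨e, rfl⟩ : ∃ e, c = tmat r e := by rw [hre] at hc; exact hc
      exact eq_one_of_central hv e (hle hc) (hcent _ hc)
  · intro A hA B hB hpair
    obtain ⟨p, hp, rfl⟩ := mem_fam.1 hA
    obtain ⟨q, hq, rfl⟩ := mem_fam.1 hB
    exact (pair_of_ne (form_ne_of_pair hp hpair)).2
  · intro A hA B hB
    obtain ⟨p, hp, rfl⟩ := mem_fam.1 hA
    obtain ⟨q, hq, rfl⟩ := mem_fam.1 hB
    obtain ⟨x, hx⟩ := exists_form_ne hp
    obtain ⟨y, hy⟩ := exists_form_ne hq
    obtain ⟨r, hrp, hrq⟩ : ∃ r, sympForm (m + 1) F r p ≠ 0 ∧ sympForm (m + 1) F r q ≠ 0 := by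
      by_cases h1 : sympForm (m + 1) F x q = 0
      · by_cases h2 : sympForm (m + 1) F y p = 0
        · exact ⟨x + y, by rw [sympForm_add_left, h2, add_zero]; exact hx,
            by rw [sympForm_add_left, h1, zero_add]; exact hy⟩
        · exact ⟨y, h2, hy⟩
      · exact ⟨x, hx, h1⟩
    have hr : r ≠ 0 := by
      rintro rfl
      rw [← zero_smul F (0 : Fin (m + 1) ⊕ Fin (m + 1) → F), sympForm_smul_left, zero_mul] at hrp
      exact hrp rfl
    have e1 : FAdj (fam (m + 1) F) (tsub p) (tsub r) :=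
      ⟨hA, mem_fam.2 ⟨r, hr, rfl⟩, (pair_of_ne (by rwa [sympForm_flip, neg_ne_zero])).1⟩
    have e2 : FAdj (fam (m + 1) F) (tsub r) (tsub q) :=
      ⟨mem_fam.2 ⟨r, hr, rfl⟩, hB, (pair_of_ne hrq).1⟩
    exact (Relation.ReflTransGen.single e1).tail e2

end CfsgLib.RootGroups.SympRoot
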