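import Cfsg.Agent.Lib.RootGroups.SL2Image
import Cfsg.Agent.Lib.RootGroups.Special
import Cfsg.Agent.Lib.RootGroups.RootSets
import Cfsg.Agent.Lib.UnitaryEmbed.Herm

/-! The unitary transvection groups as a degenerate class of root subgroups of their span. -/

set_option autoImplicit false

namespace CfsgLib.RootGroups.UnitRoot

open Matrix CfsgLib.RootGroups CfsgLib.RootGroups.Steinberg Cfsg

variable {N q : ℕ} {F : Type*} [Field F]

/-- The data of the conjugation of order two and a skew scalar. -/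
structure Setup (F : Type*) [Field F] (q : ℕ) where
  /-- conjugation -/
  σ : F →+* F
  pow_eq : ∀ x, σ x = x ^ q
  invol : ∀ x, σ (σ x) = x
  /-- a skew scalar -/
  δ : F
  δ_ne : δ ≠ 0
  δ_skew : δ + σ δ = 0
  trace : ∀ b, σ b = b → ∃ l, l + σ l = b

theorem exists_setup [Fintype F] (hF : Fintype.card F = q ^ 2) : Nonempty (Setup F q) := by
  obtain ⟨τ, hτ, hne, hττ⟩ := CfsgLib.UnitaryEmbed.exists_conj hF
  obtain ⟨a, ha⟩ : ∃ a, τ a ≠ a := by
    by_contra! hall
    exact hne (RingHom.ext hall)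
  obtain ⟨e, he⟩ : ∃ e, e + τ e ≠ 0 := by
    by_contra! hall
    have h1 := hall 1
    rw [map_one] at h1
    exact ha (by linear_combination hall a - a * h1)
  refine ⟨⟨τ, hτ, hττ, a - τ a, sub_ne_zero.2 (Ne.symm ha), by rw [map_sub, hττ]; ring, fun b hb => ?_⟩⟩
  refine ⟨b / (e + τ e) * e, ?_⟩
  have hfix : τ (e + τ e) = e + τ e := by rw [map_add, hττ, add_comm]
  rw [map_mul, map_div₀, hb, hfix]
  field_simp

local notation "V" => Fin N → F

/-- The action of a unitary matrix. -/
def act (g : SU N F q) (x : Fin N → F) : Fin N → F :=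
  ((g : SpecialLinearGroup (Fin N) F) : Matrix (Fin N) (Fin N) F) *ᵥ x

theorem act_mul (g g' : SU N F q) (x : V) : act (g * g') x = act g (act g' x) := by
  simp [act]

theorem act_one (x : V) : act (1 : SU N F q) x = x := by simp [act]

theorem act_inv_act (g : SU N F q) (x : V) : act g⁻¹ (act g x) = x := by
  rw [← act_mul, inv_mul_cancel, act_one]

theorem act_act_inv (g : SU N F q) (x : V) : act g (act g⁻¹ x) = x := by
  rw [← act_mul, mul_inv_cancel, act_one]

theorem ext_act {g g' : SU N F q} (h : ∀ x, act g x = act g' x) : g = g' :=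
  Subtype.ext (Subtype.ext (Matrix.ext_of_mulVec_single fun _ => h _))

theorem act_add (g : SU N F q) (x y : V) : act g (x + y) = act g x + act g y := mulVec_add _ _ _

theorem act_smul (g : SU N F q) (a : F) (x : V) : act g (a • x) = a • act g x := mulVec_smul _ _ _

theorem h_act (g : SU N F q) (x y : V) :
    hermForm N F q (act g x) (act g y) = hermForm N F q x y := g.2 x y

theorem h_add_left (x y z : V) :
    hermForm N F q (x + y) z = hermForm N F q x z + hermForm N F q y z := by
  simp [hermForm, add_mul, Finset.sum_add_distrib]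

theorem h_smul_left (a : F) (x y : V) : hermForm N F q (a • x) y = a * hermForm N F q x y := by
  simp [hermForm, Finset.mul_sum, mul_assoc]

theorem h_sub_left (x y z : V) :
    hermForm N F q (x - y) z = hermForm N F q x z - hermForm N F q y z := by
  simp [hermForm, sub_mul, Finset.sum_sub_distrib]

theorem h_zero_left (y : V) : hermForm N F q 0 y = 0 := by simp [hermForm]

section

variable (C : Setup F q)
include C

theorem h_add_right (x y z : V) :
    hermForm N F q x (y + z) = hermForm N F q x y + hermForm N F q x z := by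
  simp only [hermForm, ← C.pow_eq, Pi.add_apply, map_add, mul_add, Finset.sum_add_distrib]

theorem h_smul_right (a : F) (x y : V) : hermForm N F q x (a • y) = C.σ a * hermForm N F q x y := by
  simp only [hermForm, ← C.pow_eq, Pi.smul_apply, smul_eq_mul, map_mul, Finset.mul_sum]
  exact Finset.sum_congr rfl fun i _ => by ring

theorem h_flip (x y : V) : hermForm N F q y x = C.σ (hermForm N F q x y) := by
  simp only [hermForm, ← C.pow_eq, map_sum, map_mul, C.invol]
  exact Finset.sum_congr rfl fun i _ => by ring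

theorem h_self_fixed (x : V) : C.σ (hermForm N F q x x) = hermForm N F q x x := (h_flip C x x).symm

theorem h_eq_zero_comm {x y : V} (h : hermForm N F q x y = 0) : hermForm N F q y x = 0 := by
  rw [h_flip C, h, map_zero]

theorem h_single (p : V) (i : Fin N) : hermForm N F q (Pi.single i 1) p = C.σ (p i) := by
  classical
  rw [hermForm, Finset.sum_eq_single i (fun j _ hj => by simp [hj])
    (fun hi => absurd (Finset.mem_univ i) hi)]
  simp [C.pow_eq]

theorem exists_h_ne {p : V} (hp : p ≠ 0) : ∃ x, hermForm N F q x p ≠ 0 := by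
  obtain ⟨i, hi⟩ := Function.ne_iff.1 hp
  exact ⟨Pi.single i 1, by rw [h_single C]; exact fun h => hi (by
    rw [Pi.zero_apply, ← C.invol (p i), h, map_zero])⟩

theorem exists_h_one {p : V} (hp : p ≠ 0) : ∃ x, hermForm N F q x p = 1 := by
  obtain ⟨x, hx⟩ := exists_h_ne C hp
  exact ⟨(hermForm N F q x p)⁻¹ • x, by rw [h_smul_left, inv_mul_cancel₀ hx]⟩

end

/-- The transvection condition of the statement. -/
def tset (p : Fin N → F) : Set (SU N F q) :=
  {g | (∀ v : Fin N → F, ∃ c : F,
      ((g : SpecialLinearGroup (Fin N) F) : Matrix (Fin N) (Fin N) F) *ᵥ v = v + c • p) ∧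
    ∀ v : Fin N → F, hermForm N F q v p = 0 →
      ((g : SpecialLinearGroup (Fin N) F) : Matrix (Fin N) (Fin N) F) *ᵥ v = v}

/-- The transvection group of a vector. -/
def tsub (p : Fin N → F) : Subgroup (SU N F q) := Subgroup.closure (tset p)

variable (C : Setup F q)
include C

/-- `g` is the transvection with centre `p` and skew parameter `c`. -/
def IsTv (p : Fin N → F) (c : F) (g : SU N F q) : Prop :=
  c + C.σ c = 0 ∧ ∀ x, act g x = x + (c * hermForm N F q x p) • p

theorem tset_iff {p : V} (hp : p ≠ 0) (hiso : hermForm N F q p p = 0) {g : SU N F q} :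
    g ∈ tset p ↔ ∃ c, IsTv C p c g := by
  constructor
  · rintro ⟨h1, h2⟩
    obtain ⟨v0, hv0⟩ := exists_h_one C hp
    obtain ⟨c, hc⟩ := h1 v0
    change act g v0 = v0 + c • p at hc
    have hx : ∀ x, act g x = x + (c * hermForm N F q x p) • p := by
      intro x
      have h3 : act g (x - hermForm N F q x p • v0) = x - hermForm N F q x p • v0 := h2 _ (by
        rw [h_sub_left, h_smul_left, hv0, mul_one, sub_self])
      have h4 := act_add g (x - hermForm N F q x p • v0) (hermForm N F q x p • v0)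
      rw [sub_add_cancel, h3, act_smul, hc] at h4
      rw [h4, smul_add, smul_smul, mul_comm c, ← add_assoc, sub_add_cancel]
    refine ⟨c, ?_, hx⟩
    have h5 := h_act g v0 v0
    rw [hc, h_add_left, h_add_right C, h_add_right C, h_smul_left, h_smul_right C, h_smul_right C,
      h_smul_left, hiso, h_flip C v0 p, hv0, map_one, mul_zero, mul_zero, add_zero, mul_one, mul_one,
      add_assoc, add_eq_left, add_comm] at h5
    exact h5
  · rintro ⟨c, -, hx⟩
    refine ⟨fun v => ⟨_, hx v⟩, fun v hv => ?_⟩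
    have := hx v
    rw [hv, mul_zero, zero_smul, add_zero] at this
    exact this

theorem isTv_mul {p : V} (hiso : hermForm N F q p p = 0) {c d : F} {g k : SU N F q}
    (hg : IsTv C p c g) (hk : IsTv C p d k) : IsTv C p (c + d) (g * k) := by
  refine ⟨by rw [map_add]; linear_combination hg.1 + hk.1, fun x => ?_⟩
  rw [act_mul, hk.2, hg.2, h_add_left, h_smul_left, hiso, mul_zero, add_zero, add_mul, add_smul]
  abel

theorem isTv_inv {p : V} (hiso : hermForm N F q p p = 0) {c : F} {g : SU N F q}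
    (hg : IsTv C p c g) : IsTv C p (-c) g⁻¹ := by
  refine ⟨by rw [map_neg]; linear_combination -hg.1, fun x => ?_⟩
  have h1 : act g (x + (-c * hermForm N F q x p) • p) = x := by
    rw [hg.2, h_add_left, h_smul_left, hiso, mul_zero, add_zero, neg_mul, neg_smul]
    abel
  conv_lhs => rw [← h1]
  rw [act_inv_act]

theorem mem_tsub {p : V} (hp : p ≠ 0) (hiso : hermForm N F q p p = 0) {g : SU N F q} :
    g ∈ tsub p ↔ ∃ c, IsTv C p c g := by
  refine ⟨fun hg => ?_, fun hg => Subgroup.subset_closure ((tset_iff C hp hiso).2 hg)⟩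
  induction hg using Subgroup.closure_induction with
  | mem g hg => exact (tset_iff C hp hiso).1 hg
  | one => exact ⟨0, by simp, fun x => by simp [act_one]⟩
  | mul g k _ _ ihg ihk =>
    obtain ⟨c, hc⟩ := ihg
    obtain ⟨d, hd⟩ := ihk
    exact ⟨_, isTv_mul C hiso hc hd⟩
  | inv g _ ih =>
    obtain ⟨c, hc⟩ := ih
    exact ⟨_, isTv_inv C hiso hc⟩

/-- The matrix of a transvection. -/
def tvMat (p : Fin N → F) (c : F) : Matrix (Fin N) (Fin N) F :=
  1 + c • Matrix.vecMulVec p (fun i => C.σ (p i))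

theorem tvMat_mulVec (p : V) (c : F) (x : V) :
    tvMat C p c *ᵥ x = x + (c * hermForm N F q x p) • p := by
  rw [tvMat, add_mulVec, one_mulVec, smul_mulVec, vecMulVec_mulVec, op_smul_eq_smul, smul_smul]
  congr 3
  simp only [dotProduct, hermForm, C.pow_eq]
  exact Finset.sum_congr rfl fun i _ => mul_comm _ _

theorem exists_isTv {p : V} (hiso : hermForm N F q p p = 0) {c : F} (hc : c + C.σ c = 0) :
    ∃ g : SU N F q, IsTv C p c g := by
  have hdet : (tvMat C p c).det = 1 := by
    rw [tvMat, ← Matrix.smul_vecMulVec, Matrix.vecMulVec_eq Unit,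
      Matrix.det_one_add_replicateCol_mul_replicateRow, dotProduct_smul]
    have : (fun i => C.σ (p i)) ⬝ᵥ p = hermForm N F q p p := by
      simp only [dotProduct, hermForm, C.pow_eq]
      exact Finset.sum_congr rfl fun i _ => mul_comm _ _
    rw [this, hiso, smul_zero, add_zero]
  refine ⟨⟨⟨tvMat C p c, hdet⟩, fun x y => ?_⟩, hc, fun x => tvMat_mulVec C p c x⟩
  show hermForm N F q (tvMat C p c *ᵥ x) (tvMat C p c *ᵥ y) = hermForm N F q x y
  rw [tvMat_mulVec, tvMat_mulVec, h_add_left, h_add_right C, h_add_right C, h_smul_left, h_smul_left,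
    h_smul_right C, h_smul_right C, hiso, map_mul, ← h_flip C y p]
  linear_combination (hermForm N F q x p * hermForm N F q p y) * hc

theorem isTv_unique {p : V} {c : F} {g g' : SU N F q} (h : IsTv C p c g) (h' : IsTv C p c g') :
    g = g' := ext_act fun x => by rw [h.2, h'.2]

theorem tsub_ne_bot {p : V} (hp : p ≠ 0) (hiso : hermForm N F q p p = 0) :
    tsub (q := q) p ≠ ⊥ := by
  intro hbot
  obtain ⟨g, hg⟩ := exists_isTv C hiso C.δ_skew
  have h1 : g = 1 := Subgroup.mem_bot.1 (hbot ▸ (mem_tsub C hp hiso).2 ⟨_, hg⟩)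
  obtain ⟨x, hx⟩ := exists_h_ne C hp
  have h2 := hg.2 x
  rw [h1, act_one, left_eq_add, smul_eq_zero] at h2
  exact h2.elim (mul_ne_zero C.δ_ne hx) hp

omit C in
theorem act_ne_zero {g : SU N F q} {p : V} (hp : p ≠ 0) : act g p ≠ 0 := fun h => hp (by
  rw [← act_inv_act g p, h]
  exact mulVec_zero _)

theorem isTv_conj {p : V} {c : F} {g : SU N F q} (hg : IsTv C p c g) (k : SU N F q) :
    IsTv C (act k p) c (k * g * k⁻¹) := by
  refine ⟨hg.1, fun x => ?_⟩
  rw [act_mul, act_mul, hg.2, act_add, act_act_inv, act_smul, ← h_act k (act k⁻¹ x) p, act_act_inv]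

theorem conjBy_tsub (k : SU N F q) {p : V} (hp : p ≠ 0) (hiso : hermForm N F q p p = 0) :
    conjBy (tsub p) k = tsub (act k p) := by
  have hiso' : hermForm N F q (act k p) (act k p) = 0 := by rw [h_act, hiso]
  ext g
  rw [mem_conjBy, mem_tsub C hp hiso, mem_tsub C (act_ne_zero hp) hiso']
  constructor
  · rintro ⟨c, hc⟩
    exact ⟨c, by simpa [mul_assoc] using isTv_conj C hc k⟩
  · rintro ⟨c, hc⟩
    exact ⟨c, by simpa [mul_assoc, act_inv_act] using isTv_conj C hc k⁻¹⟩

theorem tsub_smul {p : V} (hp : p ≠ 0) (hiso : hermForm N F q p p = 0) {a : F} (ha : a ≠ 0) :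
    tsub (q := q) (a • p) = tsub p := by
  have hσa : C.σ a ≠ 0 := (map_ne_zero C.σ).2 ha
  have hiso' : hermForm N F q (a • p) (a • p) = 0 := by
    rw [h_smul_left, h_smul_right C, hiso, mul_zero, mul_zero]
  ext g
  rw [mem_tsub C (smul_ne_zero ha hp) hiso', mem_tsub C hp hiso]
  constructor
  · rintro ⟨c, hc, hx⟩
    refine ⟨c * (a * C.σ a), ?_, fun x => ?_⟩
    · rw [map_mul, map_mul, C.invol]
      linear_combination (a * C.σ a) * hc
    · rw [hx, h_smul_right C, smul_smul]
      congr 2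
      ring
  · rintro ⟨c, hc, hx⟩
    refine ⟨c / (a * C.σ a), ?_, fun x => ?_⟩
    · rw [map_div₀, map_mul, C.invol, mul_comm (C.σ a) a, ← add_div, hc, zero_div]
    · rw [hx, h_smul_right C, smul_smul]
      congr 2
      field_simp

theorem commutator_tsub {p r : V} (hp : p ≠ 0) (hpiso : hermForm N F q p p = 0) (hr : r ≠ 0)
    (hriso : hermForm N F q r r = 0) (h : hermForm N F q p r = 0) :
    ⁅tsub (q := q) p, tsub (q := q) r⁆ = ⊥ := by
  refine commutator_eq_bot_of_commute fun a ha b hb => ?_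
  obtain ⟨c, hc⟩ := (mem_tsub C hp hpiso).1 ha
  obtain ⟨d, hd⟩ := (mem_tsub C hr hriso).1 hb
  have hfix : act a r = r := by
    rw [hc.2, h_eq_zero_comm C h, mul_zero, zero_smul, add_zero]
  have h1 := isTv_conj C hd a
  rw [hfix] at h1
  have := isTv_unique C h1 hd
  rwa [mul_inv_eq_iff_eq_mul] at this

section Pair

variable {L : Type} [Field L] (e : L →+* F) (he : ∀ a, C.σ (e a) = e a)
  (hsurj : ∀ b, C.σ b = b → ∃ a, e a = b) {u v : Fin N → F}

/-- the two columns -/
def colMat (u v : Fin N → F) : Matrix (Fin N) (Fin 2) F := Matrix.of fun i j => ![u i, v i] j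

/-- the coordinate rows -/
def rowMat (u v : Fin N → F) : Matrix (Fin 2) (Fin N) F :=
  Matrix.of fun i j => ![C.δ⁻¹ * C.σ (v j), -(C.δ⁻¹ * C.σ (u j))] i

theorem rowMat_mulVec (u v x : V) : (rowMat C u v *ᵥ x) 0 = C.δ⁻¹ * hermForm N F q x v ∧
    (rowMat C u v *ᵥ x) 1 = -(C.δ⁻¹ * hermForm N F q x u) := by
  constructor
  · simp only [rowMat, Matrix.mulVec, dotProduct, Matrix.of_apply, hermForm, C.pow_eq, Finset.mul_sum,
      Matrix.cons_val_zero]
    exact Finset.sum_congr rfl fun i _ => by ring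
  · simp only [rowMat, Matrix.mulVec, dotProduct, Matrix.of_apply, hermForm, C.pow_eq, Finset.mul_sum,
      Matrix.cons_val_one, Matrix.cons_val_zero, ← Finset.sum_neg_distrib]
    exact Finset.sum_congr rfl fun i _ => by ring

/-- A hyperbolic pair normalised by the skew scalar. -/
structure Hyp (u v : Fin N → F) : Prop where
  uu : hermForm N F q u u = 0
  vv : hermForm N F q v v = 0
  uv : hermForm N F q u v = C.δ

variable {C}

theorem Hyp.vu (hp : Hyp C u v) : hermForm N F q v u = -C.δ := by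
  rw [h_flip C, hp.uv]
  linear_combination C.δ_skew

theorem Hyp.ne_left (hp : Hyp C u v) : u ≠ 0 := fun h => C.δ_ne (by
  rw [← hp.uv, h, h_zero_left])

theorem Hyp.ne_right (hp : Hyp C u v) : v ≠ 0 := fun h => C.δ_ne (by
  have := hp.vu
  rw [h, h_zero_left, eq_comm, neg_eq_zero] at this
  exact this)

theorem row_mul_col (hp : Hyp C u v) : rowMat C u v * colMat u v = 1 := by
  ext i j
  have key : (rowMat C u v * colMat u v) i j = (rowMat C u v *ᵥ ![u, v] j) i := by
    simp only [Matrix.mul_apply, Matrix.mulVec, dotProduct, colMat, Matrix.of_apply]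
    fin_cases j <;> simp
  rw [key]
  fin_cases i <;> fin_cases j <;>
    simp [(rowMat_mulVec C u v _).1, (rowMat_mulVec C u v _).2, hp.uu, hp.vv, hp.uv, hp.vu, C.δ_ne]

theorem embed_mulVec (hp : Hyp C u v) (g : Matrix (Fin 2) (Fin 2) F) (x : V) :
    SL2Image.embedMat (colMat u v) (rowMat C u v) (row_mul_col hp) g *ᵥ x =
      x + (((g 0 0 - 1) * (C.δ⁻¹ * hermForm N F q x v) - g 0 1 * (C.δ⁻¹ * hermForm N F q x u)) • u +
        (g 1 0 * (C.δ⁻¹ * hermForm N F q x v) - (g 1 1 - 1) * (C.δ⁻¹ * hermForm N F q x u)) • v) := by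
  rw [SL2Image.embedMat_mulVec, (rowMat_mulVec C u v x).1, (rowMat_mulVec C u v x).2]
  have e0 : (fun i => colMat u v i 0) = u := funext fun i => by simp [colMat]
  have e1 : (fun i => colMat u v i 1) = v := funext fun i => by simp [colMat]
  rw [e0, e1]
  simp only [mul_neg, sub_eq_add_neg]

theorem embed_det (hp : Hyp C u v) (g : SpecialLinearGroup (Fin 2) L) :
    (SL2Image.embedMat (colMat u v) (rowMat C u v) (row_mul_col hp) (g.1.map e)).det = 1 := by
  show (1 + colMat u v * (g.1.map e - 1) * rowMat C u v).det = 1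
  rw [Matrix.det_one_add_mul_comm, ← Matrix.mul_assoc, row_mul_col hp, Matrix.one_mul, add_sub_cancel]
  exact ((RingHom.map_det e g.1).symm).trans (by rw [g.2, map_one])

include he in
theorem embed_preserves (hp : Hyp C u v) (g : SpecialLinearGroup (Fin 2) L) (x y : V) :
    hermForm N F q (SL2Image.embedMat (colMat u v) (rowMat C u v) (row_mul_col hp) (g.1.map e) *ᵥ x)
      (SL2Image.embedMat (colMat u v) (rowMat C u v) (row_mul_col hp) (g.1.map e) *ᵥ y) =
      hermForm N F q x y := by
  have hδ : C.σ C.δ⁻¹ = -C.δ⁻¹ := by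
    rw [map_inv₀, eq_neg_of_add_eq_zero_right C.δ_skew, inv_neg]
  have hdet : e (g.1 0 0) * e (g.1 1 1) - e (g.1 0 1) * e (g.1 1 0) = 1 := by
    rw [← map_mul, ← map_mul, ← map_sub, sl2_det g, map_one]
  simp only [embed_mulVec hp, Matrix.map_apply, h_add_left, h_add_right C, h_smul_left,
    h_smul_right C, hp.uu, hp.vv, hp.uv, hp.vu, map_mul, map_sub, map_neg, he, hδ, map_one,
    ← h_flip C y u, ← h_flip C y v]
  have hd : C.δ * C.δ⁻¹ = 1 := mul_inv_cancel₀ C.δ_ne
  linear_combination
    (C.δ⁻¹ * (hermForm N F q x v * hermForm N F q u y - hermForm N F q x u * hermForm N F q v y)) * hdet +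
    (C.δ⁻¹ * ((e (g.1 0 0) - 1) * (e (g.1 1 1) - 1) - e (g.1 0 1) * e (g.1 1 0)) *
      (hermForm N F q x v * hermForm N F q u y - hermForm N F q x u * hermForm N F q v y)) * hd

/-- The SL₂ of a hyperbolic pair. -/
noncomputable def pairHom (hp : Hyp C u v) : SpecialLinearGroup (Fin 2) L →* SU N F q where
  toFun g := ⟨⟨SL2Image.embedMat (colMat u v) (rowMat C u v) (row_mul_col hp) (g.1.map e),
    embed_det e hp g⟩, embed_preserves e he hp g⟩
  map_one' := Subtype.ext (Subtype.ext (by
    show SL2Image.embedMat (colMat u v) (rowMat C u v) (row_mul_col hp)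
      ((1 : Matrix (Fin 2) (Fin 2) L).map e) = 1
    rw [Matrix.map_one e (map_zero e) (map_one e), map_one]))
  map_mul' a b := Subtype.ext (Subtype.ext (by
    show SL2Image.embedMat (colMat u v) (rowMat C u v) (row_mul_col hp) ((a.1 * b.1).map e) = _
    rw [Matrix.map_mul, map_mul]
    rfl))

theorem act_pairHom (hp : Hyp C u v) (g : SpecialLinearGroup (Fin 2) L) (x : V) :
    act (pairHom e he hp g) x =
      SL2Image.embedMat (colMat u v) (rowMat C u v) (row_mul_col hp) (g.1.map e) *ᵥ x := rfl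

theorem pairHom_fixes (hp : Hyp C u v) (g : SpecialLinearGroup (Fin 2) L) {x : V}
    (hu : hermForm N F q x u = 0) (hv : hermForm N F q x v = 0) : act (pairHom e he hp g) x = x := by
  rw [act_pairHom, embed_mulVec hp, hu, hv]
  simp

theorem pairHom_injective (hp : Hyp C u v) : Function.Injective (pairHom e he hp) := fun a b h =>
  Subtype.ext (Matrix.map_injective e.injective
    (SL2Image.embedMat_injective _ _ (row_mul_col hp) (congrArg (fun g : SU N F q => g.1.1) h)))

theorem skew_of_fixed (t : F) (ht : C.σ t = t) : -(t * C.δ⁻¹) + C.σ (-(t * C.δ⁻¹)) = 0 := by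
  rw [map_neg, map_mul, ht, map_inv₀, eq_neg_of_add_eq_zero_right C.δ_skew, inv_neg]
  ring

theorem fixed_of_skew {c : F} (hc : c + C.σ c = 0) : C.σ (-(c * C.δ)) = -(c * C.δ) := by
  rw [map_neg, map_mul, eq_neg_of_add_eq_zero_right hc, eq_neg_of_add_eq_zero_right C.δ_skew]
  ring

theorem pairHom_upper (hp : Hyp C u v) (t : L) :
    IsTv C u (-(e t * C.δ⁻¹)) (pairHom e he hp (upper t)) := by
  refine ⟨skew_of_fixed _ (he t), fun x => ?_⟩
  rw [act_pairHom, embed_mulVec hp]
  simp [upper_val, mul_assoc]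

theorem pairHom_lower (hp : Hyp C u v) (t : L) :
    IsTv C v (-(e t * C.δ⁻¹)) (pairHom e he hp (lower t)) := by
  refine ⟨skew_of_fixed _ (he t), fun x => ?_⟩
  rw [act_pairHom, embed_mulVec hp]
  simp [lower_val, mul_assoc]

include hsurj in
theorem map_upper (hp : Hyp C u v) :
    (upperUnipotentSL2 L).map (pairHom e he hp) = tsub u := by
  ext g
  rw [mem_tsub C hp.ne_left hp.uu]
  constructor
  · rintro ⟨a, ha, rfl⟩
    obtain ⟨t, rfl⟩ := Cfsg.Agent.S5016.mem_upper_iff.mp ha
    exact ⟨_, pairHom_upper e he hp t⟩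
  · rintro ⟨c, hc⟩
    obtain ⟨t, ht⟩ := hsurj _ (fixed_of_skew hc.1)
    refine ⟨upper t, SL2Image.upper_mem t, isTv_unique C (pairHom_upper e he hp t) ?_⟩
    rwa [ht, neg_mul, neg_neg, mul_inv_cancel_right₀ C.δ_ne]

include hsurj in
theorem map_lower (hp : Hyp C u v) :
    (lowerUnipotentSL2 L).map (pairHom e he hp) = tsub v := by
  ext g
  rw [mem_tsub C hp.ne_right hp.vv]
  constructor
  · rintro ⟨a, ha, rfl⟩
    obtain ⟨t, rfl⟩ := Cfsg.Agent.S5016.mem_lower_iff.mp ha
    exact ⟨_, pairHom_lower e he hp t⟩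
  · rintro ⟨c, hc⟩
    obtain ⟨t, ht⟩ := hsurj _ (fixed_of_skew hc.1)
    refine ⟨lower t, SL2Image.lower_mem t, isTv_unique C (pairHom_lower e he hp t) ?_⟩
    rwa [ht, neg_mul, neg_neg, mul_inv_cancel_right₀ C.δ_ne]

end Pair

/-- The family of transvection groups. -/
def fam (N : ℕ) (F : Type*) [Field F] (q : ℕ) : Set (Subgroup (SU N F q)) :=
  {A | ∃ p : Fin N → F, p ≠ 0 ∧ hermForm N F q p p = 0 ∧ A = Subgroup.closure (tset p)}

/-- The subgroup generated by the transvection groups. -/
def span (N : ℕ) (F : Type*) [Field F] (q : ℕ) : Subgroup (SU N F q) := ⨆ B ∈ fam N F q, B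

/-- The family inside the subgroup it generates. -/
def famG (N : ℕ) (F : Type*) [Field F] (q : ℕ) : Set (Subgroup (span N F q)) :=
  (fun A : Subgroup (SU N F q) => A.subgroupOf (span N F q)) '' fam N F q

omit C in
theorem tsub_le_span {p : V} (hp : p ≠ 0) (hiso : hermForm N F q p p = 0) :
    tsub p ≤ span N F q :=
  le_iSup₂_of_le (tsub p) ⟨p, hp, hiso, rfl⟩ le_rfl

omit C in
theorem mem_famG {A : Subgroup (span N F q)} :
    A ∈ famG N F q ↔ ∃ p, p ≠ 0 ∧ hermForm N F q p p = 0 ∧ A = (tsub p).subgroupOf (span N F q) := by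
  constructor
  · rintro ⟨_, ⟨p, h1, h2, rfl⟩, rfl⟩
    exact ⟨p, h1, h2, rfl⟩
  · rintro ⟨p, h1, h2, rfl⟩
    exact ⟨tsub p, ⟨p, h1, h2, rfl⟩, rfl⟩

section Main

variable {L : Type} [Field L] (e : L →+* F) (he : ∀ a, C.σ (e a) = e a)
  (hsurj : ∀ b, C.σ b = b → ∃ a, e a = b)
include he hsurj

theorem pair_of_hyp {u v : V} (hp : Hyp C u v) :
    IsRankOnePair ((tsub u).subgroupOf (span N F q)) ((tsub v).subgroupOf (span N F q)) ∧
      IsPSL2PairOver L ((tsub u).subgroupOf (span N F q)) ((tsub v).subgroupOf (span N F q)) := by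
  have hrange : ∀ g, pairHom e he hp g ∈ span N F q := by
    intro g
    have hg : g ∈ upperUnipotentSL2 L ⊔ lowerUnipotentSL2 L := by
      rw [SL2Image.upper_sup_lower]; trivial
    have := Subgroup.mem_map_of_mem (pairHom e he hp) hg
    rw [Subgroup.map_sup, map_upper e he hsurj hp, map_lower e he hsurj hp] at this
    exact sup_le (tsub_le_span hp.ne_left hp.uu) (tsub_le_span hp.ne_right hp.vv) this
  refine SL2Image.rankOne_and_pslPair ((pairHom e he hp).codRestrict _ hrange) ?_ ?_ ?_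
  · rw [MonoidHom.ker_codRestrict, (MonoidHom.ker_eq_bot_iff _).2 (pairHom_injective e he hp)]
    exact bot_le
  · rw [← map_upper e he hsurj hp]
    ext g
    constructor
    · rintro ⟨a, ha, rfl⟩; exact ⟨a, ha, rfl⟩
    · rintro ⟨a, ha, hag⟩; exact ⟨a, ha, Subtype.ext hag⟩
  · rw [← map_lower e he hsurj hp]
    ext g
    constructor
    · rintro ⟨a, ha, rfl⟩; exact ⟨a, ha, rfl⟩
    · rintro ⟨a, ha, hag⟩; exact ⟨a, ha, Subtype.ext hag⟩

omit e he hsurj in
theorem hyp_of_ne {p r : V} (hpiso : hermForm N F q p p = 0) (hriso : hermForm N F q r r = 0)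
    (h : hermForm N F q p r ≠ 0) :
    ∃ a : F, a ≠ 0 ∧ Hyp C p (a • r) := by
  refine ⟨C.σ (C.δ / hermForm N F q p r), (map_ne_zero C.σ).2 (div_ne_zero C.δ_ne h), hpiso, ?_, ?_⟩
  · rw [h_smul_left, h_smul_right C, hriso, mul_zero, mul_zero]
  · rw [h_smul_right C, C.invol, div_mul_cancel₀ _ h]

theorem pair_of_ne {p r : V} (hpiso : hermForm N F q p p = 0) (hr : r ≠ 0)
    (hriso : hermForm N F q r r = 0) (h : hermForm N F q p r ≠ 0) :
    IsRankOnePair ((tsub p).subgroupOf (span N F q)) ((tsub r).subgroupOf (span N F q)) ∧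
      IsPSL2PairOver L ((tsub p).subgroupOf (span N F q)) ((tsub r).subgroupOf (span N F q)) := by
  obtain ⟨a, ha, hp⟩ := hyp_of_ne C hpiso hriso h
  rw [← tsub_smul C hr hriso ha]
  exact pair_of_hyp C e he hsurj hp

omit e he hsurj in
theorem commute_of_perp {p r : V} (hp : p ≠ 0) (hpiso : hermForm N F q p p = 0) (hr : r ≠ 0)
    (hriso : hermForm N F q r r = 0) (h : hermForm N F q p r = 0) :
    ⁅(tsub p).subgroupOf (span N F q), (tsub r).subgroupOf (span N F q)⁆ = ⊥ :=
  commutator_eq_bot_of_commute fun a ha b hb =>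
    Subtype.ext (commute_of_commutator_eq_bot (commutator_tsub C hp hpiso hr hriso h) ha hb)

omit e he hsurj in
theorem subgroupOf_ne_bot {p : V} (hp : p ≠ 0) (hiso : hermForm N F q p p = 0) :
    (tsub p).subgroupOf (span N F q) ≠ ⊥ := by
  intro h
  apply tsub_ne_bot C hp hiso
  rw [← Subgroup.map_subgroupOf_eq_of_le (tsub_le_span hp hiso), h, Subgroup.map_bot]

omit e he hsurj in
theorem h_ne_of_pair {p r : V} (hp : p ≠ 0) (hpiso : hermForm N F q p p = 0) (hr : r ≠ 0)
    (hriso : hermForm N F q r r = 0)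
    (h : IsRankOnePair ((tsub p).subgroupOf (span N F q)) ((tsub r).subgroupOf (span N F q))) :
    hermForm N F q p r ≠ 0 := by
  intro h0
  apply subgroupOf_ne_bot C hp hpiso
  rw [Subgroup.eq_bot_iff_forall]
  exact fun a ha => rankOne_noncomm h ha fun b hb =>
    commute_of_commutator_eq_bot (commute_of_perp C hp hpiso hr hriso h0) ha hb

theorem isRootSubgroupSet : IsRootSubgroupSet (famG N F q) := by
  refine ⟨?_, ?_, ?_, ?_, ?_⟩
  · intro A hA
    obtain ⟨p, hp, hiso, rfl⟩ := mem_famG.1 hA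
    refine ⟨⟨?_⟩⟩
    rintro ⟨a, ha⟩ ⟨b, hb⟩
    obtain ⟨c, hc⟩ := (mem_tsub C hp hiso).1 ha
    obtain ⟨d, hd⟩ := (mem_tsub C hp hiso).1 hb
    have h1 := isTv_mul C hiso hc hd
    have h2 := isTv_mul C hiso hd hc
    rw [add_comm] at h2
    exact Subtype.ext (Subtype.ext (isTv_unique C h1 h2))
  · intro A hA
    obtain ⟨p, hp, hiso, rfl⟩ := mem_famG.1 hA
    exact subgroupOf_ne_bot C hp hiso
  · refine Subgroup.map_injective (span N F q).subtype_injective ?_
    rw [Subgroup.map_iSup, ← MonoidHom.range_eq_map, Subgroup.range_subtype]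
    apply le_antisymm
    · exact iSup_le fun A => by
        rw [Subgroup.map_iSup]
        exact iSup_le fun _ => Subgroup.map_subtype_le _
    · refine iSup₂_le fun B hB => ?_
      refine le_iSup_of_le (B.subgroupOf (span N F q)) ?_
      rw [Subgroup.map_iSup]
      refine le_iSup_of_le ⟨B, hB, rfl⟩ ?_
      exact (Subgroup.map_subgroupOf_eq_of_le (show B ≤ span N F q from le_iSup₂_of_le B hB le_rfl)).ge
  · intro A hA g
    obtain ⟨p, hp, hiso, rfl⟩ := mem_famG.1 hA
    refine mem_famG.2 ⟨act g.1 p, act_ne_zero hp, by rw [h_act, hiso], ?_⟩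
    rw [← conjBy_tsub C g.1 hp hiso]
    ext x
    rw [mem_conjBy, Subgroup.mem_subgroupOf, Subgroup.mem_subgroupOf, mem_conjBy]
    rfl
  · intro A hA B hB
    obtain ⟨p, hp, hpiso, rfl⟩ := mem_famG.1 hA
    obtain ⟨r, hr, hriso, rfl⟩ := mem_famG.1 hB
    by_cases h : hermForm N F q p r = 0
    · exact Or.inl (commute_of_perp C hp hpiso hr hriso h)
    · exact Or.inr (Or.inl (pair_of_ne C e he hsurj hpiso hr hriso h).1)

theorem connected : IsConnectedFamily (FAdj (famG N F q)) (famG N F q) := by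
  intro A hA B hB
  obtain ⟨p, hp, hpiso, rfl⟩ := mem_famG.1 hA
  obtain ⟨r, hr, hriso, rfl⟩ := mem_famG.1 hB
  by_cases h : hermForm N F q p r = 0
  swap
  · exact Relation.ReflTransGen.single ⟨hA, hB, (pair_of_ne C e he hsurj hpiso hr hriso h).1⟩
  obtain ⟨x, hx⟩ := exists_h_ne C hp
  obtain ⟨y, hy⟩ := exists_h_ne C hr
  obtain ⟨w, hwp, hwr⟩ : ∃ w, hermForm N F q w p ≠ 0 ∧ hermForm N F q w r ≠ 0 := by
    by_cases h1 : hermForm N F q x r = 0
    · by_cases h2 : hermForm N F q y p = 0
      · exact ⟨x + y, by rw [h_add_left, h2, add_zero]; exact hx,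
          by rw [h_add_left, h1, zero_add]; exact hy⟩
      · exact ⟨y, h2, hy⟩
    · exact ⟨x, hx, h1⟩
  obtain ⟨l, hl⟩ := C.trace (-(hermForm N F q w w)) (by rw [map_neg, h_self_fixed C])
  set z := w + (l / hermForm N F q p w) • p with hz
  have hpw : hermForm N F q p w ≠ 0 := fun h0 => hwp (h_eq_zero_comm C h0)
  have hzz : hermForm N F q z z = 0 := by
    rw [hz, h_add_left, h_add_right C, h_add_right C, h_smul_left, h_smul_right C, h_smul_right C,
      h_smul_left, hpiso, mul_zero, mul_zero, add_zero, div_mul_cancel₀ _ hpw, map_div₀,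
      ← h_flip C p w, div_mul_cancel₀ _ hwp]
    linear_combination hl
  have hzp : hermForm N F q z p ≠ 0 := by
    rw [hz, h_add_left, h_smul_left, hpiso, mul_zero, add_zero]; exact hwp
  have hzr : hermForm N F q z r ≠ 0 := by
    rw [hz, h_add_left, h_smul_left, h, mul_zero, add_zero]; exact hwr
  have hz0 : z ≠ 0 := fun h0 => hzp (by rw [h0, h_zero_left])
  have hpz : hermForm N F q p z ≠ 0 := fun h0 => hzp (h_eq_zero_comm C h0)
  have hC : (tsub z).subgroupOf (span N F q) ∈ famG N F q := mem_famG.2 ⟨z, hz0, hzz, rfl⟩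
  exact (Relation.ReflTransGen.single (r := FAdj (famG N F q))
    ⟨hA, hC, (pair_of_ne C e he hsurj hpiso hz0 hzz hpz).1⟩).tail
    ⟨hC, hB, (pair_of_ne C e he hsurj hzz hr hriso hzr).1⟩

theorem degenerate : IsDegenerateRootSet (famG N F q) := by
  intro A hA B hB hcase
  have hS := isRootSubgroupSet C e he hsurj (N := N)
  obtain ⟨hmem, hcent, -, -⟩ := hcase
  obtain ⟨p, hp, hpiso, rfl⟩ := mem_famG.1 hA
  obtain ⟨r, hr, hriso, rfl⟩ := mem_famG.1 hB
  by_cases h : hermForm N F q p r = 0
  · exact hS.ne_bot _ hmem (commute_of_perp C hp hpiso hr hriso h)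
  obtain ⟨s, hs, hsiso, hse⟩ := mem_famG.1 hmem
  apply hS.ne_bot _ hmem
  rw [Subgroup.eq_bot_iff_forall]
  intro c hc
  obtain ⟨a, ha, hyp⟩ := hyp_of_ne C hpiso hriso h
  have hperp : ∀ w : V, w ≠ 0 → hermForm N F q w w = 0 →
      (tsub w).subgroupOf (span N F q) ≤
        (tsub p).subgroupOf (span N F q) ⊔ (tsub r).subgroupOf (span N F q) →
      c ≠ 1 → hermForm N F q s w = 0 := by
    intro w hw hwiso hle hc1
    by_contra hne
    refine hc1 (rankOne_noncomm (pair_of_ne C e he hsurj hsiso hw hwiso hne).1 (hse ▸ hc) ?_)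
    exact fun b hb => hcent c hc b (hle hb)
  by_contra hc1
  have h1 := hperp p hp hpiso le_sup_left hc1
  have h2 := hperp r hr hriso le_sup_right hc1
  have hcs : (c : SU N F q) ∈ tsub s := (Subgroup.mem_subgroupOf.1 (hse ▸ hc))
  obtain ⟨d, hd⟩ := (mem_tsub C hs hsiso).1 hcs
  have hcr : (c : SU N F q) ∈ (pairHom e he hyp).range := by
    have hle : ⁅(tsub p).subgroupOf (span N F q), (tsub r).subgroupOf (span N F q)⁆ ≤
        (tsub p).subgroupOf (span N F q) ⊔ (tsub r).subgroupOf (span N F q) :=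
      (Subgroup.commutator_mono le_sup_left le_sup_right).trans (Subgroup.commutator_le_self _)
    have := Subgroup.mem_map_of_mem (span N F q).subtype (hle hc)
    rw [Subgroup.map_sup, Subgroup.map_subgroupOf_eq_of_le (tsub_le_span hp hpiso),
      Subgroup.map_subgroupOf_eq_of_le (tsub_le_span hr hriso), ← tsub_smul C hr hriso ha,
      ← map_upper e he hsurj hyp, ← map_lower e he hsurj hyp, ← Subgroup.map_sup,
      SL2Image.upper_sup_lower, ← MonoidHom.range_eq_map] at this
    exact this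
  obtain ⟨g, hg⟩ := hcr
  obtain ⟨x, hx⟩ := exists_h_ne C hs
  set v := a • r with hv
  set x' := x + ((-(C.δ⁻¹ * hermForm N F q x v)) • p + (C.δ⁻¹ * hermForm N F q x p) • v) with hx'
  have hps : hermForm N F q p s = 0 := h_eq_zero_comm C h1
  have hvs : hermForm N F q v s = 0 := by
    rw [hv, h_smul_left, h_eq_zero_comm C h2, mul_zero]
  have e1 : hermForm N F q x' s ≠ 0 := by
    rw [hx', h_add_left, h_add_left, h_smul_left, h_smul_left, hps, hvs, mul_zero, mul_zero, add_zero,
      add_zero]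
    exact hx
  have e2 : hermForm N F q x' p = 0 := by
    rw [hx', h_add_left, h_add_left, h_smul_left, h_smul_left, hpiso, hyp.vu, mul_zero, zero_add]
    have := C.δ_ne
    field_simp
    ring
  have e3 : hermForm N F q x' v = 0 := by
    rw [hx', h_add_left, h_add_left, h_smul_left, h_smul_left, hyp.vv, hyp.uv, mul_zero, add_zero]
    have := C.δ_ne
    field_simp
    ring
  have e4 := pairHom_fixes e he hyp g e2 e3
  rw [hg, hd.2, add_eq_left, smul_eq_zero] at e4
  rcases e4 with e4 | e4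
  · apply hc1
    refine Subtype.ext (ext_act fun z => ?_)
    rw [hd.2, (mul_eq_zero.1 e4).resolve_right e1, zero_mul, zero_smul, add_zero]
    exact (act_one z).symm
  · exact hs e4

theorem oneClass (hne : (famG N F q).Nonempty) : IsConjClassOfSubgroups (famG N F q) := by
  refine ⟨hne, fun A hA B hB => ?_⟩
  have hpath := connected C e he hsurj A hA B hB
  induction hpath with
  | refl => exact ⟨1, (conjBy_one A).symm⟩
  | @tail X Y _ hadj ih =>
    obtain ⟨g, hg⟩ := ih hadj.1
    obtain ⟨a, ha, ha1⟩ : ∃ a ∈ X, a ≠ 1 := by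
      by_contra! hall
      exact (isRootSubgroupSet C e he hsurj).ne_bot X hadj.1 ((Subgroup.eq_bot_iff_forall X).2 hall)
    obtain ⟨c, hmate⟩ := exists_mate hadj.2.2 ha ha1
    exact ⟨swapEl a c * g, by rw [← conjBy_conjBy, ← hg, hmate.swap_left]⟩

theorem kRoot : IsKRootSubgroupSet L (famG N F q) := by
  refine ⟨isRootSubgroupSet C e he hsurj, fun A hA B hB hpair => ?_⟩
  obtain ⟨p, hp, hpiso, rfl⟩ := mem_famG.1 hA
  obtain ⟨r, hr, hriso, rfl⟩ := mem_famG.1 hB
  exact (pair_of_ne C e he hsurj hpiso hr hriso (h_ne_of_pair C hp hpiso hr hriso hpair)).2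

end Main

omit C in
theorem exists_field [Fintype F] (C : Setup F q) (hF : Fintype.card F = q ^ 2) :
    ∃ (L : Type) (_ : Field L) (_ : Fintype L) (e : L →+* F),
      Fintype.card L = q ∧ (∀ a, C.σ (e a) = e a) ∧ ∀ b, C.σ b = b → ∃ a, e a = b := by
  classical
  let K : Subfield F :=
    { carrier := {x | C.σ x = x}
      mul_mem' := fun {a b} ha hb => by
        show C.σ (a * b) = a * b; rw [map_mul, ha, hb]
      one_mem' := map_one C.σ
      add_mem' := fun {a b} ha hb => by
        show C.σ (a + b) = a + b; rw [map_add, ha, hb]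
      zero_mem' := map_zero C.σ
      neg_mem' := fun {a} ha => by
        show C.σ (-a) = -a; rw [map_neg, ha]
      inv_mem' := fun a ha => by
        show C.σ a⁻¹ = a⁻¹; rw [map_inv₀, ha] }
  haveI : Finite F := Finite.of_fintype F
  haveI : Fintype K := Fintype.ofFinite K
  -- the fixed field has `q` elements: the kernel and the image of the trace
  have hcard : Fintype.card K = q := by
    let tr : F →+ F :=
      { toFun := fun x => x + C.σ x
        map_zero' := by simp
        map_add' := fun x y => by rw [map_add]; abel }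
    have hker : Nat.card tr.ker = Nat.card K := by
      refine Nat.card_congr
        ⟨fun a => ⟨-(a.1 * C.δ), fixed_of_skew (C := C) a.2⟩,
          fun b => ⟨-(b.1 * C.δ⁻¹), skew_of_fixed (C := C) b.1 b.2⟩,
          fun a => ?_, fun b => ?_⟩
      · apply Subtype.ext
        show -(-(a.1 * C.δ) * C.δ⁻¹) = a.1
        rw [neg_mul, neg_neg, mul_inv_cancel_right₀ C.δ_ne]
      · apply Subtype.ext
        show -(-(b.1 * C.δ⁻¹) * C.δ) = b.1
        rw [neg_mul, neg_neg, inv_mul_cancel_right₀ C.δ_ne]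
    have hrange : Nat.card tr.range = Nat.card K := by
      refine Nat.card_congr (Equiv.subtypeEquivRight fun x => ⟨?_, fun hx => C.trace x hx⟩)
      rintro ⟨l, rfl⟩
      show C.σ (l + C.σ l) = l + C.σ l
      rw [map_add, C.invol, add_comm]
    have h := tr.ker.card_mul_index
    rw [AddSubgroup.index_ker, hker, hrange, Nat.card_eq_fintype_card, Nat.card_eq_fintype_card, hF,
      ← pow_two] at h
    exact Nat.pow_left_injective two_ne_zero h
  let eq : K ≃ Fin q := Fintype.equivFinOfCardEq hcard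
  letI : Field (Fin q) := eq.symm.field
  exact ⟨Fin q, inferInstance, inferInstance, K.subtype.comp (eq.symm.ringEquiv).toRingHom,
    Fintype.card_fin q, fun a => ((eq.symm a : K)).2, fun b hb => ⟨eq ⟨b, hb⟩, by
      show ((eq.symm (eq ⟨b, hb⟩) : K) : F) = b
      rw [eq.symm_apply_apply]⟩⟩

omit C in
theorem famG_nonempty [Fintype F] (C : Setup F q) (hF : Fintype.card F = q ^ 2) (n : ℕ) :
    (famG (n + 2) F q).Nonempty := by
  classical
  obtain ⟨a, ha⟩ := CfsgLib.UnitaryEmbed.exists_norm hF (-1 : F) (by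
    rw [← C.pow_eq, map_neg, map_one])
  let p : Fin (n + 2) → F := Pi.single 0 1 + a • Pi.single 1 1
  have h01 : hermForm (n + 2) F q (Pi.single (0 : Fin (n + 2)) 1) (Pi.single 1 1) = 0 := by
    rw [h_single C]; simp
  have h00 : ∀ i : Fin (n + 2), hermForm (n + 2) F q (Pi.single i 1) (Pi.single i 1) = 1 := fun i => by
    rw [h_single C]; simp
  refine ⟨_, mem_famG.2 ⟨p, ?_, ?_, rfl⟩⟩
  · intro h
    have := congrFun h 0
    simp [p] at this
  · simp only [p, h_add_left, h_add_right C, h_smul_left, h_smul_right C, h00, h01,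
      h_eq_zero_comm C h01, mul_zero, add_zero, zero_add, mul_one]
    rw [C.pow_eq, ← pow_succ, ha, add_neg_cancel]

end CfsgLib.RootGroups.UnitRoot

namespace CfsgLib.RootGroups.UnitRoot

theorem main (F : Type*) [Field F] [Fintype F] (q n : ℕ) (hF : Fintype.card F = q ^ 2) :
    Cfsg.IsRootSubgroupClass (famG (n + 2) F q) ∧ Cfsg.IsDegenerateRootSet (famG (n + 2) F q) ∧
      (∃ (L : Type) (_ : Field L) (_ : Fintype L), Fintype.card L = q ∧
        Cfsg.IsKRootSubgroupSet L (famG (n + 2) F q)) ∧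
      Cfsg.IsConnectedFamily (Cfsg.FAdj (famG (n + 2) F q)) (famG (n + 2) F q) := by
  obtain ⟨C⟩ := exists_setup hF
  obtain ⟨L, _, _, e, hcard, he, hsurj⟩ := exists_field C hF
  exact ⟨⟨isRootSubgroupSet C e he hsurj, oneClass C e he hsurj (famG_nonempty C hF n)⟩,
    degenerate C e he hsurj, ⟨L, _, _, hcard, kRoot C e he hsurj⟩, connected C e he hsurj⟩

end CfsgLib.RootGroups.UnitRoot
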